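import Mathlib

/-!
Dimension theory of finitely generated domains over a field: `dim A = trdeg`, every maximal ideal
has height `dim A`, covering primes drop the dimension by one (catenarity).
-/

universe u

namespace Groth.Variety2.Dim

theorem height_isMaximal_mvPolynomial (k : Type u) [Field k] :
    ∀ (n : ℕ) (m : Ideal (MvPolynomial (Fin n) k)), m.IsMaximal → m.height = n
  | 0, m, hm => by
    let e := (MvPolynomial.isEmptyRingEquiv k (Fin 0))
    have hF : IsField (MvPolynomial (Fin 0) k) := e.toMulEquiv.isField (Field.toIsField k)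
    have : m = ⊥ := by
      by_contra hne
      exact Ring.not_isField_iff_exists_ideal_bot_lt_and_lt_top.2 ⟨m, bot_lt_iff_ne_bot.2 hne, hm.ne_top.lt_top⟩ hF
    simp [this]
  | n + 1, m, hm => by
    let e := (MvPolynomial.finSuccEquiv k n).toRingEquiv
    have hM : (m.map e).IsMaximal := Ideal.map_isMaximal_of_equiv e
    rw [← e.height_map m, Polynomial.height_eq_height_add_one ((m.map e).under (MvPolynomial (Fin n) k)) (m.map e),
      height_isMaximal_mvPolynomial k n ((m.map e).under (MvPolynomial (Fin n) k))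
        (Polynomial.isMaximal_comap_C_of_isJacobsonRing (m.map e))]
    simp

theorem ringKrullDim_eq_of_isIntegral (A B : Type u) [CommRing A] [CommRing B] [Algebra A B]
    [Algebra.IsIntegral A B] (hinj : Function.Injective (algebraMap A B)) :
    ringKrullDim B = ringKrullDim A := by
  refine le_antisymm (Order.krullDim_le_of_strictMono (PrimeSpectrum.comap (algebraMap A B))
    fun p q hpq => Ideal.IsIntegral.comap_lt_comap (R := A) (I := p.asIdeal) (J := q.asIdeal) hpq) ?_
  refine iSup_le fun l => ?_
  obtain ⟨Q, -, hQp, hQ⟩ := Ideal.exists_ideal_over_prime_of_isIntegral l.head.asIdeal (⊥ : Ideal B)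
    (by rw [← RingHom.ker_eq_comap_bot, (RingHom.injective_iff_ker_eq_bot _).mp hinj]; exact bot_le)
  have : Q.LiesOver l.head.asIdeal := ⟨hQ.symm⟩
  obtain ⟨L, hL, -⟩ := Ideal.exists_ltSeries_of_hasGoingUp l Q
  exact le_of_eq_of_le (by rw [hL]) (le_iSup _ L)

variable (k : Type u) [Field k] (A : Type u) [CommRing A] [IsDomain A] [Algebra k A]
  [Algebra.FiniteType k A]

/-- The dimension of a finitely generated domain, with all maximal ideals of full height. -/
theorem exists_dim : ∃ n : ℕ, Algebra.trdeg k (FractionRing A) = n ∧ ringKrullDim A = n ∧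
    ∀ m : Ideal A, m.IsMaximal → m.height = n := by
  obtain ⟨s, g, hinj, hint⟩ := exists_integral_inj_algHom_of_fg k A
  algebraize [g.toRingHom]
  have : FaithfulSMul (MvPolynomial (Fin s) k) A :=
    (faithfulSMul_iff_algebraMap_injective _ _).2 hinj
  have : Algebra.IsIntegral (MvPolynomial (Fin s) k) A := ⟨hint⟩
  have hdim : ringKrullDim A = (s : ℕ) := by
    rw [ringKrullDim_eq_of_isIntegral (MvPolynomial (Fin s) k) A hinj,
      MvPolynomial.ringKrullDim_of_isNoetherianRing, ringKrullDim_eq_zero_of_field]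
    simp
  refine ⟨s, ?_, hdim, fun m hm => ?_⟩
  · have : IsScalarTower k (MvPolynomial (Fin s) k) (FractionRing A) :=
      IsScalarTower.of_algebraMap_eq fun c => by
        rw [IsScalarTower.algebraMap_apply k A (FractionRing A),
          IsScalarTower.algebraMap_apply (MvPolynomial (Fin s) k) A (FractionRing A)]
        exact congrArg _ (g.commutes c).symm
    have hfaith : FaithfulSMul (MvPolynomial (Fin s) k) (FractionRing A) := by
      rw [faithfulSMul_iff_algebraMap_injective, IsScalarTower.algebraMap_eq _ A (FractionRing A)]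
      exact (IsFractionRing.injective A (FractionRing A)).comp hinj
    have halg : Algebra.IsAlgebraic (MvPolynomial (Fin s) k) (FractionRing A) := by
      have : Algebra.IsAlgebraic A (FractionRing A) := IsLocalization.isAlgebraic _ (nonZeroDivisors A)
      exact Algebra.IsAlgebraic.trans _ A _
    rw [← trdeg_add_eq k (MvPolynomial (Fin s) k) (A := FractionRing A),
      trdeg_eq_zero (R := MvPolynomial (Fin s) k) (A := FractionRing A), MvPolynomial.trdeg_of_isDomain]
    simp
  · refine le_antisymm ?_ ?_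
    · have := Ideal.height_le_ringKrullDim_of_ne_top (I := m) hm.ne_top
      rw [hdim] at this
      exact_mod_cast this
    · let M := m.under (MvPolynomial (Fin s) k)
      have hM : M.IsMaximal := Ideal.isMaximal_comap_of_isIntegral_of_isMaximal m
      have h := height_isMaximal_mvPolynomial k s M hM
      change (⟨M, inferInstance⟩ : PrimeSpectrum _).asIdeal.height = _ at h
      change _ ≤ (⟨m, inferInstance⟩ : PrimeSpectrum A).asIdeal.height
      rw [PrimeSpectrum.height_eq_orderHeight] at h ⊢
      obtain ⟨l, hl, hlen⟩ := Order.exists_series_of_height_eq_coe (⟨M, inferInstance⟩ : PrimeSpectrum _) h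
      have : m.LiesOver l.last.asIdeal := ⟨by rw [hl]⟩
      obtain ⟨L, hL, hLlast, -⟩ := Ideal.exists_ltSeries_of_hasGoingDown l m
      have := Order.length_le_height (p := L) (x := (⟨m, inferInstance⟩ : PrimeSpectrum A)) hLlast.le
      rw [hL, hlen] at this
      exact this

include k in
/-- A height one prime drops the dimension by one. -/
theorem ringKrullDim_quotient_add_one_of_covBy_bot (p : PrimeSpectrum A)
    (hp : (⊥ : PrimeSpectrum A) ⋖ p) : ringKrullDim (A ⧸ p.asIdeal) + 1 = ringKrullDim A := by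
  obtain ⟨s, g, hinj, hint⟩ := exists_integral_inj_algHom_of_fg k A
  algebraize [g.toRingHom]
  have : FaithfulSMul (MvPolynomial (Fin s) k) A :=
    (faithfulSMul_iff_algebraMap_injective _ _).2 hinj
  have : Algebra.IsIntegral (MvPolynomial (Fin s) k) A := ⟨hint⟩
  let q := p.asIdeal.under (MvPolynomial (Fin s) k)
  have hbot : p.asIdeal ≠ ⊥ := fun h => hp.lt.ne (PrimeSpectrum.ext h.symm)
  have hq : q ≠ ⊥ := fun h => hbot (Ideal.IsIntegral.eq_bot_of_comap_eq_bot (R := MvPolynomial (Fin s) k) h)
  obtain ⟨x, hxq, hx⟩ := Ideal.IsPrime.exists_mem_prime_of_ne_bot (I := q) inferInstance hq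
  have hxprime : (Ideal.span {x}).IsPrime := (Ideal.span_singleton_prime hx.ne_zero).2 hx
  have hspan : Ideal.span {x} = q := by
    refine eq_of_le_of_not_lt ((Ideal.span_singleton_le_iff_mem _).2 hxq) fun hlt => ?_
    obtain ⟨P, hP, hPp, hPo⟩ := Ideal.exists_ideal_lt_liesOver_of_lt (p := Ideal.span {x}) p.asIdeal hlt
    refine hp.2 (c := ⟨P, hPp⟩) (bot_lt_iff_ne_bot.2 fun h => ?_) hP
    have : P = ⊥ := congrArg PrimeSpectrum.asIdeal h
    have h' := hPo.over
    rw [this, Ideal.under_def, Ideal.comap_bot_of_injective _ (FaithfulSMul.algebraMap_injective _ _), Ideal.span_singleton_eq_bot] at h'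
    exact hx.ne_zero h'
  have e1 : ringKrullDim (A ⧸ p.asIdeal) = ringKrullDim (MvPolynomial (Fin s) k ⧸ q) :=
    ringKrullDim_eq_of_isIntegral _ _ Ideal.algebraMap_quotient_injective
  rw [e1, ← hspan, ringKrullDim_eq_of_isIntegral (MvPolynomial (Fin s) k) A hinj]
  obtain ⟨M, hM, hxM⟩ := Ideal.exists_le_maximal _ hxprime.ne_top
  refine Module.ringKrullDim_quotient_add_one_of_mem_nonZeroDivisors (mem_nonZeroDivisors_of_ne_zero hx.ne_zero)
    (p := M) ?_ ((Ideal.span_singleton_le_iff_mem _).1 hxM)
  rw [height_isMaximal_mvPolynomial k s M hM, MvPolynomial.ringKrullDim_of_isNoetherianRing,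
    ringKrullDim_eq_zero_of_field]
  simp

include k in
omit [IsDomain A] in
/-- Covering primes drop the dimension of the quotient by one. -/
theorem ringKrullDim_quotient_add_one_of_covBy {q p : PrimeSpectrum A} (h : q ⋖ p) :
    ringKrullDim (A ⧸ p.asIdeal) + 1 = ringKrullDim (A ⧸ q.asIdeal) := by
  let π := Ideal.Quotient.mk q.asIdeal
  have hker : RingHom.ker π ≤ p.asIdeal := by rw [Ideal.mk_ker]; exact h.le
  let p' : PrimeSpectrum (A ⧸ q.asIdeal) :=
    ⟨p.asIdeal.map π, Ideal.map_isPrime_of_surjective Ideal.Quotient.mk_surjective hker⟩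
  have hcomap : p'.asIdeal.comap π = p.asIdeal := by
    rw [Ideal.comap_map_of_surjective' _ Ideal.Quotient.mk_surjective, sup_eq_left]
    exact hker
  have hb : (⊥ : PrimeSpectrum (A ⧸ q.asIdeal)).asIdeal.comap π = q.asIdeal := by
    rw [show (⊥ : PrimeSpectrum (A ⧸ q.asIdeal)).asIdeal = ⊥ from rfl]
    exact Ideal.mk_ker
  have hlt : ∀ a b : PrimeSpectrum (A ⧸ q.asIdeal), a < b → a.asIdeal.comap π < b.asIdeal.comap π :=
    fun a b hab => lt_of_le_of_ne (Ideal.comap_mono hab.le) fun e =>
      hab.ne (PrimeSpectrum.ext (Ideal.comap_injective_of_surjective _ Ideal.Quotient.mk_surjective e))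
  have hcov : (⊥ : PrimeSpectrum (A ⧸ q.asIdeal)) ⋖ p' := by
    refine ⟨bot_lt_iff_ne_bot.2 fun hh => h.lt.ne (PrimeSpectrum.ext ?_), fun c h1 h2 => ?_⟩
    · rw [← hb, ← hcomap, hh]
    · refine h.2 (c := ⟨c.asIdeal.comap π, inferInstance⟩) ?_ ?_
      · change q.asIdeal < c.asIdeal.comap π
        exact lt_of_eq_of_lt hb.symm (hlt _ _ h1)
      · change c.asIdeal.comap π < p.asIdeal
        exact lt_of_lt_of_eq (hlt _ _ h2) hcomap
  have := ringKrullDim_quotient_add_one_of_covBy_bot k (A ⧸ q.asIdeal) p' hcov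
  rwa [ringKrullDim_eq_of_ringEquiv (DoubleQuot.quotQuotEquivQuotOfLE h.le)] at this

include k in
omit [IsDomain A] in
/-- Saturated chains: the length is the drop of the dimension. -/
theorem ringKrullDim_quotient_add_length (c : LTSeries (PrimeSpectrum A))
    (hsat : ∀ i : Fin c.length, c i.castSucc ⋖ c i.succ) (i : Fin (c.length + 1)) :
    ringKrullDim (A ⧸ (c i).asIdeal) + (i : ℕ) = ringKrullDim (A ⧸ c.head.asIdeal) := by
  induction i using Fin.induction with
  | zero => simp [RelSeries.head]; rfl
  | succ i ih =>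
    rw [← ih, ← ringKrullDim_quotient_add_one_of_covBy k A (hsat i), Fin.val_succ, Fin.val_castSucc,
      Nat.cast_add, Nat.cast_one, add_assoc, add_comm ((i : ℕ) : WithBot ℕ∞) 1]

end Groth.Variety2.Dim
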