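import Mathlib
import Groth.Agent.Variety2.DimAffine

/-!
Dimension of points of schemes locally of finite type over a field: the height of a point in the
specialization order is the transcendence degree of its residue field.
-/

universe u

open CategoryTheory AlgebraicGeometry

namespace Groth.Variety2.Dim

section Alg

variable (k : Type u) [Field k] (A : Type u) [CommRing A] [Algebra k A] [Algebra.FiniteType k A]

include k in
theorem exists_dim_quotient (p : PrimeSpectrum A) :
    ∃ n : ℕ, ringKrullDim (A ⧸ p.asIdeal) = n ∧ Algebra.trdeg k (FractionRing (A ⧸ p.asIdeal)) = n := by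
  obtain ⟨n, h1, h2, -⟩ := exists_dim k (A ⧸ p.asIdeal)
  exact ⟨n, h2, h1⟩

/-- Chains starting above `p` are bounded by the dimension of the quotient. -/
theorem length_le_of_le_head (p : PrimeSpectrum A) (n : ℕ) (hn : ringKrullDim (A ⧸ p.asIdeal) = n)
    (l : LTSeries (PrimeSpectrum A)) (hl : p ≤ l.head) : l.length ≤ n := by
  rw [ringKrullDim_quotient] at hn
  let l' : LTSeries (PrimeSpectrum.zeroLocus (R := A) p.asIdeal) :=
    ⟨l.length, fun i => ⟨l i, fun x hx => l.monotone (Fin.zero_le i) (hl hx)⟩, fun i => l.step i⟩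
  have : (l.length : WithBot ℕ∞) ≤ (n : ℕ) := hn ▸ Order.LTSeries.length_le_krullDim l'
  exact_mod_cast this

include k in
/-- There is a chain of full length between a prime and any maximal ideal containing it. -/
theorem exists_series_eq_dim (p : PrimeSpectrum A) (n : ℕ) (hn : ringKrullDim (A ⧸ p.asIdeal) = n)
    (m : PrimeSpectrum A) (hm : m.asIdeal.IsMaximal) (hpm : p ≤ m) :
    ∃ l : LTSeries (PrimeSpectrum A), p ≤ l.head ∧ l.last = m ∧ l.length = n := by
  obtain ⟨n', -, hn', hmax⟩ := exists_dim k (A ⧸ p.asIdeal)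
  obtain rfl : n' = n := by
    rw [hn] at hn'
    exact_mod_cast hn'.symm
  let π := Ideal.Quotient.mk p.asIdeal
  have hsurj : Function.Surjective π := Ideal.Quotient.mk_surjective
  have hker : RingHom.ker π ≤ m.asIdeal := by rw [Ideal.mk_ker]; exact hpm
  have hm' : (m.asIdeal.map π).IsMaximal :=
    (Ideal.map_eq_top_or_isMaximal_of_surjective π hsurj hm).resolve_left fun h => hm.ne_top <| by
      have h' := Ideal.comap_map_of_surjective' π hsurj m.asIdeal
      rwa [h, Ideal.comap_top, sup_eq_left.2 hker, eq_comm] at h'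
  have hh := hmax _ hm'
  let M : PrimeSpectrum (A ⧸ p.asIdeal) := ⟨m.asIdeal.map π, hm'.isPrime⟩
  change M.asIdeal.height = _ at hh
  rw [PrimeSpectrum.height_eq_orderHeight] at hh
  obtain ⟨l, hl, hlen⟩ := Order.exists_series_of_height_eq_coe M hh
  refine ⟨l.map (PrimeSpectrum.comap π) fun a b hab => lt_of_le_of_ne (Ideal.comap_mono hab.le)
    fun e => hab.ne (PrimeSpectrum.ext (Ideal.comap_injective_of_surjective π hsurj
      (congrArg PrimeSpectrum.asIdeal e))), ?_, ?_, hlen⟩
  · rw [LTSeries.head_map]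
    intro x hx
    change π x ∈ l.head.asIdeal
    rw [Ideal.Quotient.eq_zero_iff_mem.2 hx]
    exact zero_mem _
  · rw [LTSeries.last_map, hl]
    apply PrimeSpectrum.ext
    change (m.asIdeal.map π).comap π = m.asIdeal
    rw [Ideal.comap_map_of_surjective' π hsurj, sup_eq_left.2 hker]

end Alg

variable {k : Type u} [Field k] {X Y : Scheme.{u}}

theorem lt_iff {a b : X} : a < b ↔ b ⤳ a ∧ a ≠ b := by
  rw [lt_iff_le_not_ge, Scheme.le_iff_specializes, Scheme.le_iff_specializes]
  exact ⟨fun h => ⟨h.1, fun e => h.2 (e ▸ specializes_rfl)⟩,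
    fun h => ⟨h.1, fun h' => h.2 (h'.antisymm h.1).eq⟩⟩

theorem le_fromSpec_iff {U : X.Opens} (hU : IsAffineOpen U) (q q' : PrimeSpectrum Γ(X, U)) :
    hU.fromSpec q' ≤ hU.fromSpec q ↔ q ≤ q' := by
  rw [Scheme.le_iff_specializes, hU.fromSpec.isOpenEmbedding.isInducing.specializes_iff]
  exact (PrimeSpectrum.le_iff_specializes q q').symm

theorem lt_fromSpec_iff {U : X.Opens} (hU : IsAffineOpen U) (q q' : PrimeSpectrum Γ(X, U)) :
    hU.fromSpec q' < hU.fromSpec q ↔ q < q' := by
  rw [lt_iff_le_not_ge, lt_iff_le_not_ge, le_fromSpec_iff, le_fromSpec_iff]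

theorem exists_prime_of_mem {U : X.Opens} (hU : IsAffineOpen U) {x : X} (hx : x ∈ U) :
    ∃ q : PrimeSpectrum Γ(X, U), hU.fromSpec q = x :=
  ⟨_, hU.fromSpec_primeIdealOf ⟨x, hx⟩⟩

theorem fromSpec_mem {U : X.Opens} (hU : IsAffineOpen U) (q : PrimeSpectrum Γ(X, U)) :
    hU.fromSpec q ∈ U := hU.range_fromSpec.le ⟨q, rfl⟩

variable (f : X ⟶ Spec (CommRingCat.of k)) [LocallyOfFiniteType f]

include f in
theorem jacobsonSpace : JacobsonSpace X := LocallyOfFiniteType.jacobsonSpace f

include f in
theorem exists_algebra {U : X.Opens} (hU : IsAffineOpen U) :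
    ∃ φ : CommRingCat.of k ⟶ Γ(X, U), Spec.map φ = hU.fromSpec ≫ f ∧ φ.hom.FiniteType := by
  refine ⟨Spec.preimage _, Spec.map_preimage _, ?_⟩
  have : LocallyOfFiniteType (Spec.map (Spec.preimage (hU.fromSpec ≫ f))) := by
    rw [Spec.map_preimage]; infer_instance
  exact (HasRingHomProperty.Spec_iff (P := @LocallyOfFiniteType)).1 this

/-- The image in `X` of a chain of primes, reversed. -/
noncomputable def pointSeries {U : X.Opens} (hU : IsAffineOpen U) (l : LTSeries (PrimeSpectrum Γ(X, U))) :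
    LTSeries X :=
  ⟨l.length, fun i => hU.fromSpec (l i.rev), fun i => by
    change hU.fromSpec (l i.castSucc.rev) < hU.fromSpec (l i.succ.rev)
    rw [lt_fromSpec_iff, Fin.rev_castSucc, Fin.rev_succ]
    exact l.step i.rev⟩

omit [LocallyOfFiniteType f] in
include f in
/-- A series in `X` all of whose points are in an affine open, as a series of primes. -/
theorem exists_primeSeries {U : X.Opens} (hU : IsAffineOpen U) (l : LTSeries X) (hl : ∀ i, l i ∈ U) :
    ∃ L : LTSeries (PrimeSpectrum Γ(X, U)), L.length = l.length ∧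
      hU.fromSpec L.head = l.last ∧ hU.fromSpec L.last = l.head := by
  choose q hq using fun i => exists_prime_of_mem hU (hl i)
  refine ⟨⟨l.length, fun i => q i.rev, fun i => ?_⟩, rfl, ?_, ?_⟩
  · show q i.castSucc.rev < q i.succ.rev
    rw [← lt_fromSpec_iff hU, hq, hq, Fin.rev_castSucc, Fin.rev_succ]
    exact l.step i.rev
  · change hU.fromSpec (q (0 : Fin (l.length + 1)).rev) = _
    rw [hq, Fin.rev_zero]; rfl
  · change hU.fromSpec (q (Fin.last l.length).rev) = _
    rw [hq, Fin.rev_last]; rfl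

include f in
/-- The height of a point is the dimension of the closure computed in any affine neighbourhood. -/
theorem height_fromSpec {U : X.Opens} (hU : IsAffineOpen U) (p : PrimeSpectrum Γ(X, U)) (n : ℕ)
    (hn : ringKrullDim (Γ(X, U) ⧸ p.asIdeal) = n) : Order.height (hU.fromSpec p) = n := by
  have := jacobsonSpace f
  obtain ⟨φ, hφ, hft⟩ := exists_algebra f hU
  let := φ.hom.toAlgebra
  have : Algebra.FiniteType k Γ(X, U) := hft
  refine le_antisymm (Order.height_le_iff.2 fun l hl => ?_) ?_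
  · obtain ⟨z, hz, hzc⟩ := nonempty_inter_closedPoints (Z := closure {l.head})
      ⟨_, subset_closure rfl⟩ isClosed_closure.isLocallyClosed
    have hzle : z ≤ l.head := specializes_iff_mem_closure.2 hz
    obtain ⟨V, hV, hzV, -⟩ := exists_isAffineOpen_mem_and_subset (U := ⊤) (Set.mem_univ z)
    have hlV : ∀ i, l i ∈ V := fun i =>
      (Scheme.le_iff_specializes.1 (hzle.trans (l.head_le i))).mem_open V.2 hzV
    obtain ⟨ψ, hψ, hψft⟩ := exists_algebra f hV
    let := ψ.hom.toAlgebra
    have : Algebra.FiniteType k Γ(X, V) := hψft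
    have hxV : hU.fromSpec p ∈ V :=
      (Scheme.le_iff_specializes.1 (hzle.trans (l.head_le_last.trans hl))).mem_open V.2 hzV
    obtain ⟨p', hp'⟩ := exists_prime_of_mem hV hxV
    obtain ⟨n', hn', -⟩ := exists_dim_quotient k Γ(X, V) p'
    -- a closed point of `X` in both opens below `x`
    obtain ⟨w, ⟨hwx, hwU, hwV⟩, hwc⟩ := nonempty_inter_closedPoints
      (Z := closure {hU.fromSpec p} ∩ ((U : Set X) ∩ V))
      ⟨_, subset_closure rfl, fromSpec_mem hU p, hxV⟩
      (isClosed_closure.isLocallyClosed.inter (U.2.inter V.2).isLocallyClosed)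
    have hwle : w ≤ hV.fromSpec p' := by
      rw [hp']; exact specializes_iff_mem_closure.2 hwx
    obtain ⟨mw, rfl⟩ := exists_prime_of_mem hV hwV
    have hw' : IsClosed ({mw} : Set (PrimeSpectrum Γ(X, V))) := by
      have h := (mem_closedPoints_iff.1 hwc).preimage hV.fromSpec.continuous
      have e : (hV.fromSpec : Spec Γ(X, V) → X) ⁻¹' {hV.fromSpec mw} = ({mw} : Set (Spec Γ(X, V))) := by
        ext q
        exact ⟨fun hq => hV.fromSpec.isOpenEmbedding.injective hq, fun hq => congrArg _ hq⟩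
      exact e ▸ h
    have hmax : mw.asIdeal.IsMaximal := (PrimeSpectrum.isClosed_singleton_iff_isMaximal mw).1 hw'
    obtain ⟨S, hS1, hS2, hS3⟩ := exists_series_eq_dim k Γ(X, V) p' n' hn' mw hmax
      ((le_fromSpec_iff hV _ _).1 hwle)
    obtain ⟨T, hT1, hT2, -⟩ := exists_primeSeries f hU (pointSeries hV S) fun i =>
      (Scheme.le_iff_specializes.1 ((le_fromSpec_iff hV _ _).2
        ((S.monotone (Fin.le_last i.rev)).trans hS2.le))).mem_open U.2 hwU
    have hTp : p ≤ T.head := by
      rw [← le_fromSpec_iff hU, hT2, ← hp']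
      change hV.fromSpec (S (Fin.last S.length).rev) ≤ _
      rw [Fin.rev_last, le_fromSpec_iff]
      exact hS1
    have h1 : n' ≤ n := by
      have := length_le_of_le_head Γ(X, U) p n hn T hTp
      have : T.length = n' := hT1.trans hS3
      omega
    obtain ⟨L, hL1, hL2, -⟩ := exists_primeSeries f hV l hlV
    have h2 := length_le_of_le_head Γ(X, V) p' n' hn' L (by
      rw [← le_fromSpec_iff hV, hL2, hp']; exact hl)
    exact_mod_cast (by omega : l.length ≤ n)
  · obtain ⟨m, hm, hpm⟩ := Ideal.exists_le_maximal _ p.isPrime.ne_top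
    obtain ⟨S, hS1, -, hS3⟩ := exists_series_eq_dim k Γ(X, U) p n hn ⟨m, hm.isPrime⟩ hm hpm
    have := Order.length_le_height (p := pointSeries hU S) (x := hU.fromSpec p) (by
      change hU.fromSpec (S (Fin.last S.length).rev) ≤ _
      rw [Fin.rev_last, le_fromSpec_iff]
      exact hS1)
    rwa [show (pointSeries hU S).length = n from hS3] at this

include f in
theorem height_ne_top (x : X) : Order.height x ≠ ⊤ := by
  obtain ⟨U, hU, hxU, -⟩ := exists_isAffineOpen_mem_and_subset (U := ⊤) (Set.mem_univ x)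
  obtain ⟨q, rfl⟩ := exists_prime_of_mem hU hxU
  obtain ⟨φ, hφ, hft⟩ := exists_algebra f hU
  let := φ.hom.toAlgebra
  have : Algebra.FiniteType k Γ(X, U) := hft
  obtain ⟨n, hn, -⟩ := exists_dim_quotient k Γ(X, U) q
  rw [height_fromSpec f hU q n hn]
  exact ENat.coe_ne_top n

include f in
/-- An immediate specialization drops the height by exactly one. -/
theorem height_eq_of_covBy {a b : X} (h : a ⋖ b) : Order.height b = Order.height a + 1 := by
  obtain ⟨U, hU, haU, -⟩ := exists_isAffineOpen_mem_and_subset (U := ⊤) (Set.mem_univ a)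
  have hbU : b ∈ U := (Scheme.le_iff_specializes.1 h.le).mem_open U.2 haU
  obtain ⟨p, rfl⟩ := exists_prime_of_mem hU haU
  obtain ⟨q, rfl⟩ := exists_prime_of_mem hU hbU
  obtain ⟨φ, hφ, hft⟩ := exists_algebra f hU
  let := φ.hom.toAlgebra
  have : Algebra.FiniteType k Γ(X, U) := hft
  obtain ⟨n, hn, -⟩ := exists_dim_quotient k Γ(X, U) p
  obtain ⟨m, hm, -⟩ := exists_dim_quotient k Γ(X, U) q
  have hcov : q ⋖ p := ⟨(lt_fromSpec_iff hU q p).1 h.lt, fun c h1 h2 =>
    h.2 ((lt_fromSpec_iff hU c p).2 h2) ((lt_fromSpec_iff hU q c).2 h1)⟩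
  have := ringKrullDim_quotient_add_one_of_covBy k Γ(X, U) hcov
  rw [hn, hm] at this
  rw [height_fromSpec f hU p n hn, height_fromSpec f hU q m hm]
  exact_mod_cast this.symm

end Groth.Variety2.Dim
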