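import Mathlib
import Groth.Agent.Variety2.DimPoints

/-!
Height of a point = transcendence degree of its residue field; additivity along morphisms.
-/

universe u

open CategoryTheory AlgebraicGeometry

namespace Groth.Variety2.Dim

variable {k : Type u} [Field k] {X Y : Scheme.{u}}

/-- The structure map `k → κ(x)` of a point of a `k`-scheme. -/
noncomputable def resHom (f : X ⟶ Spec (CommRingCat.of k)) (x : X) : k →+* X.residueField x :=
  (Spec.preimage (X.fromSpecResidueField x ≫ f)).hom

theorem resHom_spec (f : X ⟶ Spec (CommRingCat.of k)) (x : X) :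
    Spec.map (CommRingCat.ofHom (resHom f x)) = X.fromSpecResidueField x ≫ f :=
  Spec.map_preimage _

/-- The transcendence degree of `κ(x)` over `k`. -/
noncomputable def trdegAt (f : X ⟶ Spec (CommRingCat.of k)) (x : X) : Cardinal.{u} :=
  @Algebra.trdeg k (X.residueField x) _ _ (resHom f x).toAlgebra

variable (f : X ⟶ Spec (CommRingCat.of k)) [LocallyOfFiniteType f]

/-- The transcendence degree of the residue field at a point is the height of the point. -/
theorem exists_trdegAt_eq_height (x : X) :
    ∃ n : ℕ, trdegAt f x = n ∧ Order.height x = n := by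
  obtain ⟨U, hU, hxU, -⟩ := exists_isAffineOpen_mem_and_subset (U := ⊤) (Set.mem_univ x)
  obtain ⟨φ, hφ, hft⟩ := exists_algebra f hU
  let := φ.hom.toAlgebra
  have : Algebra.FiniteType k Γ(X, U) := hft
  let p := hU.primeIdealOf ⟨x, hxU⟩
  obtain ⟨n, hn, htr⟩ := exists_dim_quotient k Γ(X, U) p
  refine ⟨n, ?_, by rw [← height_fromSpec f hU p n hn, hU.fromSpec_primeIdealOf]⟩
  let ev : Γ(X, U) ⟶ X.residueField x := X.evaluation U x hxU
  let := (X.presheaf.germ U x hxU).hom.toAlgebra
  have hloc : IsLocalization.AtPrime (X.presheaf.stalk x) p.asIdeal := hU.isLocalization_stalk ⟨x, hxU⟩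
  have hker : RingHom.ker ev.hom = p.asIdeal := by
    ext a
    rw [RingHom.mem_ker]
    change IsLocalRing.residue (X.presheaf.stalk x) (algebraMap Γ(X, U) _ a) = 0 ↔ _
    rw [IsLocalRing.residue_eq_zero_iff, IsLocalization.AtPrime.to_map_mem_maximal_iff (X.presheaf.stalk x) p.asIdeal a]
  let ψ : Γ(X, U) ⧸ p.asIdeal →+* X.residueField x :=
    Ideal.Quotient.lift p.asIdeal ev.hom fun a ha => by rwa [← RingHom.mem_ker, hker]
  let := ψ.toAlgebra
  let := (resHom f x).toAlgebra
  have : FaithfulSMul (Γ(X, U) ⧸ p.asIdeal) (X.residueField x) := by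
    rw [faithfulSMul_iff_algebraMap_injective]
    exact RingHom.lift_injective_of_ker_le_ideal _ _ hker.le
  have : IsFractionRing (Γ(X, U) ⧸ p.asIdeal) (X.residueField x) := by
    refine IsFractionRing.of_field _ _ fun z => ?_
    obtain ⟨t, rfl⟩ := IsLocalRing.residue_surjective (R := X.presheaf.stalk x) z
    obtain ⟨a, s, hs, rfl⟩ := IsLocalization.exists_mk'_eq p.asIdeal.primeCompl t
    refine ⟨Ideal.Quotient.mk _ a, Ideal.Quotient.mk _ s.1, ?_⟩
    change _ = ev a / ev s.1
    rw [eq_div_iff]
    · change IsLocalRing.residue _ _ * IsLocalRing.residue _ (algebraMap Γ(X, U) _ s.1) =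
        IsLocalRing.residue _ (algebraMap Γ(X, U) _ a)
      exact (map_mul (IsLocalRing.residue _) _ _).symm.trans
        (congrArg _ (IsLocalization.mk'_spec (X.presheaf.stalk x) a s))
    · intro h
      exact s.2 (hker.le h)
  have hev : CommRingCat.ofHom (resHom f x) = φ ≫ ev := by
    apply Spec.map_injective
    rw [resHom_spec, Spec.map_comp, hφ]
    change _ = Spec.map (X.presheaf.germ U x hxU ≫ X.residue x) ≫ _
    rw [Spec.map_comp, Category.assoc]
    have := hU.fromSpecStalk_eq_fromSpecStalk hxU
    rw [IsAffineOpen.fromSpecStalk] at this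
    rw [reassoc_of% this]
    exact Category.assoc _ _ _
  have : IsScalarTower k (Γ(X, U) ⧸ p.asIdeal) (X.residueField x) :=
    IsScalarTower.of_algebraMap_eq fun c => congr($(congrArg CommRingCat.Hom.hom hev) c)
  rw [trdegAt, ← htr]
  exact ((FractionRing.algEquiv (Γ(X, U) ⧸ p.asIdeal) (X.residueField x)).restrictScalars k).trdeg_eq.symm

theorem height_toNat_spec (x : X) : (trdegAt f x) = (Order.height x).toNat := by
  obtain ⟨n, h1, h2⟩ := exists_trdegAt_eq_height f x
  rw [h1, h2]; rfl

/-- The transcendence degree of `κ(x)` over `κ(g x)`. -/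
noncomputable def relTrdeg (g : X ⟶ Y) (x : X) : Cardinal.{u} :=
  @Algebra.trdeg (Y.residueField (g x)) (X.residueField x) _ _ (g.residueFieldMap x).hom.toAlgebra

omit [LocallyOfFiniteType f] in
/-- Additivity of the transcendence degree along a morphism over `k`. -/
theorem trdegAt_eq_add (fY : Y ⟶ Spec (CommRingCat.of k)) (g : X ⟶ Y) (hg : g ≫ fY = f) (x : X) :
    trdegAt f x = trdegAt fY (g x) + relTrdeg g x := by
  let := (resHom f x).toAlgebra
  let := (resHom fY (g x)).toAlgebra
  let := (g.residueFieldMap x).hom.toAlgebra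
  have h : CommRingCat.ofHom (resHom f x) = CommRingCat.ofHom (resHom fY (g x)) ≫ g.residueFieldMap x := by
    apply Spec.map_injective
    rw [Spec.map_comp, resHom_spec, resHom_spec, ← Category.assoc,
      Scheme.Hom.SpecMap_residueFieldMap_fromSpecResidueField, Category.assoc, hg]
  have : IsScalarTower k (Y.residueField (g x)) (X.residueField x) :=
    IsScalarTower.of_algebraMap_eq fun c => congr($(congrArg CommRingCat.Hom.hom h) c)
  exact (trdeg_add_eq k (Y.residueField (g x)) (A := X.residueField x)).symm

include f in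
/-- The height is strictly monotone; points of height `0` are closed. -/
theorem height_toNat_lt {a b : X} (h : a < b) : Order.height a < Order.height b :=
  Order.height_strictMono h (lt_top_iff_ne_top.2 (height_ne_top f a))

end Groth.Variety2.Dim
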