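import Mathlib
import Groth.Agent.Variety2.DimTrdeg

/-!
Dimension of schemes locally of finite type over a field.
-/

universe u

open CategoryTheory AlgebraicGeometry TopologicalSpace

namespace Groth.Variety2.Dim

variable {k : Type u} [Field k] {X Y : Scheme.{u}}

/-- The Krull dimension of a scheme is the supremum of the heights of its points. -/
theorem dim_eq_iSup_height (X : Scheme.{u}) :
    topologicalKrullDim X = ⨆ x : X, ((Order.height x : ℕ∞) : WithBot ℕ∞) := by
  letI := specializationOrder (X := X)
  rw [topologicalKrullDim, Order.krullDim_eq_of_orderIso irreducibleSetEquivPoints,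
    Order.krullDim_eq_iSup_height]

theorem height_subtype_of_isClosed {Z : Set X} (hZ : IsClosed Z) (z : Z) :
    @Order.height Z (Preorder.lift Subtype.val) z = Order.height (z : X) := by
  letI : Preorder Z := Preorder.lift Subtype.val
  refine le_antisymm (Order.height_le_height_apply_of_strictMono (Subtype.val : Z → X) (fun _ _ h => h) z) ?_
  refine Order.height_le_iff.2 fun l hl => ?_
  have hmem : ∀ i, l i ∈ Z := fun i =>
    (Scheme.le_iff_specializes.1 ((l.monotone (Fin.le_last i)).trans hl)).mem_closed hZ z.2
  exact Order.length_le_height (p := (⟨l.length, fun i => ⟨l i, hmem i⟩, fun i => l.step i⟩ : LTSeries Z)) hl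

/-- The Krull dimension of a closed subset is the supremum of the heights of its points. -/
theorem dim_closed {Z : Set X} (hZ : IsClosed Z) :
    topologicalKrullDim Z = ⨆ x ∈ Z, ((Order.height x : ℕ∞) : WithBot ℕ∞) := by
  have : QuasiSober Z := hZ.isClosedEmbedding_subtypeVal.quasiSober
  rw [topologicalKrullDim,
    @Order.krullDim_eq_of_orderIso _ Z _ (specializationOrder (X := Z)).toPreorder
      irreducibleSetEquivPoints,
    @Order.krullDim_eq_iSup_height Z (specializationOrder (X := Z)).toPreorder, iSup_subtype']
  refine iSup_congr fun z => ?_
  rw [← height_subtype_of_isClosed hZ z]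
  congr 3
  ext a b
  exact subtype_specializes_iff _ _

/-- The dimension of the closure of a point is its height. -/
theorem dim_closure_singleton (x : X) :
    topologicalKrullDim (closure ({x} : Set X)) = (Order.height x : ℕ∞) := by
  rw [dim_closed isClosed_closure]
  refine le_antisymm (iSup₂_le fun z hz => WithBot.coe_le_coe.2 (Order.height_mono ?_)) ?_
  · exact specializes_iff_mem_closure.2 hz
  · exact le_iSup₂ (f := fun z (_ : z ∈ closure ({x} : Set X)) => ((Order.height z : ℕ∞) : WithBot ℕ∞))
      x (subset_closure rfl)

/-- The dimension of an irreducible scheme is the height of its generic point. -/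
theorem dim_eq_height_genericPoint [IrreducibleSpace X] :
    topologicalKrullDim X = (Order.height (genericPoint X) : ℕ∞) := by
  rw [dim_eq_iSup_height]
  exact le_antisymm (iSup_le fun x => WithBot.coe_le_coe.2 (Order.height_mono (genericPoint_specializes x)))
    (le_iSup (fun x : X => ((Order.height x : ℕ∞) : WithBot ℕ∞)) _)

/-- A surjective residue field map contributes nothing to the transcendence degree. -/
theorem relTrdeg_eq_zero_of_surjective (g : X ⟶ Y) (x : X)
    (h : Function.Surjective (g.residueFieldMap x)) : relTrdeg g x = 0 := by
  let := (g.residueFieldMap x).hom.toAlgebra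
  have : Algebra.IsAlgebraic (Y.residueField (g x)) (X.residueField x) := ⟨fun b => by
    obtain ⟨a, rfl⟩ := h b
    exact isAlgebraic_algebraMap a⟩
  exact trdeg_eq_zero

theorem residueFieldMap_surjective (g : X ⟶ Y) [IsPreimmersion g] (x : X) :
    Function.Surjective (g.residueFieldMap x) := fun b => by
  obtain ⟨t, rfl⟩ := X.residue_surjective x b
  obtain ⟨s, rfl⟩ := g.stalkMap_surjective x t
  exact ⟨Y.residue _ s, congr($(Scheme.residue_residueFieldMap g x) s)⟩

variable (f : X ⟶ Spec (CommRingCat.of k)) [LocallyOfFiniteType f]

include f in
theorem exists_height_eq (x : X) : ∃ n : ℕ, Order.height x = n :=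
  ⟨_, (exists_trdegAt_eq_height f x).choose_spec.2⟩

/-- Preimmersions over `k` preserve heights. -/
theorem height_eq_of_isPreimmersion (fY : Y ⟶ Spec (CommRingCat.of k)) [LocallyOfFiniteType fY]
    (g : X ⟶ Y) [IsPreimmersion g] (hg : g ≫ fY = f) (x : X) :
    Order.height (g x) = Order.height x := by
  obtain ⟨a, ha, ha'⟩ := exists_trdegAt_eq_height f x
  obtain ⟨b, hb, hb'⟩ := exists_trdegAt_eq_height fY (g x)
  have := trdegAt_eq_add f fY g hg x
  rw [relTrdeg_eq_zero_of_surjective g x (residueFieldMap_surjective g x), add_zero, ha, hb,
    Nat.cast_inj] at this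
  rw [ha', hb', this]

include f in
/-- Every nonempty open of an irreducible scheme has full dimension. -/
theorem dim_opens [IrreducibleSpace X] (U : X.Opens) (hU : (U : Set X).Nonempty) :
    topologicalKrullDim U.toScheme = topologicalKrullDim X := by
  have : Nonempty U.toScheme := ⟨⟨_, hU.some_mem⟩⟩
  have : IrreducibleSpace U.toScheme := (isIrreducible_iff_irreducibleSpace).1
    ⟨hU, PreirreducibleSpace.isPreirreducible_univ.open_subset U.2 (Set.subset_univ _)⟩
  rw [dim_eq_height_genericPoint, dim_eq_height_genericPoint,
    ← height_eq_of_isPreimmersion (U.ι ≫ f) f U.ι rfl, genericPoint_eq_of_isOpenImmersion]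

include f in
theorem height_add_length_le (l : LTSeries X) :
    Order.height l.head + l.length ≤ Order.height l.last := by
  suffices h : ∀ i : Fin (l.length + 1), Order.height l.head + (i : ℕ) ≤ Order.height (l i) from
    h (Fin.last _)
  intro i
  induction i using Fin.induction with
  | zero => simp [RelSeries.head]
  | succ i ih =>
    rw [Fin.val_succ, Nat.cast_add, Nat.cast_one, ← add_assoc]
    refine le_trans (add_le_add ih le_rfl) ?_
    exact Order.add_one_le_of_lt (height_toNat_lt f (l.step i))

include f in
/-- In an irreducible scheme, dimension of the closure plus codimension is the dimension. -/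
theorem coheight_add_height [IrreducibleSpace X] (a : X) :
    Order.coheight a + Order.height a = Order.height (genericPoint X) := by
  have hη : ∀ b : X, b ≤ genericPoint X := fun b => genericPoint_specializes b
  obtain ⟨N, hN⟩ := exists_height_eq f (genericPoint X)
  refine le_antisymm ?_ ?_
  · obtain ⟨m, hm⟩ := exists_height_eq f a
    have hc : Order.coheight a ≤ (N - m : ℕ) := Order.coheight_le_iff.2 fun l hl => by
      have h1 := ((add_le_add (Order.height_mono hl) le_rfl).trans (height_add_length_le f l)).trans
        (Order.height_mono (hη l.last))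
      rw [hm, hN] at h1
      have h2 : m + l.length ≤ N := by exact_mod_cast h1
      exact_mod_cast (show l.length ≤ N - m by omega)
    have hmN : m ≤ N := by
      have := Order.height_mono (hη a)
      rw [hm, hN] at this
      exact_mod_cast this
    rw [hm, hN]
    refine (add_le_add hc le_rfl).trans ?_
    exact_mod_cast (show N - m + m ≤ N by omega)
  · suffices h : ∀ (j : ℕ) (b : X), Order.height (genericPoint X) ≤ Order.height b + j →
        Order.height (genericPoint X) ≤ Order.coheight b + Order.height b from
      h N a (hN ▸ le_add_self)
    intro j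
    induction j with
    | zero =>
      intro b hb
      rw [Nat.cast_zero, add_zero] at hb
      exact hb.trans le_add_self
    | succ j ih =>
      intro b hb
      by_cases hbη : genericPoint X ≤ b
      · exact (Order.height_mono hbη).trans le_add_self
      obtain ⟨c, hbc, hcmin⟩ := WellFounded.has_min
        (InvImage.wf (fun z : X => Order.height z) (wellFounded_lt (α := ℕ∞)))
        {z : X | b < z} ⟨genericPoint X, lt_of_le_not_ge (hη b) hbη⟩
      have hcov : b ⋖ c := ⟨hbc, fun d h1 h2 => hcmin d h1 (height_toNat_lt f h2)⟩
      have hh := height_eq_of_covBy f hcov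
      have h3 : Order.height (genericPoint X) ≤ Order.height c + j := by
        rw [hh, add_assoc, add_comm (1 : ℕ∞)]
        exact_mod_cast hb
      refine (ih c h3).trans ?_
      rw [hh, ← add_assoc, add_right_comm]
      exact add_le_add (Order.coheight_add_one_le hbc) le_rfl

include f in
/-- The local ring at a point of an irreducible scheme has dimension the codimension. -/
theorem ringKrullDim_stalk_add_height [IrreducibleSpace X] (a : X) :
    ringKrullDim (X.presheaf.stalk a) + (Order.height a : ℕ∞) = topologicalKrullDim X := by
  rw [ringKrullDim_stalk_eq_coheight, dim_eq_height_genericPoint, ← coheight_add_height f a,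
    WithBot.coe_add]

variable (fY : Y ⟶ Spec (CommRingCat.of k)) [LocallyOfFiniteType fY] (g : X ⟶ Y)

set_option backward.isDefEq.respectTransparency.types false in
include f fY in
/-- The height in a fibre plus the height of the image is the height. -/
theorem height_fiber_add (hg : g ≫ fY = f) (y : Y) (z : g.fiber y) :
    Order.height z + Order.height y = Order.height (g.fiberι y z) := by
  have : LocallyOfFiniteType (g ≫ fY) := hg ▸ inferInstance
  have : LocallyOfFiniteType g := locallyOfFiniteType_of_comp g fY
  have : LocallyOfFiniteType (g.fiberToSpecResidueField y) :=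
    inferInstanceAs (LocallyOfFiniteType (Limits.pullback.snd g (Y.fromSpecResidueField y)))
  let fF : g.fiber y ⟶ Spec (CommRingCat.of k) := g.fiberι y ≫ f
  obtain ⟨a, ha, ha'⟩ := exists_trdegAt_eq_height (k := Y.residueField y) (g.fiberToSpecResidueField y) z
  obtain ⟨b, hb, hb'⟩ := exists_trdegAt_eq_height fY y
  obtain ⟨c, hc, hc'⟩ := exists_trdegAt_eq_height f (g.fiberι y z)
  have h1 : trdegAt fF z = trdegAt f (g.fiberι y z) := by
    rw [trdegAt_eq_add fF f (g.fiberι y) rfl z,
      relTrdeg_eq_zero_of_surjective _ z (residueFieldMap_surjective _ z), add_zero]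
  have h2 : trdegAt fF z = trdegAt fY y + trdegAt (k := Y.residueField y) (g.fiberToSpecResidueField y) z := by
    let := (resHom fF z).toAlgebra
    let := (resHom fY y).toAlgebra
    let := (resHom (k := Y.residueField y) (g.fiberToSpecResidueField y) z).toAlgebra
    have h : CommRingCat.ofHom (resHom fF z) = CommRingCat.ofHom (resHom fY y) ≫
        CommRingCat.ofHom (resHom (k := Y.residueField y) (g.fiberToSpecResidueField y) z) := by
      apply Spec.map_injective
      rw [Spec.map_comp, resHom_spec, resHom_spec, resHom_spec, Category.assoc]
      congr 1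
      change g.fiberι y ≫ f = g.fiberToSpecResidueField y ≫ _
      rw [← hg]
      exact (Limits.pullback.condition_assoc _)
    have : IsScalarTower k (Y.residueField y) ((g.fiber y).residueField z) :=
      IsScalarTower.of_algebraMap_eq fun c => congr($(congrArg CommRingCat.Hom.hom h) c)
    exact (trdeg_add_eq k (Y.residueField y) (A := (g.fiber y).residueField z)).symm
  rw [ha', hb', hc']
  rw [h2, ha, hb, hc, ← Nat.cast_add, Nat.cast_inj] at h1
  exact_mod_cast (show a + b = c by omega)

/-- The dimension of a set theoretic fibre is the dimension of the fibre. -/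
theorem dim_preimage_singleton (g : X ⟶ Y) (y : Y) :
    topologicalKrullDim (g.base ⁻¹' {y}) = topologicalKrullDim (g.fiber y) :=
  ((g.fiberHomeo y).isHomeomorph.topologicalKrullDim_eq _).symm

end Groth.Variety2.Dim
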