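import Mathlib
import Groth.Agent.Variety2.DimScheme

/-!
Dimension of fibres of morphisms of schemes locally of finite type over a field.
-/

universe u

open CategoryTheory AlgebraicGeometry TopologicalSpace

namespace Groth.Variety2.Dim

section Ring

variable {A C K₀ L₀ : Type u} [CommRing A] [CommRing C] [Algebra A C] [Algebra.FiniteType A C]
  [Field K₀] [Field L₀] [Algebra K₀ L₀]

/-- Generic bound on relative transcendence degrees for points of a finitely generated algebra. -/
theorem exists_trdeg_le (χ₀ : A →+* K₀) (ψ₀ : C →+* L₀)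
    (hc₀ : ∀ a, algebraMap K₀ L₀ (χ₀ a) = ψ₀ (algebraMap A C a))
    (hK₀ : ∀ z, ∃ a b, χ₀ b ≠ 0 ∧ z = χ₀ a / χ₀ b) (hL₀ : ∀ z, ∃ a b, ψ₀ b ≠ 0 ∧ z = ψ₀ a / ψ₀ b) :
    ∃ c, ψ₀ c ≠ 0 ∧ ∀ (K L : Type u) [Field K] [Field L] [Algebra K L] (χ : A →+* K) (ψ : C →+* L),
      (∀ a, algebraMap K L (χ a) = ψ (algebraMap A C a)) → (∀ z, ∃ a b, ψ b ≠ 0 ∧ z = ψ a / ψ b) →
      RingHom.ker ψ₀ ≤ RingHom.ker ψ → ψ c ≠ 0 → Algebra.trdeg K L ≤ Algebra.trdeg K₀ L₀ := by
  classical
  obtain ⟨G, hG⟩ := (inferInstance : Algebra.FiniteType A C).out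
  -- make everything an algebra over `A`
  let := χ₀.toAlgebra
  let := ψ₀.toAlgebra
  let := (ψ₀.comp (algebraMap A C)).toAlgebra
  have : IsScalarTower A C L₀ := IsScalarTower.of_algebraMap_eq fun _ => rfl
  have : IsScalarTower A K₀ L₀ := IsScalarTower.of_algebraMap_eq fun a => (hc₀ a).symm
  let S : Set L₀ := ψ₀ '' G
  -- `L₀` is algebraic over `K₀[S]`
  have halg : Algebra.IsAlgebraic (Algebra.adjoin K₀ S) L₀ := by
    have hmem : ∀ c, ψ₀ c ∈ Algebra.adjoin K₀ S := by
      intro c
      have : c ∈ Algebra.adjoin A (G : Set C) := hG ▸ trivial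
      induction this using Algebra.adjoin_induction with
      | mem x hx => exact Algebra.subset_adjoin ⟨x, hx, rfl⟩
      | algebraMap a => rw [← hc₀]; exact Subalgebra.algebraMap_mem _ _
      | add x y _ _ h1 h2 => rw [map_add]; exact add_mem h1 h2
      | mul x y _ _ h1 h2 => rw [map_mul]; exact mul_mem h1 h2
    refine ⟨fun z => ?_⟩
    obtain ⟨a, b, -, rfl⟩ := hL₀ z
    rw [div_eq_mul_inv]
    exact (isAlgebraic_algebraMap (⟨_, hmem a⟩ : Algebra.adjoin K₀ S)).mul
      (isAlgebraic_algebraMap (⟨_, hmem b⟩ : Algebra.adjoin K₀ S)).inv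
  obtain ⟨t, htS, ht⟩ := exists_isTranscendenceBasis_subset (R := K₀) S
  have halgt : Algebra.IsAlgebraic (Algebra.adjoin K₀ t) L₀ := by
    have h := ht.isAlgebraic
    rwa [Subtype.range_coe_subtype, Set.ofPred_mem_eq] at h
  choose g hgG hg using fun z : t => htS z.2
  let T : Set C := Set.range g
  let R := Algebra.adjoin A T
  -- every generator is a root of a polynomial over `A[T]` surviving in `L₀`
  have hroot : ∀ x ∈ G, ∃ p : Polynomial R, ψ₀ (p.leadingCoeff : C) ≠ 0 ∧
      p.eval₂ (ψ₀.comp R.val.toRingHom) (ψ₀ x) = 0 := by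
    intro x _
    obtain ⟨q, hq0, hq⟩ := halgt.isAlgebraic (ψ₀ x)
    -- denominators in `K₀`
    have hden : ∀ z : Algebra.adjoin K₀ t, ∃ (b : A) (r : R), χ₀ b ≠ 0 ∧
        (z : L₀) * algebraMap K₀ L₀ (χ₀ b) = ψ₀ (r : C) := by
      intro z
      obtain ⟨z, hz⟩ := z
      induction hz using Algebra.adjoin_induction with
      | mem y hy =>
        exact ⟨1, ⟨g ⟨y, hy⟩, Algebra.subset_adjoin ⟨_, rfl⟩⟩, by simp, by simp [hg]⟩
      | algebraMap a =>
        obtain ⟨n, b, hb, rfl⟩ := hK₀ a
        refine ⟨b, algebraMap A R n, hb, ?_⟩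
        change algebraMap K₀ L₀ (χ₀ n / χ₀ b) * algebraMap K₀ L₀ (χ₀ b) = ψ₀ (algebraMap A C n)
        rw [← map_mul, div_mul_cancel₀ _ hb, hc₀]
      | add y y' _ _ h1 h2 =>
        obtain ⟨b, r, hb, h1⟩ := h1
        obtain ⟨b', r', hb', h2⟩ := h2
        refine ⟨b * b', r * algebraMap A R b' + r' * algebraMap A R b, by simp [hb, hb'], ?_⟩
        change (y + y') * algebraMap K₀ L₀ (χ₀ (b * b')) = ψ₀ ((r : C) * algebraMap A C b' + (r' : C) * algebraMap A C b)
        rw [map_add, map_mul, map_mul, map_mul, map_mul, ← h1, ← h2, ← hc₀, ← hc₀]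
        ring
      | mul y y' _ _ h1 h2 =>
        obtain ⟨b, r, hb, h1⟩ := h1
        obtain ⟨b', r', hb', h2⟩ := h2
        refine ⟨b * b', r * r', by simp [hb, hb'], ?_⟩
        change (y * y') * algebraMap K₀ L₀ (χ₀ (b * b')) = ψ₀ ((r : C) * r')
        rw [map_mul, map_mul, map_mul, ← h1, ← h2]
        ring
    choose b r hb hr using hden
    let B : A := ∏ i ∈ q.support, b (q.coeff i)
    have hB : χ₀ B ≠ 0 := by
      rw [map_prod]; exact Finset.prod_ne_zero_iff.2 fun i _ => hb _
    let c : ℕ → R := fun i => r (q.coeff i) * algebraMap A R (∏ j ∈ q.support.erase i, b (q.coeff j))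
    have hc : ∀ i ∈ q.support, ψ₀ (c i : C) = (q.coeff i : L₀) * algebraMap K₀ L₀ (χ₀ B) := by
      intro i hi
      change ψ₀ ((r (q.coeff i) : C) * algebraMap A C _) = _
      rw [map_mul, ← hr, ← hc₀, mul_assoc, ← map_mul, ← map_mul, Finset.mul_prod_erase _ (fun j => b (q.coeff j)) hi]
    refine ⟨∑ i ∈ q.support, Polynomial.monomial i (c i), ?_, ?_⟩
    · have hdeg : q.natDegree ∈ q.support := Polynomial.natDegree_mem_support_of_nonzero hq0
      have hne : ψ₀ (c q.natDegree : C) ≠ 0 := by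
        rw [hc _ hdeg]
        refine mul_ne_zero ?_ ((map_ne_zero _).2 hB)
        simpa using Polynomial.leadingCoeff_ne_zero.2 hq0
      have hne' : c q.natDegree ≠ 0 := fun h => hne (by simp [h])
      have hcoeff : ∀ n, (∑ i ∈ q.support, Polynomial.monomial i (c i)).coeff n =
          if n ∈ q.support then c n else 0 := fun n => by
        simp [Polynomial.finsetSum_coeff, Polynomial.coeff_monomial]
      have : (∑ i ∈ q.support, Polynomial.monomial i (c i)).natDegree = q.natDegree := by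
        refine Polynomial.natDegree_eq_of_le_of_coeff_ne_zero ?_ (by rwa [hcoeff, if_pos hdeg])
        exact Polynomial.natDegree_sum_le_of_forall_le _ _ fun i hi =>
          (Polynomial.natDegree_monomial_le _).trans (Polynomial.le_natDegree_of_mem_supp i hi)
      rw [Polynomial.leadingCoeff, this, hcoeff, if_pos hdeg]
      exact hne
    · rw [Polynomial.eval₂_finsetSum]
      rw [Polynomial.aeval_eq_sum_range, ← Polynomial.sum_over_range (p := q)
        (f := fun i a => a • ψ₀ x ^ i) (by simp), Polynomial.sum] at hq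
      calc ∑ i ∈ q.support, (Polynomial.monomial i (c i)).eval₂ (ψ₀.comp R.val.toRingHom) (ψ₀ x)
          = ∑ i ∈ q.support, algebraMap K₀ L₀ (χ₀ B) * (q.coeff i • ψ₀ x ^ i) := by
            refine Finset.sum_congr rfl fun i hi => ?_
            rw [Polynomial.eval₂_monomial, Algebra.smul_def]
            change ψ₀ (c i : C) * _ = _
            rw [hc i hi, Subalgebra.algebraMap_def]
            change _ = _ * ((q.coeff i : L₀) * _)
            ring
        _ = 0 := by rw [← Finset.mul_sum, hq, mul_zero]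
  choose! p hp hp0 using hroot
  refine ⟨∏ x ∈ G, ((p x).leadingCoeff : C), ?_, ?_⟩
  · rw [map_prod]; exact Finset.prod_ne_zero_iff.2 hp
  intro K L _ _ _ χ ψ hχ hψ hker hne
  rw [map_prod] at hne
  let T' : Set L := ψ '' T
  let R' := Algebra.adjoin K T'
  have hR : ∀ r : R, ψ (r : C) ∈ R' := by
    rintro ⟨r, hr⟩
    induction hr using Algebra.adjoin_induction with
    | mem x hx => exact Algebra.subset_adjoin ⟨x, hx, rfl⟩
    | algebraMap a => rw [← hχ]; exact Subalgebra.algebraMap_mem _ _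
    | add x y _ _ h1 h2 => rw [map_add]; exact add_mem h1 h2
    | mul x y _ _ h1 h2 => rw [map_mul]; exact mul_mem h1 h2
  let θ : R →+* R' := (ψ.comp R.val.toRingHom).codRestrict R' hR
  have hgen : ∀ x ∈ G, IsAlgebraic R' (ψ x) := by
    intro x hx
    have hlead : θ (p x).leadingCoeff ≠ 0 := fun h =>
      Finset.prod_ne_zero_iff.1 hne x hx (congrArg Subtype.val h)
    refine ⟨(p x).map θ, fun h => hlead ?_, ?_⟩
    · rw [Polynomial.leadingCoeff, ← Polynomial.coeff_map, h, Polynomial.coeff_zero]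
    rw [Polynomial.aeval_def, Polynomial.eval₂_map]
    have h0 : (p x).eval₂ R.val.toRingHom x ∈ RingHom.ker ψ := by
      refine hker ?_
      rw [RingHom.mem_ker, Polynomial.hom_eval₂]
      exact hp0 x hx
    rw [RingHom.mem_ker, Polynomial.hom_eval₂] at h0
    exact h0
  have hC : ∀ c, IsAlgebraic R' (ψ c) := by
    intro c
    have : c ∈ Algebra.adjoin A (G : Set C) := hG ▸ trivial
    induction this using Algebra.adjoin_induction with
    | mem x hx => exact hgen x hx
    | algebraMap a => rw [← hχ]; exact isAlgebraic_algebraMap (algebraMap K R' (χ a))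
    | add x y _ _ h1 h2 => rw [map_add]; exact h1.add h2
    | mul x y _ _ h1 h2 => rw [map_mul]; exact h1.mul h2
  have : Algebra.IsAlgebraic (Algebra.adjoin K T') L := ⟨fun z => by
    obtain ⟨a, b, -, rfl⟩ := hψ z
    rw [div_eq_mul_inv]
    exact (hC a).mul (hC b).inv⟩
  refine (Algebra.IsAlgebraic.trdeg_le_cardinalMk K T').trans ?_
  rw [← ht.cardinalMk_eq_trdeg]
  exact Cardinal.mk_image_le.trans Cardinal.mk_range_le

end Ring

variable {k : Type u} [Field k] {X Y : Scheme.{u}}

/-- Residue fields are generated by sections as fields. -/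
theorem exists_evaluation_eq_div {U : X.Opens} (hU : IsAffineOpen U) {x : X} (hx : x ∈ U)
    (z : X.residueField x) :
    ∃ a b, X.evaluation U x hx b ≠ 0 ∧ z = X.evaluation U x hx a / X.evaluation U x hx b := by
  let p := hU.primeIdealOf ⟨x, hx⟩
  let := (X.presheaf.germ U x hx).hom.toAlgebra
  have hloc : IsLocalization.AtPrime (X.presheaf.stalk x) p.asIdeal := hU.isLocalization_stalk ⟨x, hx⟩
  obtain ⟨t, rfl⟩ := X.residue_surjective x z
  obtain ⟨a, s, hs, rfl⟩ := IsLocalization.exists_mk'_eq p.asIdeal.primeCompl t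
  have hs : X.evaluation U x hx s.1 ≠ 0 := by
    change IsLocalRing.residue (X.presheaf.stalk x) (algebraMap Γ(X, U) _ s.1) ≠ 0
    rw [Ne, IsLocalRing.residue_eq_zero_iff,
      IsLocalization.AtPrime.to_map_mem_maximal_iff (X.presheaf.stalk x) p.asIdeal]
    exact s.2
  refine ⟨a, s.1, hs, ?_⟩
  rw [eq_div_iff hs]
  change IsLocalRing.residue _ _ * IsLocalRing.residue _ (algebraMap Γ(X, U) _ s.1) =
    IsLocalRing.residue _ (algebraMap Γ(X, U) _ a)
  exact (map_mul (IsLocalRing.residue _) _ _).symm.trans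
    (congrArg _ (IsLocalization.mk'_spec (X.presheaf.stalk x) a s))

/-- The relative transcendence degree is bounded generically on an irreducible closed subset. -/
theorem exists_open_relTrdeg_le (g : X ⟶ Y) [LocallyOfFiniteType g] (ξ : X) :
    ∃ O : X.Opens, ξ ∈ O ∧ ∀ x ∈ O, ξ ⤳ x → relTrdeg g x ≤ relTrdeg g ξ := by
  obtain ⟨U, hU, hηU, -⟩ := exists_isAffineOpen_mem_and_subset (U := ⊤) (Set.mem_univ (g ξ))
  obtain ⟨W, hW, hξW, hWU'⟩ := exists_isAffineOpen_mem_and_subset (U := g ⁻¹ᵁ U) hηU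
  have hWU : W ≤ g ⁻¹ᵁ U := hWU'
  have hft := g.finiteType_appLE hU hW hWU
  let := (g.appLE U W hWU).hom.toAlgebra
  have : Algebra.FiniteType Γ(Y, U) Γ(X, W) := hft
  have hcomm : ∀ (x : X) (hx : x ∈ W) (a : Γ(Y, U)),
      g.residueFieldMap x (Y.evaluation U (g x) (hWU hx) a) =
        X.evaluation W x hx (g.appLE U W hWU a) := by
    intro x hx a
    refine (Scheme.evaluation_naturality_apply g x _ a).trans ?_
    simp only [Scheme.evaluation, Scheme.Hom.appLE, CommRingCat.comp_apply]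
    congr 1
    exact (X.presheaf.germ_res_apply (homOfLE hWU) x hx _).symm
  let := (g.residueFieldMap ξ).hom.toAlgebra
  obtain ⟨c, hc, hle⟩ := exists_trdeg_le (Y.evaluation U (g ξ) (hWU hξW)).hom
    (X.evaluation W ξ hξW).hom (hcomm ξ hξW) (exists_evaluation_eq_div hU _)
    (exists_evaluation_eq_div hW _)
  refine ⟨X.basicOpen c, (X.evaluation_ne_zero_iff_mem_basicOpen ξ hξW c).1 hc, fun x hx hs => ?_⟩
  have hxW : x ∈ W := X.basicOpen_le c hx
  let := (g.residueFieldMap x).hom.toAlgebra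
  refine hle _ _ (Y.evaluation U (g x) (hWU hxW)).hom (X.evaluation W x hxW).hom (hcomm x hxW)
    (exists_evaluation_eq_div hW _) ?_ ((X.evaluation_ne_zero_iff_mem_basicOpen x hxW c).2 hx)
  intro a ha
  rw [RingHom.mem_ker] at ha ⊢
  rw [Scheme.evaluation_eq_zero_iff_notMem_basicOpen] at ha ⊢
  exact fun h => ha (hs.mem_open (X.basicOpen a).2 h)

section

variable (f : X ⟶ Spec (CommRingCat.of k)) [LocallyOfFiniteType f]
  (fY : Y ⟶ Spec (CommRingCat.of k)) [LocallyOfFiniteType fY] (g : X ⟶ Y)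

include f fY in
theorem height_image_le (hg : g ≫ fY = f) (x : X) : Order.height (g x) ≤ Order.height x := by
  obtain ⟨a, ha, ha'⟩ := exists_trdegAt_eq_height f x
  obtain ⟨b, hb, hb'⟩ := exists_trdegAt_eq_height fY (g x)
  have := trdegAt_eq_add f fY g hg x
  rw [ha, hb] at this
  rw [ha', hb']
  exact_mod_cast (le_of_le_of_eq le_self_add this.symm)

include f fY in
theorem height_le_of_relTrdeg_le (hg : g ≫ fY = f) {x ξ : X} (h : relTrdeg g x ≤ relTrdeg g ξ) :
    Order.height x + Order.height (g ξ) ≤ Order.height ξ + Order.height (g x) := by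
  obtain ⟨a, ha, ha'⟩ := exists_trdegAt_eq_height f x
  obtain ⟨b, hb, hb'⟩ := exists_trdegAt_eq_height fY (g x)
  obtain ⟨c, hc, hc'⟩ := exists_trdegAt_eq_height f ξ
  obtain ⟨d, hd, hd'⟩ := exists_trdegAt_eq_height fY (g ξ)
  have h1 : (a : Cardinal.{u}) + d ≤ c + b := by
    rw [← ha, ← hd, ← hc, ← hb, trdegAt_eq_add f fY g hg x, trdegAt_eq_add f fY g hg ξ]
    calc trdegAt fY (g x) + relTrdeg g x + trdegAt fY (g ξ)
        = trdegAt fY (g x) + trdegAt fY (g ξ) + relTrdeg g x := add_right_comm _ _ _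
      _ ≤ trdegAt fY (g x) + trdegAt fY (g ξ) + relTrdeg g ξ := add_le_add le_rfl h
      _ = trdegAt fY (g ξ) + relTrdeg g ξ + trdegAt fY (g x) := by ac_rfl
  rw [ha', hb', hc', hd']
  exact_mod_cast h1

include f in
theorem exists_covBy_of_lt {b η : X} (h : b < η) : ∃ c, b ⋖ c ∧ c ≤ η := by
  obtain ⟨c, hc, hcmin⟩ := WellFounded.has_min
    (InvImage.wf (fun z : X => Order.height z) (wellFounded_lt (α := ℕ∞)))
    {z : X | b < z ∧ z ≤ η} ⟨η, h, le_rfl⟩
  exact ⟨c, ⟨hc.1, fun d h1 h2 => hcmin d ⟨h1, h2.le.trans hc.2⟩ (height_toNat_lt f h2)⟩, hc.2⟩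

/-- A point is closed iff it has height zero. -/
theorem height_eq_zero_iff (x : X) : Order.height x = 0 ↔ IsClosed ({x} : Set X) := by
  rw [Order.height_eq_zero]
  constructor
  · intro h
    refine closure_subset_iff_isClosed.1 fun y hy => ?_
    have h1 : x ⤳ y := specializes_iff_mem_closure.2 hy
    exact (Scheme.le_iff_specializes.1 (h (Scheme.le_iff_specializes.2 h1))).antisymm h1 |>.eq
  · intro h y hy
    have h1 : x ⤳ y := Scheme.le_iff_specializes.1 hy
    have : y = x := h.closure_eq.le (specializes_iff_mem_closure.1 h1)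
    exact this ▸ le_rfl

include f in
theorem exists_isClosed_singleton_mem {T : Set X} (hT : IsLocallyClosed T) (hne : T.Nonempty) :
    ∃ x ∈ T, IsClosed ({x} : Set X) := by
  have := jacobsonSpace f
  obtain ⟨x, hx, hxc⟩ := nonempty_inter_closedPoints (Z := T) hne hT
  exact ⟨x, hx, hxc⟩

end

/-- The point of `X` defined by a prime of `Γ(X, U) / p`. -/
noncomputable def quotientToScheme {U : X.Opens} (hU : IsAffineOpen U) (p : Ideal Γ(X, U)) :
    Spec (.of (Γ(X, U) ⧸ p)) ⟶ X :=
  Spec.map (CommRingCat.ofHom (Ideal.Quotient.mk p)) ≫ hU.fromSpec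

instance {U : X.Opens} (hU : IsAffineOpen U) (p : Ideal Γ(X, U)) :
    IsPreimmersion (quotientToScheme hU p) := by
  have : IsClosedImmersion (Spec.map (CommRingCat.ofHom (Ideal.Quotient.mk p))) :=
    IsClosedImmersion.spec_of_surjective _ Ideal.Quotient.mk_surjective
  unfold quotientToScheme; infer_instance

instance {U : X.Opens} (hU : IsAffineOpen U) (p : Ideal Γ(X, U)) :
    LocallyOfFiniteType (quotientToScheme hU p) := by
  have : IsClosedImmersion (Spec.map (CommRingCat.ofHom (Ideal.Quotient.mk p))) :=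
    IsClosedImmersion.spec_of_surjective _ Ideal.Quotient.mk_surjective
  unfold quotientToScheme; infer_instance

theorem ideal_height_add_height {C : CommRingCat.{u}} [IsDomain C]
    (f : Spec C ⟶ Spec (CommRingCat.of k)) [LocallyOfFiniteType f] (P : PrimeSpectrum C) :
    P.asIdeal.height + Order.height (α := ↥(Spec C)) P =
      Order.height (α := ↥(Spec C)) (genericPoint ↥(Spec C)) := by
  have h := ringKrullDim_stalk_add_height f P
  rw [dim_eq_height_genericPoint] at h
  let : Algebra C ((Spec C).presheaf.stalk P) := StructureSheaf.stalkAlgebra C P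
  have : IsLocalization.AtPrime ((Spec C).presheaf.stalk P) P.asIdeal :=
    StructureSheaf.IsLocalization.to_stalk C P
  have h' : ringKrullDim ((Spec C).presheaf.stalk P) = P.asIdeal.height :=
    IsLocalization.AtPrime.ringKrullDim_eq_height P.asIdeal _
  rw [h', ← WithBot.coe_add] at h
  exact_mod_cast h

/-- Height of a prime in a quotient chart plus height of the point is the height of the generic
point of the chart. -/
theorem height_prime_add (f : X ⟶ Spec (CommRingCat.of k)) [LocallyOfFiniteType f] {U : X.Opens}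
    (hU : IsAffineOpen U) (p : Ideal Γ(X, U)) [hp : p.IsPrime]
    (P : PrimeSpectrum (Γ(X, U) ⧸ p)) :
    P.asIdeal.height + Order.height (hU.fromSpec (P.comap (Ideal.Quotient.mk p))) =
      Order.height (hU.fromSpec ⟨p, hp⟩) := by
  have : IsDomain (Γ(X, U) ⧸ p) := Ideal.Quotient.isDomain p
  let j := quotientToScheme hU p
  have hj : ∀ Q : PrimeSpectrum (Γ(X, U) ⧸ p), j Q = hU.fromSpec (Q.comap (Ideal.Quotient.mk p)) :=
    fun Q => rfl
  have hgen : j (genericPoint ↥(Spec (.of (Γ(X, U) ⧸ p)))) = hU.fromSpec ⟨p, hp⟩ := by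
    rw [genericPoint_eq_bot_of_affine, hj]
    congr 1
    exact PrimeSpectrum.ext (Ideal.mk_ker (I := p))
  rw [← hgen, height_eq_of_isPreimmersion (j ≫ f) f j rfl,
    ← ideal_height_add_height (j ≫ f) P]
  congr 1
  exact height_eq_of_isPreimmersion (j ≫ f) f j rfl P

section

variable (f : X ⟶ Spec (CommRingCat.of k)) [LocallyOfFiniteType f]
  (fY : Y ⟶ Spec (CommRingCat.of k)) [LocallyOfFiniteType fY] (g : X ⟶ Y)

include f fY in
/-- A point maximal in its fibre inside `closure {ξ}` has height at least the generic fibre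
dimension plus the height of its image. -/
theorem height_add_le_of_maximal (hg : g ≫ fY = f) {ξ x : X} (hξx : ξ ⤳ x)
    (hmax : ∀ z, ξ ⤳ z → z ⤳ x → g z = g x → z = x) :
    Order.height ξ + Order.height (g x) ≤ Order.height x + Order.height (g ξ) := by
  obtain ⟨U, hU, hyU, -⟩ := exists_isAffineOpen_mem_and_subset (U := ⊤) (Set.mem_univ (g x))
  obtain ⟨W, hW, hxW, hWU'⟩ := exists_isAffineOpen_mem_and_subset (U := g ⁻¹ᵁ U) hyU
  have hWU : W ≤ g ⁻¹ᵁ U := hWU'
  obtain ⟨P0, hP0⟩ := exists_prime_of_mem hW (hξx.mem_open W.2 hxW)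
  obtain ⟨P, hP⟩ := exists_prime_of_mem hW hxW
  have hle : P0 ≤ P := by
    rw [← le_fromSpec_iff hW, hP, hP0, Scheme.le_iff_specializes]; exact hξx
  let φ := (g.appLE U W hWU).hom
  have hφ : ∀ Q : PrimeSpectrum Γ(X, W), hU.fromSpec (Q.comap φ) = g (hW.fromSpec Q) := fun Q =>
    congr($(IsAffineOpen.SpecMap_appLE_fromSpec g hU hW hWU) Q)
  let q0 : PrimeSpectrum Γ(Y, U) := P0.comap φ
  let C1 := Γ(X, W) ⧸ P0.asIdeal
  let A1 := Γ(Y, U) ⧸ q0.asIdeal
  let π := Ideal.Quotient.mk P0.asIdeal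
  let π' := Ideal.Quotient.mk q0.asIdeal
  let φ1 : A1 →+* C1 := Ideal.quotientMap P0.asIdeal φ le_rfl
  have hcomm : φ1.comp π' = π.comp φ := Ideal.quotientMap_comp_mk _
  let := φ1.toAlgebra
  obtain ⟨φk, -, hft⟩ := exists_algebra f hW
  have : IsNoetherianRing Γ(X, W) := by
    let := φk.hom.toAlgebra
    have : Algebra.FiniteType k Γ(X, W) := hft
    exact Algebra.FiniteType.isNoetherianRing k _
  let P1 : PrimeSpectrum C1 := ⟨P.asIdeal.map π,
    Ideal.map_isPrime_of_surjective Ideal.Quotient.mk_surjective (by rw [Ideal.mk_ker]; exact hle)⟩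
  have hP1 : P1.comap π = P := PrimeSpectrum.ext <| by
    rw [PrimeSpectrum.comap_asIdeal, Ideal.comap_map_of_surjective' _ Ideal.Quotient.mk_surjective,
      sup_eq_left, Ideal.mk_ker]
    exact hle
  let q1 : PrimeSpectrum A1 := P1.comap φ1
  have hq1 : q1.comap π' = P.comap φ := by
    rw [← hP1]
    exact PrimeSpectrum.ext <| by
      change (P1.asIdeal.comap φ1).comap π' = (P1.asIdeal.comap π).comap φ
      simp only [Ideal.comap_comap, hcomm]
  have hmin : P1.asIdeal ∈ (q1.asIdeal.map (algebraMap A1 C1)).minimalPrimes := by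
    refine ⟨⟨P1.2, Ideal.map_le_iff_le_comap.2 le_rfl⟩, fun Q hQ hQP => ?_⟩
    let Q' : PrimeSpectrum Γ(X, W) := (⟨Q, hQ.1⟩ : PrimeSpectrum C1).comap π
    have h1 : ξ ⤳ hW.fromSpec Q' := by
      rw [← Scheme.le_iff_specializes, ← hP0, le_fromSpec_iff]
      intro a ha
      change π a ∈ Q
      rw [Ideal.Quotient.eq_zero_iff_mem.2 ha]
      exact Q.zero_mem
    have hQ'P : Q' ≤ P := fun a ha => hP1.le (hQP ha : π a ∈ P1.asIdeal)
    have h2 : hW.fromSpec Q' ⤳ x := by
      rw [← Scheme.le_iff_specializes, ← hP, le_fromSpec_iff]; exact hQ'P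
    have h3 : g (hW.fromSpec Q') = g x := by
      rw [← hφ, ← hP, ← hφ]
      congr 1
      change PrimeSpectrum.comap φ Q' = PrimeSpectrum.comap φ P
      refine le_antisymm (fun a ha => hQ'P ha) ?_
      rw [← hq1]
      intro a ha
      change π (φ a) ∈ Q
      have h5 : π (φ a) = φ1 (π' a) := congr($hcomm.symm a)
      rw [h5]
      exact hQ.2 (Ideal.mem_map_of_mem (algebraMap A1 C1) ha)
    have h4 : Q' = P := hW.fromSpec.isOpenEmbedding.injective
      ((hmax _ h1 h2 h3).trans hP.symm)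
    intro a ha
    obtain ⟨a, rfl⟩ := Ideal.Quotient.mk_surjective a
    have : a ∈ P.asIdeal := hP1.le ha
    rw [← h4] at this
    exact this
  obtain ⟨φy, -, hfty⟩ := exists_algebra fY hU
  have : IsNoetherianRing Γ(Y, U) := by
    let := φy.hom.toAlgebra
    have : Algebra.FiniteType k Γ(Y, U) := hfty
    exact Algebra.FiniteType.isNoetherianRing k _
  have : P1.asIdeal.LiesOver q1.asIdeal := ⟨rfl⟩
  have : P1.asIdeal.IsPrime := P1.isPrime
  have : q1.asIdeal.IsPrime := q1.isPrime
  have hht : P1.asIdeal.height ≤ q1.asIdeal.height := by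
    refine (Ideal.height_le_height_add_of_liesOver q1.asIdeal P1.asIdeal).trans ?_
    have hP' := hmin.1.2
    have : (P1.asIdeal.map (Ideal.Quotient.mk (q1.asIdeal.map (algebraMap A1 C1)))).IsPrime :=
      Ideal.map_isPrime_of_surjective Ideal.Quotient.mk_surjective (by rwa [Ideal.mk_ker])
    have h0 : (P1.asIdeal.map (Ideal.Quotient.mk (q1.asIdeal.map (algebraMap A1 C1)))).height = 0 := by
      rw [Ideal.height_eq_zero_iff]
      refine ⟨⟨this, bot_le⟩, fun J hJ hJP => ?_⟩
      have := hJ.1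
      refine Ideal.map_le_iff_le_comap.2 (hmin.2 ⟨inferInstance, ?_⟩ ?_)
      · intro a ha
        rw [Ideal.mem_comap, Ideal.Quotient.eq_zero_iff_mem.2 ha]
        exact J.zero_mem
      · refine (Ideal.comap_mono hJP).trans ?_
        rw [Ideal.comap_map_of_surjective' _ Ideal.Quotient.mk_surjective, Ideal.mk_ker]
        exact sup_le le_rfl hP'
    rw [h0, add_zero]
  have hX := height_prime_add f hW P0.asIdeal P1
  have hY := height_prime_add fY hU q0.asIdeal q1
  rw [hP1, hP, hP0] at hX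
  rw [hq1, hφ, hP, show hU.fromSpec ⟨q0.asIdeal, q0.2⟩ = g ξ by rw [← hP0, ← hφ]] at hY
  rw [← hX, ← hY]
  calc P1.asIdeal.height + Order.height x + Order.height (g x)
      ≤ q1.asIdeal.height + Order.height x + Order.height (g x) := by gcongr
    _ = Order.height x + (q1.asIdeal.height + Order.height (g x)) := by ac_rfl

include f fY in
/-- Every point is below a point of its fibre in `closure {ξ}` of large height. -/
theorem exists_fiber_height_le (hg : g ≫ fY = f) {ξ x : X} (hξx : ξ ⤳ x) :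
    ∃ z, ξ ⤳ z ∧ z ⤳ x ∧ g z = g x ∧
      Order.height ξ + Order.height (g x) ≤ Order.height z + Order.height (g ξ) := by
  let S : Set X := {z | ξ ⤳ z ∧ z ⤳ x ∧ g z = g x}
  obtain ⟨n, hn⟩ := exists_height_eq f ξ
  obtain ⟨z, hz, hzmin⟩ := WellFounded.has_min
    (InvImage.wf (fun z : X => n - (Order.height z).toNat) wellFounded_lt) S ⟨x, hξx, specializes_rfl, rfl⟩
  refine ⟨z, hz.1, hz.2.1, hz.2.2, hz.2.2 ▸ height_add_le_of_maximal f fY g hg hz.1 fun w h1 h2 h3 => ?_⟩
  by_contra hne
  have hlt : z < w := lt_iff.2 ⟨h2, Ne.symm hne⟩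
  obtain ⟨a, ha⟩ := exists_height_eq f z
  obtain ⟨b, hb⟩ := exists_height_eq f w
  have h4 : a < b := by
    have := height_toNat_lt f hlt; rw [ha, hb] at this; exact_mod_cast this
  have h5 : b ≤ n := by
    have := Order.height_mono (Scheme.le_iff_specializes.2 h1); rw [hb, hn] at this; exact_mod_cast this
  refine hzmin w ⟨h1, h2.trans hz.2.1, h3.trans hz.2.2⟩ ?_
  change n - (Order.height w).toNat < n - (Order.height z).toNat
  rw [ha, hb]
  change n - b < n - a
  omega

include f fY in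
/-- Over a neighbourhood of the image of the generic point, fibres are no larger than the generic
fibre. -/
theorem exists_open_height_le [NoetherianSpace X] (hg : g ≫ fY = f) (ξ : X) :
    ∃ V : Y.Opens, g ξ ∈ V ∧ ∀ x, ξ ⤳ x → g x ∈ V →
      Order.height x + Order.height (g ξ) ≤ Order.height ξ + Order.height (g x) := by
  have : LocallyOfFiniteType (g ≫ fY) := hg ▸ inferInstance
  have : LocallyOfFiniteType g := locallyOfFiniteType_of_comp g fY
  induction ξ using (InvImage.wf (fun z : X => Order.height z) (wellFounded_lt (α := ℕ∞))).induction with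
  | h ξ ih =>
  obtain ⟨O, hO, hOle⟩ := exists_open_relTrdeg_le g ξ
  obtain ⟨S, hSf, hSc, hSi, hS⟩ := NoetherianSpace.exists_finite_set_isClosed_irreducible
    (s := closure {ξ} ∩ (O : Set X)ᶜ) (isClosed_closure.inter O.2.isClosed_compl)
  have key : ∀ T ∈ S, ∃ V : Y.Opens, g ξ ∈ V ∧ ∀ x ∈ T, g x ∈ V →
      Order.height x + Order.height (g ξ) ≤ Order.height ξ + Order.height (g x) := by
    intro T hT
    have hsub : T ⊆ closure {ξ} ∩ (O : Set X)ᶜ := hS ▸ Set.subset_sUnion_of_mem hT
    let ζ := (hSi T hT).genericPoint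
    have hζ : IsGenericPoint ζ T := by
      simpa [(hSc T hT).closure_eq] using (hSi T hT).isGenericPoint_genericPoint_closure
    have hξζ : ξ ⤳ ζ := specializes_iff_mem_closure.2 (hsub hζ.mem).1
    have hlt : ζ < ξ := lt_iff.2 ⟨hξζ, fun h => (hsub hζ.mem).2 (h ▸ hO)⟩
    by_cases he : g ζ = g ξ
    · obtain ⟨V, hV, hVle⟩ := ih ζ (height_toNat_lt f hlt)
      refine ⟨V, he ▸ hV, fun x hx hxV => ?_⟩
      have := hVle x (hζ.specializes hx) hxV
      rw [he] at this
      exact this.trans (add_le_add (Order.height_mono hlt.le) le_rfl)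
    · refine ⟨⟨(closure {g ζ})ᶜ, isClosed_closure.isOpen_compl⟩, fun h => he ?_, fun x hx hxV => ?_⟩
      · exact ((specializes_iff_mem_closure.2 h).antisymm (hξζ.map g.continuous)).eq
      · exact absurd (specializes_iff_mem_closure.1 ((hζ.specializes hx).map g.continuous)) hxV
  choose! V hV hVle using key
  refine ⟨⟨⋂ T ∈ S, (V T : Set Y), hSf.isOpen_biInter fun T _ => (V T).2⟩,
    Set.mem_iInter₂.2 hV, fun x hx hxV => ?_⟩
  by_cases hxO : x ∈ O
  · exact height_le_of_relTrdeg_le f fY g hg (hOle x hxO hx)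
  · obtain ⟨T, hT, hxT⟩ : x ∈ ⋃₀ S := hS ▸ ⟨specializes_iff_mem_closure.1 hx, hxO⟩
    exact hVle T hT x hxT (Set.mem_iInter₂.1 hxV T hT)

include f fY in
/-- The dimension of a fibre bounds the heights of its points. -/
theorem height_le_add_dim_preimage (hg : g ≫ fY = f) (d : ℕ∞) (x : X)
    (hd : topologicalKrullDim (g.base ⁻¹' {g x}) ≤ (d : WithBot ℕ∞)) :
    Order.height x ≤ Order.height (g x) + d := by
  rw [dim_preimage_singleton, dim_eq_iSup_height] at hd
  have h := height_fiber_add f fY g hg (g x) (g.asFiber x)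
  rw [Scheme.Hom.fiberι_asFiber] at h
  rw [← h, add_comm]
  exact add_le_add le_rfl (WithBot.coe_le_coe.1 ((le_iSup (fun z : g.fiber (g x) =>
    ((Order.height z : ℕ∞) : WithBot ℕ∞)) (g.asFiber x)).trans hd))

include f fY in
/-- A fibre of dimension at least `r` has a point of height at least `r` plus the height of the image. -/
theorem exists_add_le_height (hg : g ≫ fY = f) (r : ℕ) (y : Y)
    (hd : (r : WithBot ℕ∞) ≤ topologicalKrullDim (g.base ⁻¹' {y})) :
    ∃ x, g x = y ∧ Order.height y + r ≤ Order.height x := by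
  rw [dim_preimage_singleton] at hd
  let := specializationOrder (X := g.fiber y)
  rw [topologicalKrullDim, Order.krullDim_eq_of_orderIso irreducibleSetEquivPoints] at hd
  obtain ⟨l, hl⟩ := Order.le_krullDim_iff.1 hd
  refine ⟨g.fiberι y l.last, ?_, ?_⟩
  · exact (g.range_fiberι y).le ⟨l.last, rfl⟩
  · rw [← height_fiber_add f fY g hg y l.last, add_comm]
    exact add_le_add (hl ▸ Order.length_le_height le_rfl) le_rfl

include f fY in
theorem exists_height_eq_of_dim_preimage (hg : g ≫ fY = f) (r : ℕ) (y : Y)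
    (hd : topologicalKrullDim (g.base ⁻¹' {y}) = r) :
    ∃ x, g x = y ∧ Order.height x = Order.height y + r := by
  obtain ⟨x, rfl, hx⟩ := exists_add_le_height f fY g hg r y hd.ge
  exact ⟨x, rfl, le_antisymm (height_le_add_dim_preimage f fY g hg r x hd.le) hx⟩

theorem add_dim_le {r : ℕ} {D : WithBot ℕ∞}
    (h : ∀ x : X, ((r + Order.height x : ℕ∞) : WithBot ℕ∞) ≤ D) :
    (r : WithBot ℕ∞) + topologicalKrullDim X ≤ D := by
  rw [dim_eq_iSup_height]
  cases isEmpty_or_nonempty X
  · simp
  · obtain ⟨x⟩ := ‹Nonempty X›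
    induction D with
    | bot => exact absurd (h x) (WithBot.not_coe_le_bot _)
    | coe D =>
      rw [← WithBot.coe_iSup (OrderTop.bddAbove _)]
      rw [show (r : WithBot ℕ∞) = ((r : ℕ∞) : WithBot ℕ∞) from rfl, ← WithBot.coe_add,
        WithBot.coe_le_coe, ENat.add_iSup]
      exact iSup_le fun z => WithBot.coe_le_coe.1 (h z)

end

theorem noetherianSpace_of (f : X ⟶ Spec (CommRingCat.of k)) [LocallyOfFiniteType f]
    [QuasiCompact f] : NoetherianSpace X := by
  have := LocallyOfFiniteType.isLocallyNoetherian f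
  have : CompactSpace X := QuasiCompact.compactSpace_of_compactSpace f
  have : IsNoetherian X := ⟨⟩
  infer_instance

end Groth.Variety2.Dim
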