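import Mathlib
import Groth.Prelude.Def_PicF2
import Groth.Prelude.Def_FlatMod2
import Groth.Agent.PicAux.Sections
import Groth.Agent.PicAux.FreeBasis
import Groth.Agent.PicAux.QCoh
import Groth.Agent.QCohMod.Sections

/-!
The zero scheme of a section of an invertible module is cut out by the ideals `zeroIdealOn`.
-/

universe u

open CategoryTheory AlgebraicGeometry Opposite TopologicalSpace

namespace Groth.Variety2.Zero

open Groth.PicAux

variable {X : Scheme.{u}}

theorem isInvertible_of_rank_one {L : X.Modules} (hL : FlatMod.IsFinLocFreeOfRank 1 L) :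
    PicF.IsInvertible L := by
  rw [isInvertible_iff_exists_gen]
  intro x
  obtain ⟨U, hx, ⟨e⟩⟩ := hL x
  obtain ⟨d⟩ := exists_split_free (X := (U : Scheme.{u})) 1
  have h := d.basis.map e.inv
  have hle : U ≤ U.ι ''ᵁ ⊤ := (Scheme.Opens.ι_image_top U).ge
  refine ⟨U, res L hle (e.inv.app ⊤ ((d.s 0).app ⊤ (oneSec _ ⊤)) : Γ(L, U.ι ''ᵁ ⊤)), hx, ?_⟩
  have hb : Basis' L U (fun i =>
      res L hle (e.inv.app ⊤ ((d.s i).app ⊤ (oneSec _ ⊤)) : Γ(L, U.ι ''ᵁ ⊤))) := by
    rw [basis'_iff_restrict]
    refine (congrArg (Basis' (L.restrict U.ι) ⊤) (funext fun i => ?_)).mpr h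
    exact (res_res (M := L) _ _ _).trans (res_self _ _)
  intro V hV
  have e2 : (fun r : Γ(X, V) => r • res L hV
      (res L hle (e.inv.app ⊤ ((d.s 0).app ⊤ (oneSec _ ⊤)) : Γ(L, U.ι ''ᵁ ⊤)))) =
      (fun r : Fin 1 → Γ(X, V) => ∑ i, r i • res L hV
        (res L hle (e.inv.app ⊤ ((d.s i).app ⊤ (oneSec _ ⊤)) : Γ(L, U.ι ''ᵁ ⊤)))) ∘
      (Equiv.funUnique (Fin 1) Γ(X, V)).symm := by
    funext r
    simp
  rw [e2]
  exact (hb V hV).comp (Equiv.bijective _)

/-- The value of a section over an open. -/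
noncomputable def val (L : X.Modules) (s : Coh.structureModule X ⟶ L) (U : X.Opens) : Γ(L, U) :=
  s.app U (oneSec X U)

theorem secVal_eq (L : X.Modules) (s : Coh.structureModule X ⟶ L) (U : X.Opens) :
    PicF2.secVal L s U = val L s U := rfl

theorem res_val (L : X.Modules) (s : Coh.structureModule X ⟶ L) {U V : X.Opens} (h : V ≤ U) :
    res L h (val L s U) = val L s V := by
  rw [val, ← app_res, res_oneSec]
  rfl

theorem val_add (L : X.Modules) (s t : Coh.structureModule X ⟶ L) (U : X.Opens) :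
    val L (s + t) U = val L s U + val L t U := by
  rw [val, Scheme.Modules.Hom.add_app]
  rfl

theorem val_sum (L : X.Modules) {κ : Type*} (t : Finset κ) (s : κ → (Coh.structureModule X ⟶ L))
    (U : X.Opens) : val L (∑ i ∈ t, s i) U = ∑ i ∈ t, val L (s i) U :=
  sum_app t s U _

/-- Membership in `zeroIdealOn`. -/
theorem mem_zeroIdealOn_iff {L : X.Modules} {s : Coh.structureModule X ⟶ L} {U : X.Opens}
    {a : Γ(X, U)} :
    (a ∈ (show Ideal Γ(X, U) from PicF2.zeroIdealOn L s U)) ↔
      ∀ m : Γ(L, U), ∃ b : Γ(X, U), a • m = b • val L s U :=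
  Iff.rfl

/-- On a trivialising open the zero ideal is generated by the coefficient. -/
theorem zeroIdealOn_eq_span {L : X.Modules} {s : Coh.structureModule X ⟶ L} {U : X.Opens}
    {e : Γ(L, U)} (he : Gen L U e) {c : Γ(X, U)} (hc : val L s U = c • e) :
    (show Ideal Γ(X, U) from PicF2.zeroIdealOn L s U) = Ideal.span {c} := by
  ext a
  rw [mem_zeroIdealOn_iff, Ideal.mem_span_singleton']
  constructor
  · intro h
    obtain ⟨b, hb⟩ := h e
    refine ⟨b, (he.smul_inj le_rfl ?_).symm⟩
    rw [res_self, hb, hc, mul_smul]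
  · rintro ⟨b, rfl⟩ m
    obtain ⟨r, rfl⟩ := he.exists_coeff le_rfl m
    refine ⟨b * r, ?_⟩
    rw [res_self, hc, smul_smul, smul_smul]
    ring_nf

theorem exists_affine_gen {L : X.Modules} (hL : PicF.IsInvertible L) {U : X.Opens}
    (hU : IsAffineOpen U) :
    ∃ (S : Finset Γ(X, U)), Ideal.span (S : Set Γ(X, U)) = ⊤ ∧
      ∀ g ∈ S, ∃ e : Γ(L, X.basicOpen g), Gen L (X.basicOpen g) e := by
  classical
  let T : Set Γ(X, U) := {g | ∃ e : Γ(L, X.basicOpen g), Gen L (X.basicOpen g) e}
  have hT : Ideal.span T = ⊤ := by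
    rw [← hU.self_le_iSup_basicOpen_iff]
    intro x hx
    obtain ⟨V, e, hxV, he⟩ := (isInvertible_iff_exists_gen L).1 hL x
    obtain ⟨g, hg, hxg⟩ := hU.exists_basicOpen_le ⟨x, hxV⟩ hx
    exact Opens.mem_iSup.2 ⟨⟨g, _, he.res hg⟩, hxg⟩
  obtain ⟨S, hST, hS⟩ := Submodule.mem_span_finite_of_mem_span
    (show (1 : Γ(X, U)) ∈ Ideal.span T by rw [hT]; trivial)
  exact ⟨S, (Ideal.eq_top_iff_one _).2 hS, fun g hg => hST hg⟩

/-- The zero ideals form a quasi-coherent ideal sheaf. -/
theorem map_zeroIdealOn {L : X.Modules} (hL : PicF.IsInvertible L)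
    (s : Coh.structureModule X ⟶ L) {U : X.Opens} (hU : IsAffineOpen U) (f : Γ(X, U)) :
    (show Ideal Γ(X, U) from PicF2.zeroIdealOn L s U).map
        (X.presheaf.map (homOfLE <| X.basicOpen_le f).op).hom =
      (show Ideal Γ(X, X.basicOpen f) from PicF2.zeroIdealOn L s (X.basicOpen f)) := by
  classical
  have := isQCoh_of_isInvertible hL
  set r := X.basicOpen_le f
  have hloc : IsLocalization.Away f Γ(X, X.basicOpen f) := hU.isLocalization_basicOpen f
  have hf : IsUnit (resX X r f) := RingedSpace.isUnit_res_basicOpen _ f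
  apply le_antisymm
  · rw [Ideal.map_le_iff_le_comap]
    intro a ha
    rw [Ideal.mem_comap, mem_zeroIdealOn_iff]
    intro m
    obtain ⟨N, m0, hm0⟩ := Groth.QCohMod.exists_pow_smul_eq_res L hU f m
    obtain ⟨b, hb⟩ := (mem_zeroIdealOn_iff.1 ha) m0
    refine ⟨↑(hf.pow N).unit⁻¹ * resX X r b, ?_⟩
    change resX X r a • m = _
    have h2 : res L r m0 = resX X r f ^ N • m := hm0
    have h3 := congrArg (res L r) hb
    rw [res_smul, res_smul, res_val, h2] at h3
    rw [mul_smul, ← h3, smul_smul, smul_smul]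
    congr 1
    rw [mul_right_comm, IsUnit.val_inv_mul, one_mul]
  · intro a' ha'
    obtain ⟨⟨a, ⟨_, M, rfl⟩⟩, ha⟩ := IsLocalization.surj (Submonoid.powers f) a'
    change a' * resX X r (f ^ M) = resX X r a at ha
    rw [map_pow] at ha
    have ha'' : resX X r a ∈ (show Ideal Γ(X, X.basicOpen f) from PicF2.zeroIdealOn L s (X.basicOpen f)) :=
      ha ▸ Ideal.mul_mem_right _ _ ha'
    obtain ⟨S, hS, hgen⟩ := exists_affine_gen hL hU
    choose! e he using hgen
    -- lifts of the local generators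
    choose n t ht using fun g : S => Groth.QCohMod.exists_pow_smul_eq_res L hU g.1 (e g.1)
    have hkill : ∀ g : S, ∃ (K : ℕ) (b : Γ(X, U)), (f ^ K * a) • t g = b • val L s U := by
      intro g
      obtain ⟨b', hb'⟩ := (mem_zeroIdealOn_iff.1 ha'') (res L r (t g))
      obtain ⟨⟨b, ⟨_, J, rfl⟩⟩, hb⟩ := IsLocalization.surj (Submonoid.powers f) b'
      change b' * resX X r (f ^ J) = resX X r b at hb
      have h0 : res L r ((f ^ J * a) • t g - b • val L s U) = 0 := by
        have : res L r ((f ^ J * a) • t g) = res L r (b • val L s U) := by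
          rw [res_smul, res_smul, map_mul, mul_smul, hb', res_val, smul_smul, mul_comm _ b', hb]
        exact (map_sub (L.presheaf.map (homOfLE r).op).hom _ _).trans (sub_eq_zero.2 this)
      obtain ⟨J', hJ'⟩ := Groth.QCohMod.exists_pow_smul_eq_zero L hU f _ h0
      refine ⟨J' + J, f ^ J' * b, ?_⟩
      rw [smul_sub, sub_eq_zero, smul_smul, smul_smul] at hJ'
      rw [← hJ', pow_add]
      ring_nf
    choose K b hb using hkill
    let K' := Finset.univ.sup K
    have hmem : f ^ K' * a ∈ (show Ideal Γ(X, U) from PicF2.zeroIdealOn L s U) := by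
      rw [mem_zeroIdealOn_iff]
      intro m
      let S' : Submodule Γ(X, U) Γ(L, U) := Submodule.span _ {val L s U}
      suffices h : (f ^ K' * a) • m ∈ S' by
        obtain ⟨c, hc⟩ := Submodule.mem_span_singleton.1 h
        exact ⟨c, hc.symm⟩
      have key : ∀ g : S, ∃ N : ℕ, (g.1 ^ N) • ((f ^ K' * a) • m) ∈ S' := by
        intro g
        obtain ⟨c, hc⟩ := (he g.1 g.2).exists_coeff le_rfl (res L (X.basicOpen_le g.1) m)
        rw [res_self] at hc
        have := hU.isLocalization_basicOpen g.1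
        obtain ⟨⟨c0, ⟨_, J, rfl⟩⟩, hc0⟩ := IsLocalization.surj (Submonoid.powers g.1) c
        change c * resX X (X.basicOpen_le g.1) (g.1 ^ J) = resX X (X.basicOpen_le g.1) c0 at hc0
        have h0 : res L (X.basicOpen_le g.1) (g.1 ^ (J + n g) • m - c0 • t g) = 0 := by
          have h2 : res L (X.basicOpen_le g.1) (t g) = resX X (X.basicOpen_le g.1) g.1 ^ n g • e g.1 := ht g
          have : res L (X.basicOpen_le g.1) (g.1 ^ (J + n g) • m) =
              res L (X.basicOpen_le g.1) (c0 • t g) := by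
            rw [res_smul, res_smul, h2, hc, smul_smul, smul_smul, ← hc0, pow_add, map_mul, map_pow, map_pow]
            ring_nf
          exact (map_sub (L.presheaf.map (homOfLE (X.basicOpen_le g.1)).op).hom _ _).trans
            (sub_eq_zero.2 this)
        obtain ⟨J', hJ'⟩ := Groth.QCohMod.exists_pow_smul_eq_zero L hU g.1 _ h0
        rw [smul_sub, sub_eq_zero, smul_smul, ← pow_add] at hJ'
        refine ⟨J' + (J + n g), ?_⟩
        rw [smul_comm, hJ', smul_smul, smul_smul,
          show K' = (K' - K g) + K g from (Nat.sub_add_cancel (Finset.le_sup (Finset.mem_univ g))).symm]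
        have hrw : ∀ x y z w v : Γ(X, U), x * y * z * (w * v) = x * z * w * (y * v) := by intros; ring
        have : ((f ^ (K' - K g + K g) * a) * (g.1 ^ J' * c0)) • t g =
            ((f ^ (K' - K g)) * (g.1 ^ J' * c0)) • ((f ^ K g * a) • t g) := by
          rw [smul_smul, pow_add]
          ring_nf
        simp only [← mul_assoc] at this ⊢
        rw [this, hb g]
        exact S'.smul_mem _ (S'.smul_mem _ (Submodule.mem_span_singleton_self _))
      choose N hN using key
      let I : Ideal Γ(X, U) := (S'.comap (LinearMap.toSpanSingleton Γ(X, U) Γ(L, U) ((f ^ K' * a) • m)))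
      have htop : I = ⊤ := by
        refine top_le_iff.1 (le_trans (ge_of_eq (Ideal.span_range_pow_eq_top (S : Set Γ(X, U)) hS
          (fun g => N g))) (Ideal.span_le.2 ?_))
        rintro _ ⟨g, rfl⟩
        exact hN g
      have h1 : (1 : Γ(X, U)) ∈ I := htop ▸ trivial
      simpa [I] using h1
    have h4 : resX X r (f ^ K' * a) ∈ (show Ideal Γ(X, U) from PicF2.zeroIdealOn L s U).map
        (X.presheaf.map (homOfLE <| X.basicOpen_le f).op).hom := Ideal.mem_map_of_mem _ hmem
    rw [map_mul, map_pow, ← ha, mul_comm a', ← mul_assoc] at h4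
    exact (Ideal.unit_mul_mem_iff_mem _ ((hf.pow K').mul (hf.pow M))).1 h4

/-- The zero ideals as an ideal sheaf. -/
noncomputable def zeroData {L : X.Modules} (hL : PicF.IsInvertible L)
    (s : Coh.structureModule X ⟶ L) : X.IdealSheafData where
  ideal U := show Ideal Γ(X, U) from PicF2.zeroIdealOn L s U.1
  map_ideal_basicOpen U f := map_zeroIdealOn hL s U.2 f

theorem zeroScheme_eq {L : X.Modules} (hL : PicF.IsInvertible L) (s : Coh.structureModule X ⟶ L) :
    PicF2.zeroScheme L s = zeroData hL s :=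
  Scheme.IdealSheafData.ofIdeals_ideal (zeroData hL s)

/-- The ideal of the zero scheme on a trivialising affine open. -/
theorem zeroScheme_ideal_eq_span {L : X.Modules} (hL : PicF.IsInvertible L)
    (s : Coh.structureModule X ⟶ L) (U : X.affineOpens)
    {e : Γ(L, U.1)} (he : Gen L U.1 e) {c : Γ(X, U.1)} (hc : val L s U.1 = c • e) :
    (PicF2.zeroScheme L s).ideal U = Ideal.span {c} := by
  rw [zeroScheme_eq hL s]
  exact zeroIdealOn_eq_span he hc

end Groth.Variety2.Zero
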