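import Mathlib

/-! Normal schemes: sections are detected in stalks, components are open. -/

universe u

open CategoryTheory AlgebraicGeometry TopologicalSpace Opposite

namespace Groth.Variety2

variable {X : Scheme.{u}}

/-- An element of the function field lying in all stalks over `U` is a section over `U`. -/
theorem exists_section_of_forall_stalk [IsIntegral X] (U : X.Opens) [Nonempty U] (z : X.functionField)
    (hz : ∀ x ∈ U, z ∈ Set.range (algebraMap (X.presheaf.stalk x) X.functionField)) :
    ∃ s : Γ(X, U), X.germToFunctionField U s = z := by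
  choose t ht using hz
  have h : ∀ x : U, ∃ (W : X.Opens) (_ : (x : X) ∈ W) (_ : W ≤ U) (s : Γ(X, W)),
      ∀ (hW : Nonempty W), X.germToFunctionField W s = z := by
    rintro ⟨x, hx⟩
    obtain ⟨W₀, hxW₀, s₀, hs₀⟩ := X.presheaf.exists_germ_eq (t x hx)
    refine ⟨W₀ ⊓ U, ⟨hxW₀, hx⟩, inf_le_right, X.presheaf.map (homOfLE inf_le_left).op s₀, fun hW => ?_⟩
    have : Nonempty W₀ := ⟨⟨x, hxW₀⟩⟩
    rw [← ht x hx, ← hs₀, Scheme.algebraMap_germ_eq_germToFunctionField]
    exact X.presheaf.germ_res_apply _ _ _ _
  choose W hxW hWU s hs using h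
  have hcompat : TopCat.Presheaf.IsCompatible X.sheaf.1 W s := by
    intro i j
    rcases (W i ⊓ W j : X.Opens).1.eq_empty_or_nonempty with he | he
    · have : Subsingleton Γ(X, W i ⊓ W j) :=
        CommRingCat.subsingleton_of_isTerminal (X.sheaf.isTerminalOfEqEmpty (SetLike.ext' he))
      exact this.elim _ _
    · obtain ⟨p, hp⟩ := he
      have : Nonempty (W i ⊓ W j : X.Opens) := ⟨⟨p, hp⟩⟩
      have : Nonempty (W i) := ⟨⟨p, hp.1⟩⟩
      have : Nonempty (W j) := ⟨⟨p, hp.2⟩⟩
      apply X.germToFunctionField_injective (W i ⊓ W j)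
      exact ((X.presheaf.germ_res_apply _ _ _ _).trans (hs i ‹_›)).trans
        ((X.presheaf.germ_res_apply _ _ _ _).trans (hs j ‹_›)).symm
  obtain ⟨g, hg, -⟩ := X.sheaf.existsUnique_gluing' W U (fun i => homOfLE (hWU i))
    (fun x hx => Opens.mem_iSup.2 ⟨⟨x, hx⟩, hxW _⟩) s hcompat
  refine ⟨g, ?_⟩
  have hx0 : Nonempty U := ‹_›
  obtain ⟨x0⟩ := hx0
  have : Nonempty (W x0) := ⟨⟨x0.1, hxW x0⟩⟩
  rw [← hs x0 ‹_›, ← hg x0]
  exact (X.presheaf.germ_res_apply _ _ _ _).symm

/-- On a normal integral scheme, the rings of sections are integrally closed. -/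
theorem isIntegrallyClosed_Γ [IsIntegral X] (h : ∀ x : X, IsIntegrallyClosed (X.presheaf.stalk x))
    (U : X.Opens) [Nonempty U] : IsIntegrallyClosed Γ(X, U) := by
  rw [isIntegrallyClosed_iff (FractionRing Γ(X, U))]
  intro z hz
  let φ : Γ(X, U) →+* X.functionField := (X.germToFunctionField U).hom
  have hφ : Function.Injective φ := X.germToFunctionField_injective U
  let ψ : FractionRing Γ(X, U) →+* X.functionField := IsFractionRing.lift hφ
  have hψ : ∀ a, ψ (algebraMap Γ(X, U) (FractionRing Γ(X, U)) a) = φ a :=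
    fun a => IsFractionRing.lift_algebraMap hφ a
  let ψ' : FractionRing Γ(X, U) →ₐ[Γ(X, U)] X.functionField := { ψ with commutes' := hψ }
  have hz' : IsIntegral Γ(X, U) (ψ' z) := hz.map ψ'
  obtain ⟨s, hs⟩ := exists_section_of_forall_stalk U (ψ' z) fun x hx => by
    let := (X.presheaf.germ U x hx).hom.toAlgebra
    have : IsScalarTower Γ(X, U) (X.presheaf.stalk x) X.functionField :=
      functionField_isScalarTower X U ⟨x, hx⟩
    have := h x
    exact IsIntegrallyClosed.isIntegral_iff.1 (hz'.tower_top (A := X.presheaf.stalk x))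
  exact ⟨s, ψ.injective ((hψ s).trans hs)⟩

/-- A point with integral local ring has a unique maximal generalization. -/
theorem exists_min_generization (x : X) [IsDomain (X.presheaf.stalk x)] :
    ∃ g : X, g ⤳ x ∧ ∀ y : X, y ⤳ x → g ⤳ y := by
  let b : Spec (X.presheaf.stalk x) := (⟨⊥, Ideal.isPrime_bot⟩ : PrimeSpectrum (X.presheaf.stalk x))
  refine ⟨X.fromSpecStalk x b, ?_, fun y hy => ?_⟩
  · exact (Scheme.range_fromSpecStalk (x := x)).le ⟨b, rfl⟩
  · obtain ⟨p, rfl⟩ := (Scheme.range_fromSpecStalk (x := x)).ge hy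
    refine Specializes.map ?_ (X.fromSpecStalk x).continuous
    exact (PrimeSpectrum.le_iff_specializes _ _).1 bot_le

/-- If all local rings of a Noetherian scheme are domains then irreducible components are open. -/
theorem isOpen_irreducibleComponents [NoetherianSpace X] (h : ∀ x : X, IsDomain (X.presheaf.stalk x))
    {C : Set X} (hC : C ∈ irreducibleComponents X) : IsOpen C := by
  have hfin : (irreducibleComponents X).Finite := NoetherianSpace.finite_irreducibleComponents
  have : Cᶜ = ⋃ D ∈ irreducibleComponents X \ {C}, D := by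
    ext x
    simp only [Set.mem_compl_iff, Set.mem_iUnion, Set.mem_diff, Set.mem_singleton_iff]
    constructor
    · intro hx
      have hxD : x ∈ irreducibleComponent x := mem_irreducibleComponent
      exact ⟨irreducibleComponent x, ⟨irreducibleComponent_mem_irreducibleComponents x,
        fun h => hx (h ▸ hxD)⟩, hxD⟩
    · rintro ⟨D, ⟨hD, hne⟩, hxD⟩ hxC
      obtain ⟨g, hgx, hg⟩ := exists_min_generization x
      have key : ∀ E ∈ irreducibleComponents X, x ∈ E → E = closure {g} := by
        intro E hE hxE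
        obtain ⟨e, he⟩ := QuasiSober.sober hE.1 (isClosed_of_mem_irreducibleComponents E hE)
        have hsub : E ⊆ closure {g} := by
          rw [← he.def]
          exact closure_minimal (Set.singleton_subset_iff.2 (hg e (he.specializes hxE)).mem_closure) isClosed_closure
        exact hsub.antisymm (hE.2 isIrreducible_singleton.closure hsub)
      exact hne ((key D hD hxD).trans (key C hC hxC).symm)
  rw [← isClosed_compl_iff, this]
  exact hfin.diff.isClosed_biUnion fun D hD => isClosed_of_mem_irreducibleComponents D hD.1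

/-- A clopen set is the basic open of a global section. -/
theorem exists_basicOpen_eq_of_isClopen (C : X.Opens) (hC : IsClosed (C : Set X)) :
    ∃ e : Γ(X, ⊤), X.basicOpen e = C := by
  let D : X.Opens := ⟨(C : Set X)ᶜ, hC.isOpen_compl⟩
  let W : Bool → X.Opens := fun b => bif b then C else D
  let s : ∀ b, Γ(X, W b) := fun b => match b with
    | true => 1
    | false => 0
  have hcompat : TopCat.Presheaf.IsCompatible X.sheaf.1 W s := by
    intro i j
    cases i <;> cases j
    · rfl
    · have : D ⊓ C = ⊥ := SetLike.ext' (Set.compl_inter_self _)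
      have : Subsingleton Γ(X, D ⊓ C) := CommRingCat.subsingleton_of_isTerminal (X.sheaf.isTerminalOfEqEmpty this)
      exact this.elim _ _
    · have : C ⊓ D = ⊥ := SetLike.ext' (Set.inter_compl_self _)
      have : Subsingleton Γ(X, C ⊓ D) := CommRingCat.subsingleton_of_isTerminal (X.sheaf.isTerminalOfEqEmpty this)
      exact this.elim _ _
    · rfl
  obtain ⟨e, he, -⟩ := X.sheaf.existsUnique_gluing' W ⊤ (fun b => homOfLE le_top)
    (fun x _ => Opens.mem_iSup.2 ((Classical.em (x ∈ C)).elim (fun h => ⟨true, h⟩) fun h => ⟨false, h⟩)) s hcompat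
  refine ⟨e, ?_⟩
  ext x
  have hgerm : ∀ (b : Bool) (hx : x ∈ W b), X.presheaf.germ ⊤ x trivial e = X.presheaf.germ (W b) x hx (s b) :=
    fun b hx => by rw [← he b]; exact (X.presheaf.germ_res_apply _ _ _ _).symm
  rw [SetLike.mem_coe, Scheme.mem_basicOpen X e x trivial]
  by_cases hx : x ∈ C
  · rw [hgerm true hx]; simp [s, hx]
  · rw [hgerm false hx]; simp [s, hx]

end Groth.Variety2
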