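import Groth.Prelude.Def_CohB1
import Mathlib

/-! Projective space over a ring is proper. -/

universe u

open CategoryTheory CategoryTheory.Limits AlgebraicGeometry

namespace Groth.Variety2

theorem algebraMap_polyGrading_zero_surjective (n : ℕ) (R : Type u) [CommRing R] :
    Function.Surjective (algebraMap R (CohB1.polyGrading n R 0)) := by
  rintro ⟨x, hx⟩
  refine ⟨MvPolynomial.coeff 0 x, Subtype.ext ?_⟩
  change MvPolynomial.C _ = x
  refine (MvPolynomial.totalDegree_eq_zero_iff_eq_C.1 ?_).symm
  exact Nat.le_zero.1 (MvPolynomial.IsHomogeneous.totalDegree_le hx)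

instance isScalarTower_polyGrading (n : ℕ) (R : Type u) [CommRing R] :
    IsScalarTower R (CohB1.polyGrading n R 0) (MvPolynomial (Fin (n + 1)) R) :=
  ⟨fun r a x => smul_assoc r (a : MvPolynomial (Fin (n + 1)) R) x⟩

instance finiteType_polyGrading (n : ℕ) (R : Type u) [CommRing R] :
    Algebra.FiniteType (CohB1.polyGrading n R 0) (MvPolynomial (Fin (n + 1)) R) :=
  Algebra.FiniteType.of_restrictScalars_finiteType R _ _

theorem isIso_specMap_polyGrading_zero (n : ℕ) (R : Type u) [CommRing R] :
    IsIso (Spec.map (CommRingCat.ofHom (algebraMap R (CohB1.polyGrading n R 0)))) := by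
  have : IsIso (CommRingCat.ofHom (algebraMap R (CohB1.polyGrading n R 0))) := by
    rw [ConcreteCategory.isIso_iff_bijective]
    refine ⟨fun a b h => MvPolynomial.C_injective (Fin (n + 1)) R ?_, algebraMap_polyGrading_zero_surjective n R⟩
    exact congrArg Subtype.val h
  infer_instance

instance isProper_projSpace_toSpec (n : ℕ) (R : Type u) [CommRing R] :
    IsProper (CohB1.ProjSpace.toSpec n R) := by
  have := isIso_specMap_polyGrading_zero n R
  rw [CohB1.ProjSpace.toSpec]
  have := finiteType_polyGrading n R
  have h : IsProper (Proj.toSpecZero (CohB1.polyGrading n R)) := inferInstance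
  exact MorphismProperty.comp_mem @IsProper _ _ h inferInstance

instance isProper_projSpaceOver_toBase (n : ℕ) (S : Scheme.{u}) :
    IsProper (CohB1.ProjSpaceOver.toBase n S) := by
  have := isProper_projSpace_toSpec n (ULift.{u} ℤ)
  exact MorphismProperty.pullback_snd _ _ this

end Groth.Variety2
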