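import Mathlib

/-!
Generic smoothness helpers.
-/

universe u

open CategoryTheory AlgebraicGeometry

namespace Groth.Variety2

variable {X Y : Scheme.{u}}

theorem locallyOfFinitePresentation_of_noetherian [IsLocallyNoetherian Y] (f : X ⟶ Y)
    [LocallyOfFiniteType f] : LocallyOfFinitePresentation f := by
  rw [HasRingHomProperty.iff_appLE (P := @LocallyOfFinitePresentation)]
  intro U V e
  have := IsLocallyNoetherian.component_noetherian U
  exact RingHom.FinitePresentation.of_finiteType.1 (f.finiteType_appLE U.2 V.2 e)

theorem smooth_of_le_smoothLocus (f : X ⟶ Y) [LocallyOfFinitePresentation f] (U : X.Opens)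
    (hU : U ≤ f.smoothLocus) : Smooth (U.ι ≫ f) := by
  rw [← Scheme.Hom.smoothLocus_eq_top_iff, ← Scheme.Hom.preimage_smoothLocus_eq, eq_top_iff]
  exact fun x _ => hU x.2

theorem isField_stalk [IsIntegral Y] {y : Y} (e : y = genericPoint Y) :
    IsField (Y.presheaf.stalk y) := e ▸ Field.toIsField Y.functionField

theorem genericPoint_mem_smoothLocus [IsIntegral X] [IsIntegral Y] (f : X ⟶ Y)
    [LocallyOfFinitePresentation f] (e : f (genericPoint X) = genericPoint Y)
    [CharZero Y.functionField] : genericPoint X ∈ f.smoothLocus := by
  have := LocallyOfFiniteType.stalkMap f (genericPoint X)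
  rw [Scheme.Hom.mem_smoothLocus]
  have h0 : CharZero (Y.presheaf.stalk (f (genericPoint X))) := e.symm ▸ (inferInstance : CharZero Y.functionField)
  let : Field (Y.presheaf.stalk (f (genericPoint X))) := (isField_stalk e).toField
  let : Field (X.presheaf.stalk (genericPoint X)) := (isField_stalk rfl).toField
  have : CharZero (Y.presheaf.stalk (f (genericPoint X))) := h0
  algebraize [(f.stalkMap (genericPoint X)).hom]
  exact Algebra.FormallySmooth.of_perfectField

instance : MorphismProperty.IsMultiplicative @Smooth where
  id_mem _ := inferInstance
  comp_mem _ _ hf hg := by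
    have := hf; have := hg; infer_instance

set_option backward.isDefEq.respectTransparency.types false in
instance : MorphismProperty.HasOfPostcompProperty @Smooth @IsOpenImmersion := by
  rw [MorphismProperty.hasOfPostcompProperty_iff_le_diagonal]
  intro X Y f hf
  exact inferInstanceAs <| Smooth (Limits.pullback.diagonal f)

end Groth.Variety2
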