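import Mathlib
import Groth.Prelude.Def_Frob
import Groth.Prelude.Def_Flat

/-! The absolute Frobenius is integral and universally injective. -/

universe u

open CategoryTheory CategoryTheory.Limits AlgebraicGeometry

namespace Groth.Variety2

/-- integral + surjective + universally injective implies universal homeomorphism. -/
theorem isUnivHomeo_of {X Y : Scheme.{u}} (f : X ⟶ Y) [UniversallyClosed f] [Surjective f]
    [UniversallyInjective f] : FlatMor.IsUnivHomeo f := by
  intro X' Y' i₁ i₂ f' h
  have : UniversallyClosed f' :=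
    MorphismProperty.of_isPullback (P := @UniversallyClosed) h.flip ‹_›
  have : Surjective f' :=
    MorphismProperty.of_isPullback (P := @Surjective) h.flip ‹_›
  have : UniversallyInjective f' :=
    MorphismProperty.of_isPullback (P := @UniversallyInjective) h.flip ‹_›
  exact isHomeomorph_iff_continuous_isClosedMap_bijective.2
    ⟨f'.continuous, f'.isClosedMap, f'.injective, f'.surjective⟩

theorem isIntegral_of_pow {R : Type u} [CommRing R] (φ : R →+* R) {p : ℕ} (hp : p ≠ 0)
    (h : ∀ a, φ a = a ^ p) : φ.IsIntegral := fun a =>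
  ⟨Polynomial.X ^ p - Polynomial.C a, Polynomial.monic_X_pow_sub_C _ hp, by simp [h]⟩

variable (X : Scheme.{u}) (p : ℕ) [Fact p.Prime] [FrobSch.IsCharP X p]

instance isIntegralHom_frob : IsIntegralHom (FrobSch.frob X p) := by
  have : IsAffineHom (FrobSch.frob X p) := ⟨fun U hU => hU⟩
  exact ⟨fun U _ => isIntegral_of_pow (R := Γ(X, U)) (FrobSch.frob X p |>.app U).hom
    (Fact.out : p.Prime).ne_zero fun a => FrobSch.frob_app X p U a⟩

theorem residueFieldMap_frob (x : X) (b : X.residueField x) :
    (FrobSch.frob X p).residueFieldMap x b = b ^ p := by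
  obtain ⟨s, rfl⟩ := X.residue_surjective x b
  obtain ⟨U, hx, t, rfl⟩ := X.presheaf.exists_germ_eq s
  have h1 := congrArg (fun g : X.presheaf.stalk ((FrobSch.frob X p) x) ⟶ X.residueField x => g.hom (X.presheaf.germ U x hx t))
    (Scheme.residue_residueFieldMap (FrobSch.frob X p) x)
  simp only [CommRingCat.comp_apply] at h1
  refine h1.trans ?_
  erw [(FrobSch.frob X p).germ_stalkMap_apply U x hx t, FrobSch.frob_app, map_pow, map_pow]
  rfl

theorem isPurelyInseparable_frob (x : X) :
    ((FrobSch.frob X p).residueFieldMap x).hom.IsPurelyInseparable := by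
  let φ : X.residueField x →+* X.residueField x := ((FrobSch.frob X p).residueFieldMap x).hom
  change φ.IsPurelyInseparable
  have hp : (p : X.residueField x) = 0 := by
    have h := congrArg (X.presheaf.germ ⊤ x trivial ≫ X.residue x).hom
      (FrobSch.IsCharP.natCast_eq_zero (X := X) (p := p))
    simpa using h
  have : CharP (X.residueField x) p := (CharP.charP_iff_prime_eq_zero Fact.out).2 hp
  have : ExpChar (X.residueField x) p := ExpChar.prime Fact.out
  exact (@isPurelyInseparable_iff_pow_mem _ (X.residueField x) _ _ _ φ.toAlgebra p _).2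
    fun b => ⟨1, b, (residueFieldMap_frob X p x b).trans (by rw [pow_one])⟩

instance universallyInjective_frob : UniversallyInjective (FrobSch.frob X p) :=
  ((tfae_universallyInjective _).out 0 2 :
    _ ↔ Function.Injective (FrobSch.frob X p) ∧ ∀ x, ((FrobSch.frob X p).residueFieldMap x).hom.IsPurelyInseparable).2 ⟨fun _ _ h => h, isPurelyInseparable_frob X p⟩

instance surjective_frob : Surjective (FrobSch.frob X p) := ⟨fun x => ⟨x, rfl⟩⟩

section Rel

variable {X : Scheme.{u}} {S : Scheme.{u}} [FrobSch.IsCharP S p] (f : X ⟶ S)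

instance isIntegralHom_relFrob : IsIntegralHom (FrobSch.relFrob f p) := by
  have := FrobSch.IsCharP.of_hom f p
  have : IsIntegralHom (FrobSch.relFrob f p ≫ pullback.fst f (FrobSch.frob S p)) := by
    rw [FrobSch.relFrob_fst]; infer_instance
  exact IsIntegralHom.of_comp _ (pullback.fst f (FrobSch.frob S p))

instance universallyInjective_relFrob : UniversallyInjective (FrobSch.relFrob f p) := by
  have := FrobSch.IsCharP.of_hom f p
  have h : UniversallyInjective (FrobSch.relFrob f p ≫ pullback.fst f (FrobSch.frob S p)) := by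
    rw [FrobSch.relFrob_fst]; infer_instance
  refine ((tfae_universallyInjective (FrobSch.relFrob f p)).out 0 1 :
    _ ↔ ∀ (K : Type u) [Field K], Function.Injective (fun g : Spec (.of K) ⟶ X => g ≫ FrobSch.relFrob f p)).2 fun K _ g₁ g₂ e => ?_
  have hinj := ((tfae_universallyInjective (FrobSch.relFrob f p ≫ pullback.fst f (FrobSch.frob S p))).out 0 1 :
    _ ↔ ∀ (K : Type u) [Field K], Function.Injective (fun g : Spec (.of K) ⟶ X => g ≫ (FrobSch.relFrob f p ≫ pullback.fst f (FrobSch.frob S p)))).1 h
  refine hinj K ?_
  simp only at e ⊢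
  rw [← Category.assoc, e, Category.assoc]

instance surjective_relFrob : Surjective (FrobSch.relFrob f p) := by
  have := FrobSch.IsCharP.of_hom f p
  refine ⟨fun z => ⟨(pullback.fst f (FrobSch.frob S p)) z, ?_⟩⟩
  have : UniversallyInjective (pullback.fst f (FrobSch.frob S p)) :=
    MorphismProperty.pullback_fst _ _ inferInstance
  apply (pullback.fst f (FrobSch.frob S p)).injective
  change (FrobSch.relFrob f p ≫ pullback.fst f (FrobSch.frob S p)) _ = _
  rw [FrobSch.relFrob_fst]
  rfl

end Rel

end Groth.Variety2
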