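import Mathlib
import Groth.Agent.Variety2.DimFiber
import Groth.Agent.ZetaAn.Constructible

/-!
Morphisms with irreducible equidimensional closed fibres.
-/

universe u

open CategoryTheory AlgebraicGeometry TopologicalSpace

namespace Groth.Variety2.Dim

variable {k : Type u} [Field k] {X Y : Scheme.{u}}

/-- A maximal point of a Noetherian space has a neighbourhood inside its closure. -/
theorem exists_open_subset_closure [NoetherianSpace X] {ξ : X} (hξ : ∀ z, z ⤳ ξ → z = ξ) :
    ∃ U : X.Opens, ξ ∈ U ∧ ∀ x ∈ U, ξ ⤳ x := by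
  obtain ⟨S, hSf, hSc, hSi, hS⟩ := NoetherianSpace.exists_finite_set_isClosed_irreducible
    (s := (Set.univ : Set X)) isClosed_univ
  let S' : Set (Set X) := {T ∈ S | ξ ∉ T}
  refine ⟨⟨(⋃₀ S')ᶜ, ((hSf.subset (fun T h => h.1)).isClosed_biUnion fun T h => hSc T h.1) |> fun h =>
    (Set.sUnion_eq_biUnion ▸ h).isOpen_compl⟩, ?_, ?_⟩
  · rintro ⟨T, hT, hξT⟩
    exact hT.2 hξT
  · intro x hx
    obtain ⟨T, hT, hxT⟩ : x ∈ ⋃₀ S := hS ▸ trivial
    have hξT : ξ ∈ T := by
      by_contra h
      exact hx ⟨T, ⟨hT, h⟩, hxT⟩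
    have hg : IsGenericPoint (hSi T hT).genericPoint T := by
      simpa [(hSc T hT).closure_eq] using (hSi T hT).isGenericPoint_genericPoint_closure
    have := hξ _ (hg.specializes hξT)
    exact this ▸ hg.specializes hxT

variable (f : X ⟶ Spec (CommRingCat.of k)) [LocallyOfFiniteType f]
  (fY : Y ⟶ Spec (CommRingCat.of k)) [LocallyOfFiniteType fY] (g : X ⟶ Y)

include f fY in
/-- Images of closed points are closed. -/
theorem isClosed_image_singleton (hg : g ≫ fY = f) {x : X} (hx : IsClosed ({x} : Set X)) :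
    IsClosed ({g x} : Set Y) := by
  rw [← height_eq_zero_iff] at hx ⊢
  exact le_antisymm (hx ▸ height_image_le f fY g hg x) bot_le

include f fY in
/-- Every irreducible component consists of whole closed fibres and has the expected dimension. -/
theorem component_spec [NoetherianSpace X] (hg : g ≫ fY = f) (d : ℕ)
    (hirr : ∀ y : Y, IsClosed ({y} : Set Y) → IsIrreducible (g.base ⁻¹' {y}))
    (hdim : ∀ y : Y, IsClosed ({y} : Set Y) → topologicalKrullDim (g.base ⁻¹' {y}) = d)
    {ξ : X} (hξ : ∀ z, z ⤳ ξ → z = ξ) :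
    (∀ x, ξ ⤳ x → IsClosed ({g x} : Set Y) → ∀ p, g p = g x → ξ ⤳ p) ∧
      Order.height ξ = d + Order.height (g ξ) := by
  obtain ⟨U, hU, hUle⟩ := exists_open_subset_closure hξ
  obtain ⟨V, hV, hVle⟩ := exists_open_height_le f fY g hg ξ
  obtain ⟨x0, hx0, hx0c⟩ := exists_isClosed_singleton_mem f
    (U.2.inter (V.2.preimage g.continuous)).isLocallyClosed ⟨ξ, hU, hV⟩
  have hy0 := isClosed_image_singleton f fY g hg hx0c
  have hsub : ∀ p, g p = g x0 → ξ ⤳ p := by
    intro p hp
    refine specializes_iff_mem_closure.2 ?_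
    refine closure_minimal (s := g.base ⁻¹' {g x0} ∩ U) (fun z hz => specializes_iff_mem_closure.1
      (hUle z hz.2)) isClosed_closure ?_
    exact subset_closure_inter_of_isPreirreducible_of_isOpen (hirr _ hy0).2 U.2 ⟨x0, rfl, hx0.1⟩ hp
  have hle : d + Order.height (g ξ) ≤ Order.height ξ := by
    obtain ⟨p, hp, hpd⟩ := exists_height_eq_of_dim_preimage f fY g hg d (g x0) (hdim _ hy0)
    have := hVle p (hsub p hp) (hp ▸ hx0.2)
    rw [hpd, hp, (height_eq_zero_iff _).2 hy0, zero_add, add_zero] at this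
    exact this
  have hfib : ∀ x, ξ ⤳ x → IsClosed ({g x} : Set Y) →
      (∀ p, g p = g x → ξ ⤳ p) ∧ Order.height ξ ≤ d + Order.height (g ξ) := by
    intro x hξx hy
    obtain ⟨z, hξz, -, hzy, hz⟩ := exists_fiber_height_le f fY g hg hξx
    rw [(height_eq_zero_iff _).2 hy, add_zero] at hz
    have hzd : Order.height z ≤ d := by
      have := height_le_add_dim_preimage f fY g hg d z (by rw [hzy, hdim _ hy]; rfl)
      rwa [hzy, (height_eq_zero_iff _).2 hy, zero_add] at this
    refine ⟨?_, hz.trans (add_le_add hzd le_rfl)⟩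
    have hF := (hirr _ hy).isGenericPoint_genericPoint_closure
    rw [(hy.preimage g.continuous).closure_eq] at hF
    let w := (hirr _ hy).genericPoint
    have hwz : w ⤳ z := hF.specializes hzy
    have hwy : g w = g x := hF.mem
    have hwd : Order.height w ≤ d := by
      have := height_le_add_dim_preimage f fY g hg d w (by rw [hwy, hdim _ hy]; rfl)
      rwa [hwy, (height_eq_zero_iff _).2 hy, zero_add] at this
    have hzw : z = w := by
      by_contra hne
      have h1 := height_toNat_lt f (lt_iff.2 ⟨hwz, hne⟩)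
      obtain ⟨a, ha⟩ := exists_height_eq fY (g ξ)
      obtain ⟨b, hb⟩ := exists_height_eq f z
      obtain ⟨c, hc⟩ := exists_height_eq f w
      obtain ⟨e, he⟩ := exists_height_eq f ξ
      rw [hb, hc] at h1
      rw [ha, he] at hle
      rw [ha, hb, he] at hz
      rw [hc] at hwd
      have h1 : b < c := by exact_mod_cast h1
      have h2 : d + a ≤ e := by exact_mod_cast hle
      have h3 : e ≤ b + a := by exact_mod_cast hz
      have h4 : c ≤ d := by exact_mod_cast hwd
      omega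
    intro p hp
    exact hξz.trans (hzw ▸ hF.specializes hp)
  exact ⟨fun x hx hy => (hfib x hx hy).1,
    le_antisymm (hfib x0 (hUle x0 hx0.1) hy0).2 hle⟩

include f fY in
/-- The image of an open set is a neighbourhood of each maximal point it contains. -/
theorem exists_open_subset_image [QuasiCompact f] [QuasiCompact fY] [IrreducibleSpace Y]
    (hg : g ≫ fY = f) (U : X.Opens) (hη : genericPoint Y ∈ g.base '' U) :
    ∃ V : Y.Opens, genericPoint Y ∈ V ∧ (V : Set Y) ⊆ g.base '' U := by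
  have : LocallyOfFiniteType (g ≫ fY) := hg ▸ inferInstance
  have : LocallyOfFiniteType g := locallyOfFiniteType_of_comp g fY
  have := LocallyOfFiniteType.isLocallyNoetherian fY
  have := noetherianSpace_of f
  have := noetherianSpace_of fY
  have : QuasiCompact g := ⟨fun _ _ _ => NoetherianSpace.isCompact _⟩
  have hU : Topology.IsConstructible (U : Set X) :=
    IsRetrocompact.isConstructible U.2 (fun _ _ _ => NoetherianSpace.isCompact _)
  obtain ⟨V, hVo, hV, hsub⟩ :=
    (Groth.ZetaAn.isConstructible_near (g.isConstructible_image hU) (genericPoint Y)).1 hη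
  refine ⟨⟨V, hVo⟩, hV, fun y hy => hsub ⟨hy, ?_⟩⟩
  exact specializes_iff_mem_closure.1 (genericPoint_specializes y)

include f fY in
/-- Two maximal points over the generic point coincide when general closed fibres are irreducible. -/
theorem eq_of_irreducible_fibres [QuasiCompact f] [QuasiCompact fY] [IrreducibleSpace Y]
    (hg : g ≫ fY = f) (V₀ : Y.Opens) (hV₀ : (V₀ : Set Y).Nonempty)
    (hirr : ∀ y ∈ V₀, IsClosed ({y} : Set Y) → IsIrreducible (g.base ⁻¹' {y}))
    {ξ₁ ξ₂ : X} (h₁ : ∀ z, z ⤳ ξ₁ → z = ξ₁) (h₂ : ∀ z, z ⤳ ξ₂ → z = ξ₂)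
    (e₁ : g ξ₁ = genericPoint Y) (e₂ : g ξ₂ = genericPoint Y) : ξ₁ = ξ₂ := by
  have := noetherianSpace_of f
  obtain ⟨U₁, hU₁, hU₁le⟩ := exists_open_subset_closure h₁
  obtain ⟨U₂, hU₂, hU₂le⟩ := exists_open_subset_closure h₂
  obtain ⟨V₁, hV₁, hV₁le⟩ := exists_open_subset_image f fY g hg U₁ ⟨ξ₁, hU₁, e₁⟩
  obtain ⟨V₂, hV₂, hV₂le⟩ := exists_open_subset_image f fY g hg U₂ ⟨ξ₂, hU₂, e₂⟩
  have hη : genericPoint Y ∈ V₀ :=
    (genericPoint_specializes _).mem_open V₀.2 hV₀.some_mem
  obtain ⟨y, ⟨⟨hy₀, hy₁⟩, hy₂⟩, hy⟩ := exists_isClosed_singleton_mem fY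
    ((V₀.2.inter V₁.2).inter V₂.2).isLocallyClosed ⟨_, ⟨hη, hV₁⟩, hV₂⟩
  obtain ⟨x₁, hx₁, rfl⟩ := hV₁le hy₁
  obtain ⟨x₂, hx₂, hx₂'⟩ := hV₂le hy₂
  obtain ⟨z, -, hz₁, hz₂⟩ := (hirr _ hy₀ hy).2 U₁ U₂ U₁.2 U₂.2 ⟨x₁, rfl, hx₁⟩ ⟨x₂, hx₂', hx₂⟩
  have hz : ξ₁ ⤳ z := hU₁le z hz₁
  have hz' : ξ₂ ⤳ z := hU₂le z hz₂

  -- `ξ₁` lies in `U₂` as well
  have h3 : ξ₁ ∈ U₂ := hz.mem_open U₂.2 hz₂
  exact (h₁ ξ₂ (hU₂le ξ₁ h3)).symm

omit [Field k] [LocallyOfFiniteType f] in
/-- An irreducible component is the closure of a maximal point. -/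
theorem exists_generic_of_component {Z : Set X} (hZ : Z ∈ irreducibleComponents X) :
    ∃ ξ, IsGenericPoint ξ Z ∧ ∀ z, z ⤳ ξ → z = ξ := by
  have hc := isClosed_of_mem_irreducibleComponents Z hZ
  refine ⟨hZ.1.genericPoint, ?_, fun z hz => ?_⟩
  · simpa [hc.closure_eq] using hZ.1.isGenericPoint_genericPoint_closure
  · have hg : IsGenericPoint hZ.1.genericPoint Z := by
      simpa [hc.closure_eq] using hZ.1.isGenericPoint_genericPoint_closure
    have h1 : Z ≤ closure {z} := fun w hw =>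
      specializes_iff_mem_closure.1 (hz.trans (hg.specializes hw))
    have h2 : closure {z} ≤ Z := hZ.2 isIrreducible_singleton.closure h1
    exact (hz.antisymm (hg.specializes (h2 (subset_closure rfl)))).eq

omit [Field k] [LocallyOfFiniteType f] in
theorem exists_component_generic (x : X) :
    ∃ Z ∈ irreducibleComponents X, ∃ ξ, IsGenericPoint ξ Z ∧ (∀ z, z ⤳ ξ → z = ξ) ∧ ξ ⤳ x := by
  obtain ⟨ξ, h1, h2⟩ := exists_generic_of_component (irreducibleComponent_mem_irreducibleComponents x)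
  exact ⟨_, irreducibleComponent_mem_irreducibleComponents x, ξ, h1, h2,
    h1.specializes mem_irreducibleComponent⟩

include f fY in
/-- If closed fibres are nonempty some maximal point dominates. -/
theorem exists_dominant_maximal [NoetherianSpace X] [IrreducibleSpace Y]
    (hne : ∀ y : Y, IsClosed ({y} : Set Y) → (g.base ⁻¹' {y}).Nonempty) :
    ∃ ξ : X, (∀ z, z ⤳ ξ → z = ξ) ∧ g ξ = genericPoint Y := by
  by_contra h
  push Not at h
  obtain ⟨S, hSf, hSc, hSi, hS⟩ := NoetherianSpace.exists_finite_set_isClosed_irreducible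
    (s := (Set.univ : Set X)) isClosed_univ
  have hcl : IsClosed (⋃ Z ∈ irreducibleComponents X, closure (g.base '' Z)) :=
    NoetherianSpace.finite_irreducibleComponents.isClosed_biUnion fun Z _ => isClosed_closure
  have hη : genericPoint Y ∉ ⋃ Z ∈ irreducibleComponents X, closure (g.base '' Z) := by
    rintro hη
    obtain ⟨Z, hZ, hηZ⟩ := Set.mem_iUnion₂.1 hη
    obtain ⟨ξ, hξ, hmax⟩ := exists_generic_of_component hZ
    refine h ξ hmax (((genericPoint_specializes (g ξ)).antisymm ?_).eq.symm)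
    refine specializes_iff_mem_closure.2 (closure_minimal ?_ isClosed_closure hηZ)
    rintro _ ⟨x, hx, rfl⟩
    exact specializes_iff_mem_closure.1 ((hξ.specializes hx).map g.continuous)
  obtain ⟨y, hy, hyc⟩ := exists_isClosed_singleton_mem fY hcl.isOpen_compl.isLocallyClosed ⟨_, hη⟩
  obtain ⟨x, hx⟩ := hne y hyc
  obtain ⟨Z, hZ, ξ, hξ, -, hξx⟩ := exists_component_generic x
  exact hy (Set.mem_biUnion hZ (subset_closure ⟨x, Eq.subset (hξ : closure {ξ} = Z) (specializes_iff_mem_closure.1 hξx), hx⟩))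

end Groth.Variety2.Dim
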