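import Mathlib
import Groth.Agent.Variety2.DimFiber

/-!
Sections by locally principal closed subsets, and proper affine schemes.
-/

universe u

open CategoryTheory AlgebraicGeometry TopologicalSpace

namespace Groth.Variety2.Dim

variable {k : Type u} [Field k] {X : Scheme.{u}} (f : X ⟶ Spec (CommRingCat.of k))
  [LocallyOfFiniteType f]

include f in
/-- A maximal point of the vanishing locus of one equation in an irreducible closed set has
codimension one. -/
theorem height_add_one_of_hypersurface {U : X.Opens} (hU : IsAffineOpen U) (a : Γ(X, U)) {ξ ζ : X}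
    (hξζ : ξ ⤳ ζ) (hζU : ζ ∈ U) (hξa : ξ ∈ X.basicOpen a) (hζa : ζ ∉ X.basicOpen a)
    (hmax : ∀ z, ξ ⤳ z → z ⤳ ζ → z ∉ X.basicOpen a → z = ζ) :
    Order.height ζ + 1 = Order.height ξ := by
  obtain ⟨p, hp⟩ := exists_prime_of_mem hU (hξζ.mem_open U.2 hζU)
  obtain ⟨q, hq⟩ := exists_prime_of_mem hU hζU
  have hmem : ∀ r : PrimeSpectrum Γ(X, U), hU.fromSpec r ∈ X.basicOpen a ↔ a ∉ r.asIdeal := fun r => by
    rw [← Scheme.Hom.mem_preimage, hU.fromSpec_preimage_basicOpen]
    rfl
  have hpq : p ≤ q := by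
    rw [← le_fromSpec_iff hU, hp, hq, Scheme.le_iff_specializes]; exact hξζ
  have hap : a ∉ p.asIdeal := (hmem p).1 (hp ▸ hξa)
  have haq : a ∈ q.asIdeal := not_not.1 fun h => hζa (hq ▸ (hmem q).2 h)
  let π := Ideal.Quotient.mk p.asIdeal
  let P : PrimeSpectrum (Γ(X, U) ⧸ p.asIdeal) := ⟨q.asIdeal.map π,
    Ideal.map_isPrime_of_surjective Ideal.Quotient.mk_surjective (by rw [Ideal.mk_ker]; exact hpq)⟩
  have hP : P.comap π = q := PrimeSpectrum.ext <| by
    rw [PrimeSpectrum.comap_asIdeal, Ideal.comap_map_of_surjective' _ Ideal.Quotient.mk_surjective,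
      sup_eq_left, Ideal.mk_ker]
    exact hpq
  obtain ⟨φ, -, hft⟩ := exists_algebra f hU
  have : IsNoetherianRing Γ(X, U) := by
    let := φ.hom.toAlgebra
    have : Algebra.FiniteType k Γ(X, U) := hft
    exact Algebra.FiniteType.isNoetherianRing k _
  have hmin : P.asIdeal ∈ (Ideal.span {π a}).minimalPrimes := by
    refine ⟨⟨P.2, Ideal.span_le.2 (Set.singleton_subset_iff.2 (Ideal.mem_map_of_mem _ haq))⟩,
      fun Q hQ hQP => ?_⟩
    let Q' : PrimeSpectrum Γ(X, U) := (⟨Q, hQ.1⟩ : PrimeSpectrum _).comap π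
    have h1 : ξ ⤳ hU.fromSpec Q' := by
      rw [← Scheme.le_iff_specializes, ← hp, le_fromSpec_iff]
      intro b hb
      change π b ∈ Q
      rw [Ideal.Quotient.eq_zero_iff_mem.2 hb]
      exact Q.zero_mem
    have hQ'q : Q' ≤ q := fun b hb => hP.le (hQP hb : π b ∈ P.asIdeal)
    have h2 : hU.fromSpec Q' ⤳ ζ := by
      rw [← Scheme.le_iff_specializes, ← hq, le_fromSpec_iff]; exact hQ'q
    have h3 : hU.fromSpec Q' ∉ X.basicOpen a := fun h =>
      (hmem Q').1 h (hQ.2 (Ideal.subset_span rfl))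
    have h4 : Q' = q := hU.fromSpec.isOpenEmbedding.injective ((hmax _ h1 h2 h3).trans hq.symm)
    intro b hb
    obtain ⟨b, rfl⟩ := Ideal.Quotient.mk_surjective b
    have : b ∈ q.asIdeal := hP.le hb
    rw [← h4] at this
    exact this
  have := P.isPrime
  have hle : P.asIdeal.height ≤ 1 := Ideal.height_le_one_of_isPrincipal_of_mem_minimalPrimes _ _ hmin
  have hne : P.asIdeal.height ≠ 0 := fun h => by
    have : IsDomain (Γ(X, U) ⧸ p.asIdeal) := Ideal.Quotient.isDomain _
    rw [Ideal.height_eq_zero_iff] at h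
    have hbot : P.asIdeal = ⊥ := le_antisymm (h.2 ⟨Ideal.isPrime_bot, bot_le⟩ bot_le) bot_le
    have : π a ∈ P.asIdeal := Ideal.mem_map_of_mem _ haq
    rw [hbot] at this
    exact hap (Ideal.Quotient.eq_zero_iff_mem.1 this)
  have := height_prime_add f hU p.asIdeal P
  rw [hP, hq, show (⟨p.asIdeal, p.2⟩ : PrimeSpectrum _) = p from rfl, hp,
    le_antisymm hle (ENat.one_le_iff_ne_zero.2 hne)] at this
  rw [← this, add_comm]

omit [LocallyOfFiniteType f] in
include f in
/-- A closed set inside an affine open of a proper scheme consists of closed points. -/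
theorem height_eq_zero_of_subset_affine [IsProper f] {T : Set X} (hT : IsClosed T) {U : X.Opens}
    (hU : IsAffineOpen U) (hTU : T ⊆ (U : Set X)) {x : X} (hx : x ∈ T) : Order.height x = 0 := by
  let I := Scheme.IdealSheafData.vanishingIdeal ⟨T, hT⟩
  have hr : Set.range I.subschemeι = T := by
    rw [Scheme.IdealSheafData.range_subschemeι, Scheme.IdealSheafData.coe_support_vanishingIdeal]
    rfl
  have hr' : Set.range I.subschemeι ⊆ U.ι.opensRange := by
    rw [hr, Scheme.Opens.opensRange_ι]; exact hTU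
  let j := IsOpenImmersion.lift U.ι I.subschemeι hr'
  have hj : j ≫ U.ι = I.subschemeι := IsOpenImmersion.lift_fac _ _ _
  have : IsClosedImmersion (j ≫ U.ι) := hj ▸ inferInstance
  have : IsClosedImmersion j := IsClosedImmersion.of_comp j U.ι
  have : IsAffine U.toScheme := hU
  have : IsAffine I.subscheme := isAffine_of_isAffineHom j
  let fZ := I.subschemeι ≫ f
  have : IsFinite fZ := IsFinite.iff_isProper_and_isAffineHom.2 ⟨inferInstance, inferInstance⟩
  have : Finite I.subscheme := by
    refine Set.finite_univ_iff.1 ((fZ.finite_preimage_singleton (IsLocalRing.closedPoint k)).subset ?_)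
    exact fun z _ => Subsingleton.elim (α := PrimeSpectrum k) _ _
  have : JacobsonSpace I.subscheme := jacobsonSpace fZ
  obtain ⟨z, rfl⟩ : x ∈ Set.range I.subschemeι := hr.symm ▸ hx
  rw [height_eq_of_isPreimmersion fZ f I.subschemeι rfl z, height_eq_zero_iff]
  exact isClosed_discrete _

end Groth.Variety2.Dim
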