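import Mathlib
import Groth.Prelude.Def_CohB1

/-!
Points of projective space given by homogeneous primes.
-/

universe u

open MvPolynomial

namespace Groth.Variety2.PSpace

variable {k : Type u} [Field k] {σ : Type*} {n : ℕ}

/-- The polynomial in a new variable recording the homogeneous components. -/
noncomputable def degHom : MvPolynomial σ k →ₐ[k] Polynomial (MvPolynomial σ k) :=
  aeval fun i => Polynomial.X * Polynomial.C (X i)

theorem coeff_degHom (p : MvPolynomial σ k) (a : ℕ) :
    (degHom p).coeff a = homogeneousComponent a p := by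
  induction p using MvPolynomial.induction_on' with
  | add p q hp hq => simp [hp, hq]
  | monomial m c =>
    have h : degHom (monomial m c) = Polynomial.monomial m.degree (monomial m c) := by
      rw [degHom, aeval_monomial, Finsupp.prod]
      simp only [mul_pow, Finset.prod_mul_distrib, Finset.prod_pow_eq_pow_sum, ← map_pow, ← map_prod]
      rw [mul_left_comm, Polynomial.X_pow_mul, ← Polynomial.C_mul_X_pow_eq_monomial,
        show algebraMap k (Polynomial (MvPolynomial σ k)) c = Polynomial.C (C c) from rfl,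
        ← map_mul, Finsupp.degree, monomial_eq, Finsupp.prod]
      rfl
    rw [h, Polynomial.coeff_monomial, homogeneousComponent_of_mem (isHomogeneous_monomial c rfl)]
    split_ifs with h1 h2 h2
    · rfl
    · exact absurd h1.symm h2
    · exact absurd h2.symm h1
    · rfl

theorem isHomogeneous_left_of_mul {p q : MvPolynomial σ k} {d : ℕ} (h : (p * q).IsHomogeneous d)
    (h0 : p * q ≠ 0) : ∃ a, p.IsHomogeneous a := by
  have hp : p ≠ 0 := left_ne_zero_of_mul h0
  have hq : q ≠ 0 := right_ne_zero_of_mul h0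
  have hinj : ∀ r : MvPolynomial σ k, r ≠ 0 → degHom r ≠ 0 := by
    intro r hr hd
    refine hr ?_
    rw [← sum_homogeneousComponent r]
    exact Finset.sum_eq_zero fun a _ => by rw [← coeff_degHom, hd, Polynomial.coeff_zero]
  have hpq : degHom p * degHom q = Polynomial.monomial d (p * q) := by
    rw [← map_mul]
    ext1 a
    rw [coeff_degHom, Polynomial.coeff_monomial, homogeneousComponent_of_mem h]
    by_cases had : d = a
    · rw [if_pos had, if_pos had.symm]
    · rw [if_neg had, if_neg (fun e => had e.symm)]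
  have h1 := congrArg Polynomial.natDegree hpq
  have h2 := congrArg Polynomial.natTrailingDegree hpq
  rw [Polynomial.natDegree_mul (hinj p hp) (hinj q hq), Polynomial.natDegree_monomial_eq d h0] at h1
  rw [Polynomial.natTrailingDegree_mul (hinj p hp) (hinj q hq),
    Polynomial.natTrailingDegree_monomial h0] at h2
  have := (degHom p).natTrailingDegree_le_natDegree
  have := (degHom q).natTrailingDegree_le_natDegree
  refine ⟨(degHom p).natDegree, ?_⟩
  have hz : ∀ a, a ≠ (degHom p).natDegree → homogeneousComponent a p = 0 := by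
    intro a ha
    rw [← coeff_degHom]
    rcases Nat.lt_or_ge (degHom p).natDegree a with hlt | hge
    · exact Polynomial.coeff_eq_zero_of_natDegree_lt hlt
    · exact Polynomial.coeff_eq_zero_of_lt_natTrailingDegree (by omega)
  generalize (degHom p).natDegree = D at hz
  rw [← sum_homogeneousComponent p]
  refine IsHomogeneous.sum _ _ _ fun a _ => ?_
  by_cases ha : a = D
  · exact ha ▸ homogeneousComponent_isHomogeneous a p
  · rw [hz a ha]; exact isHomogeneous_zero _ _ _

/-- The point of a relevant homogeneous prime. -/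
noncomputable def mkPt (I : Ideal (MvPolynomial (Fin (n + 1)) k))
    (hI : I.IsHomogeneous (CohB1.polyGrading n k)) (hp : I.IsPrime) {i : Fin (n + 1)} (hi : X i ∉ I) :
    ProjectiveSpectrum (CohB1.polyGrading n k) where
  asHomogeneousIdeal := ⟨I, hI⟩
  isPrime := hp
  not_irrelevant_le h := hi (h (show X i ∈ HomogeneousIdeal.irrelevant (CohB1.polyGrading n k) by
    rw [HomogeneousIdeal.mem_irrelevant_iff, GradedRing.proj_apply,
      DirectSum.decompose_of_mem_ne _ (isHomogeneous_X k i : X i ∈ CohB1.polyGrading n k 1) one_ne_zero]))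

@[simp]
theorem mem_mkPt {I : Ideal (MvPolynomial (Fin (n + 1)) k)}
    (hI : I.IsHomogeneous (CohB1.polyGrading n k)) (hp : I.IsPrime) {i : Fin (n + 1)} (hi : X i ∉ I)
    (f : MvPolynomial (Fin (n + 1)) k) : f ∈ (mkPt I hI hp hi).asHomogeneousIdeal ↔ f ∈ I :=
  Iff.rfl

/-- Some variable does not vanish at each point. -/
theorem exists_X_notMem (x : ProjectiveSpectrum (CohB1.polyGrading n k)) :
    ∃ i, X i ∉ x.asHomogeneousIdeal := by
  by_contra h
  push Not at h
  refine x.not_irrelevant_le fun f hf => ?_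
  rw [HomogeneousIdeal.mem_irrelevant_iff, GradedRing.proj_apply] at hf
  have h0 : coeff 0 f = 0 := by
    have := congrArg (coeff 0) hf
    rw [show ((DirectSum.decompose (CohB1.polyGrading n k) f 0 : CohB1.polyGrading n k 0) :
        MvPolynomial (Fin (n + 1)) k) = homogeneousComponent 0 f from
      MvPolynomial.decomposition.decompose'_apply f 0] at this
    rwa [coeff_homogeneousComponent, coeff_zero, if_pos (by simp)] at this
  have hspan : f ∈ Ideal.span (X '' (Set.univ : Set (Fin (n + 1)))) := by
    rw [mem_ideal_span_X_image]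
    intro m hm
    by_contra hcon
    push Not at hcon
    have : m = 0 := Finsupp.ext fun i => hcon i trivial
    rw [mem_support_iff, this] at hm
    exact hm h0
  refine (Ideal.span_le.2 ?_ : _ ≤ x.asHomogeneousIdeal.toIdeal) hspan
  rintro _ ⟨i, -, rfl⟩
  exact h i

theorem isPrime_span_X (s : Set σ) : (Ideal.span (X '' s) : Ideal (MvPolynomial σ k)).IsPrime := by
  classical
  set I : Ideal (MvPolynomial σ k) := Ideal.span (X '' s)
  let φ : MvPolynomial σ k →ₐ[k] MvPolynomial σ k := aeval fun j => if j ∈ s then 0 else X j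
  have hφ : (Ideal.Quotient.mkₐ k I).comp φ = Ideal.Quotient.mkₐ k I := by
    ext j
    simp only [AlgHom.comp_apply, φ, aeval_X, Ideal.Quotient.mkₐ_eq_mk]
    split_ifs with h
    · rw [map_zero, eq_comm, Ideal.Quotient.eq_zero_iff_mem]
      exact Ideal.subset_span ⟨j, h, rfl⟩
    · rfl
  have : I = RingHom.ker φ := by
    refine le_antisymm (Ideal.span_le.2 ?_) fun f hf => ?_
    · rintro _ ⟨j, hj, rfl⟩
      simp [φ, hj]
    · rw [RingHom.mem_ker] at hf
      rw [← Ideal.Quotient.eq_zero_iff_mem]
      have h1 : Ideal.Quotient.mkₐ k I (φ f) = Ideal.Quotient.mkₐ k I f := congr($hφ f)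
      rw [hf, map_zero] at h1
      exact h1.symm
  rw [this]
  exact RingHom.ker_isPrime _

theorem X_notMem_span {s : Set (Fin (n + 1))} {i : Fin (n + 1)} (hi : i ∉ s) :
    (X i : MvPolynomial (Fin (n + 1)) k) ∉ Ideal.span (X '' s) := by
  rw [mem_ideal_span_X_image]
  intro h
  obtain ⟨j, hj, hj'⟩ := h (Finsupp.single i 1) (by rw [support_X]; simp)
  rcases eq_or_ne j i with rfl | hne
  · exact hi hj
  · simp [hne] at hj'

theorem isHomogeneous_span_X (s : Set (Fin (n + 1))) :
    (Ideal.span (X '' s) : Ideal (MvPolynomial (Fin (n + 1)) k)).IsHomogeneous (CohB1.polyGrading n k) :=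
  Ideal.homogeneous_span _ _ (by rintro _ ⟨i, -, rfl⟩; exact ⟨1, isHomogeneous_X k i⟩)

theorem isHomogeneous_span_singleton {f : MvPolynomial (Fin (n + 1)) k} {d : ℕ} (hf : f.IsHomogeneous d) :
    (Ideal.span {f}).IsHomogeneous (CohB1.polyGrading n k) :=
  Ideal.homogeneous_span _ _ (by rintro _ rfl; exact ⟨d, hf⟩)

theorem isHomogeneous_bot' : (⊥ : Ideal (MvPolynomial (Fin (n + 1)) k)).IsHomogeneous (CohB1.polyGrading n k) := by
  rw [← Ideal.span_empty]
  exact Ideal.homogeneous_span _ _ (by simp)

/-- The generic point of projective space. -/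
noncomputable def eta (n : ℕ) (k : Type u) [Field k] : ProjectiveSpectrum (CohB1.polyGrading n k) :=
  mkPt ⊥ isHomogeneous_bot' Ideal.isPrime_bot (i := 0) (by simp [X_ne_zero])

theorem specializes_iff (x y : ProjectiveSpectrum (CohB1.polyGrading n k)) :
    x ⤳ y ↔ x.asHomogeneousIdeal ≤ y.asHomogeneousIdeal := by
  rw [specializes_iff_mem_closure, ← ProjectiveSpectrum.le_iff_mem_closure]
  rfl

theorem eta_specializes (x : ProjectiveSpectrum (CohB1.polyGrading n k)) : eta n k ⤳ x := by
  rw [specializes_iff]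
  intro f hf
  rw [show f = 0 from hf]
  exact zero_mem _

theorem not_mem_eta {f : MvPolynomial (Fin (n + 1)) k} (hf : f ≠ 0) :
    f ∉ (eta n k).asHomogeneousIdeal := hf

theorem zero_lt_degree_of_mem {f : MvPolynomial (Fin (n + 1)) k} {d : ℕ} (hf : f.IsHomogeneous d)
    (hf0 : f ≠ 0) (x : ProjectiveSpectrum (CohB1.polyGrading n k)) (hx : f ∈ x.asHomogeneousIdeal) :
    0 < d := by
  rcases Nat.eq_zero_or_pos d with rfl | h
  · refine absurd ?_ x.isPrime.ne_top
    have he := (totalDegree_eq_zero_iff_eq_C.1 (Nat.le_zero.1 hf.totalDegree_le))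
    refine Ideal.eq_top_of_isUnit_mem _ hx ?_
    rw [he] at hf0 ⊢
    exact (isUnit_iff_ne_zero.2 fun h => hf0 (by rw [h, map_zero])).map C
  · exact h

/-- A point other than the generic one contains an irreducible homogeneous polynomial. -/
theorem exists_irreducible_mem (x : ProjectiveSpectrum (CohB1.polyGrading n k))
    {f : MvPolynomial (Fin (n + 1)) k} {d : ℕ} (hf : f.IsHomogeneous d) (hf0 : f ≠ 0)
    (hx : f ∈ x.asHomogeneousIdeal) :
    ∃ (g : MvPolynomial (Fin (n + 1)) k) (e : ℕ), g.IsHomogeneous e ∧ Irreducible g ∧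
      g ∈ x.asHomogeneousIdeal ∧ g ∣ f := by
  have key : ∀ p : MvPolynomial (Fin (n + 1)) k, p ≠ 0 → p ∈ x.asHomogeneousIdeal.toIdeal →
      ∃ g, Irreducible g ∧ g ∈ x.asHomogeneousIdeal.toIdeal ∧ g ∣ p := by
    intro p
    induction p using UniqueFactorizationMonoid.induction_on_prime with
    | h₁ => intro h; exact absurd rfl h
    | h₂ p hp => exact fun _ h => absurd (Ideal.eq_top_of_isUnit_mem _ h hp) x.isPrime.ne_top
    | h₃ a q ha hq ih =>
      intro _ h
      rcases x.isPrime.mem_or_mem h with h | h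
      · exact ⟨q, hq.irreducible, h, dvd_mul_right _ _⟩
      · obtain ⟨g, h1, h2, h3⟩ := ih ha h
        exact ⟨g, h1, h2, h3.trans (dvd_mul_left _ _)⟩
  obtain ⟨g, h1, h2, c, rfl⟩ := key f hf0 hx
  obtain ⟨e, he⟩ := isHomogeneous_left_of_mul hf hf0
  exact ⟨g, e, he, h1, h2, dvd_mul_right _ _⟩

/-- A homogeneous prime element gives a point once a variable avoids it. -/
theorem exists_pt_of_irreducible {g : MvPolynomial (Fin (n + 1)) k} {e : ℕ} (hg : g.IsHomogeneous e)
    (hirr : Irreducible g) (x : ProjectiveSpectrum (CohB1.polyGrading n k))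
    (hx : g ∈ x.asHomogeneousIdeal) :
    ∃ p : ProjectiveSpectrum (CohB1.polyGrading n k), p ⤳ x ∧
      ∀ f, f ∈ p.asHomogeneousIdeal ↔ g ∣ f := by
  obtain ⟨i, hi⟩ := exists_X_notMem x
  refine ⟨mkPt (Ideal.span {g}) (isHomogeneous_span_singleton hg)
    ((Ideal.span_singleton_prime hirr.ne_zero).2 hirr.prime) (i := i)
    (fun h => hi (Ideal.span_le.2 (Set.singleton_subset_iff.2 hx) h)), ?_, fun f => ?_⟩
  · rw [specializes_iff]
    exact Ideal.span_le.2 (Set.singleton_subset_iff.2 hx)
  · rw [mem_mkPt, Ideal.mem_span_singleton]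

end Groth.Variety2.PSpace
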