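import Mathlib
import Groth.Agent.Variety2.ProjBasics
import Groth.Agent.Variety2.ProjPoints
import Groth.Agent.Variety2.HypSection

/-!
Dimension theory in projective space.
-/

universe u

open CategoryTheory AlgebraicGeometry TopologicalSpace MvPolynomial

namespace Groth.Variety2.PSpace

variable {k : Type u} [Field k] {n : ℕ}

local notation "Pt" => ProjectiveSpectrum (CohB1.polyGrading n k)

instance : LocallyOfFiniteType (CohB1.ProjSpace.toSpec n k) := inferInstance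
instance : QuasiCompact (CohB1.ProjSpace.toSpec n k) := inferInstance

/-- Height of a point of projective space. -/
noncomputable def ht (x : Pt) : ℕ∞ := Order.height (α := ↥(CohB1.ProjSpace n k)) x

theorem ht_mono {x y : Pt} (h : y ⤳ x) : ht x ≤ ht y :=
  Order.height_mono (α := ↥(CohB1.ProjSpace n k)) (Scheme.le_iff_specializes.2 h)

theorem ht_lt {x y : Pt} (h : y ⤳ x) (hne : x ≠ y) : ht x < ht y :=
  Dim.height_toNat_lt (CohB1.ProjSpace.toSpec n k) (Dim.lt_iff.2 ⟨h, hne⟩)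

theorem exists_ht_eq (x : Pt) : ∃ m : ℕ, ht x = m :=
  Dim.exists_height_eq (CohB1.ProjSpace.toSpec n k) x

theorem ht_eq_zero_iff (x : Pt) : ht x = 0 ↔ IsClosed ({x} : Set Pt) :=
  Dim.height_eq_zero_iff (X := CohB1.ProjSpace n k) x

/-- Each point has an affine neighbourhood in which a homogeneous polynomial is a function. -/
theorem exists_chart {f : MvPolynomial (Fin (n + 1)) k} {d : ℕ} (hf : f.IsHomogeneous d) (hd : 0 < d)
    (x : Pt) : ∃ (U : (CohB1.ProjSpace n k).Opens) (a : Γ(CohB1.ProjSpace n k, U)),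
      IsAffineOpen U ∧ x ∈ U ∧
        ∀ y : Pt, y ∈ U → (y ∈ (CohB1.ProjSpace n k).basicOpen a ↔ f ∉ y.asHomogeneousIdeal) := by
  obtain ⟨i, hi⟩ := exists_X_notMem x
  let 𝒜 := CohB1.polyGrading n k
  have hXi : X i ∈ 𝒜 1 := isHomogeneous_X k i
  let ι' := Proj.awayι 𝒜 (X i) hXi one_pos
  let g := HomogeneousLocalization.Away.isLocalizationElem hXi (hf : f ∈ 𝒜 d)
  let b := (Scheme.ΓSpecIso (.of (HomogeneousLocalization.Away 𝒜 (X i)))).inv g
  refine ⟨ι' ''ᵁ ⊤, (ι'.appIso ⊤).inv b, (isAffineOpen_top _).image_of_isOpenImmersion ι', ?_,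
    fun y hy => ?_⟩
  · rw [Scheme.Hom.image_top_eq_opensRange,
      show ι'.opensRange = Proj.basicOpen 𝒜 (X i) from Proj.opensRange_awayι 𝒜 (X i) hXi one_pos]
    exact hi
  obtain ⟨p, -, rfl⟩ := hy
  change ι' p ∈ (Proj 𝒜).basicOpen _ ↔ ι' p ∈ Proj.basicOpen 𝒜 f
  rw [← Scheme.image_basicOpen, ← Scheme.Hom.mem_preimage, ← Scheme.Hom.mem_preimage,
    Scheme.Hom.preimage_image_eq, Proj.awayι_preimage_basicOpen 𝒜 hXi one_pos hf hd,
    basicOpen_eq_of_affine]

/-- Non-closed points have a point of every hypersurface in their closure. -/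
theorem exists_mem_of_pos {f : MvPolynomial (Fin (n + 1)) k} {d : ℕ} (hf : f.IsHomogeneous d)
    (hd : 0 < d) {ξ : Pt} (hξ : ht ξ ≠ 0) : ∃ x : Pt, ξ ⤳ x ∧ f ∈ x.asHomogeneousIdeal := by
  by_contra h
  push Not at h
  exact hξ (Dim.height_eq_zero_of_subset_affine (CohB1.ProjSpace.toSpec n k)
    (T := closure ({ξ} : Set Pt)) isClosed_closure
    (Proj.isAffineOpen_basicOpen (CohB1.polyGrading n k) f hf hd)
    (fun x hx => h x (specializes_iff_mem_closure.2 hx)) (subset_closure rfl))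

/-- Maximal points of a hypersurface section have codimension one. -/
theorem ht_add_one {f : MvPolynomial (Fin (n + 1)) k} {d : ℕ} (hf : f.IsHomogeneous d) (hd : 0 < d)
    {ξ ζ : Pt} (hξζ : ξ ⤳ ζ) (hξ : f ∉ ξ.asHomogeneousIdeal) (hζ : f ∈ ζ.asHomogeneousIdeal)
    (hmax : ∀ z : Pt, ξ ⤳ z → z ⤳ ζ → f ∈ z.asHomogeneousIdeal → z = ζ) :
    ht ζ + 1 = ht ξ := by
  obtain ⟨U, a, hU, hζU, ha⟩ := exists_chart hf hd ζ
  exact Dim.height_add_one_of_hypersurface (CohB1.ProjSpace.toSpec n k) hU a hξζ hζU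
    ((ha ξ (hξζ.mem_open U.2 hζU)).2 hξ) (fun h => (ha ζ hζU).1 h hζ)
    fun z h1 h2 h3 => hmax z h1 h2
      (not_not.1 fun hc => h3 ((ha z (h2.mem_open U.2 hζU)).2 hc))

/-- Every point of a closed subset of the form `closure {ξ} ∩ V(S)` lies below a maximal one. -/
theorem exists_maximal {S : Set Pt} {x : Pt} (hx : x ∈ S) :
    ∃ z ∈ S, z ⤳ x ∧ ∀ w ∈ S, w ⤳ z → w = z := by
  obtain ⟨N, hN⟩ := exists_ht_eq (eta n k)
  obtain ⟨z, ⟨hz, hzx⟩, hmax⟩ := WellFounded.has_min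
    (InvImage.wf (fun z : Pt => N - (ht z).toNat) wellFounded_lt) {z ∈ S | z ⤳ x}
    ⟨x, hx, specializes_rfl⟩
  refine ⟨z, hz, hzx, fun w hw hwz => ?_⟩
  by_contra hne
  refine hmax w ⟨hw, hwz.trans hzx⟩ ?_
  have h1 := ht_lt hwz (Ne.symm hne)
  have h2 := ht_mono (eta_specializes w)
  obtain ⟨a, ha⟩ := exists_ht_eq z
  obtain ⟨b, hb⟩ := exists_ht_eq w
  rw [ha, hb] at h1
  rw [hb, hN] at h2
  have h1 : a < b := by exact_mod_cast h1
  have h2 : b ≤ N := by exact_mod_cast h2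
  change N - (ht w).toNat < N - (ht z).toNat
  rw [ha, hb]
  change N - b < N - a
  omega

open scoped Classical in
/-- Iterated sections: every maximal point has codimension at most the number of equations. -/
theorem ht_le_add_card (ξ : Pt) (S : Finset (MvPolynomial (Fin (n + 1)) k))
    (hS : ∀ f ∈ S, ∃ d, 0 < d ∧ f.IsHomogeneous d) {ζ : Pt} (hξζ : ξ ⤳ ζ)
    (hζ : ∀ f ∈ S, f ∈ ζ.asHomogeneousIdeal)
    (hmax : ∀ z : Pt, ξ ⤳ z → z ⤳ ζ → (∀ f ∈ S, f ∈ z.asHomogeneousIdeal) → z = ζ) :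
    ht ξ ≤ ht ζ + S.card := by
  induction S using Finset.induction generalizing ζ with
  | empty => simp [hmax ξ specializes_rfl hξζ (by simp)]
  | insert g S hg ih =>
    rw [Finset.forall_mem_insert] at hS hζ
    obtain ⟨z, ⟨hz1, hz2, hz3⟩, -, hz4⟩ := exists_maximal
      (S := {z | ξ ⤳ z ∧ z ⤳ ζ ∧ ∀ f ∈ S, f ∈ z.asHomogeneousIdeal}) (x := ζ)
      ⟨hξζ, specializes_rfl, hζ.2⟩
    have h1 := ih hS.2 hz1 hz3 fun w a b c => hz4 w ⟨a, b.trans hz2, c⟩ b
    rw [Finset.card_insert_of_notMem hg, Nat.cast_add, Nat.cast_one]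
    by_cases hgz : g ∈ z.asHomogeneousIdeal
    · rw [hmax z hz1 hz2 (Finset.forall_mem_insert .. |>.2 ⟨hgz, hz3⟩)] at h1
      exact h1.trans (by rw [← add_assoc]; exact le_self_add)
    · obtain ⟨d, hd, hgd⟩ := hS.1
      rw [← ht_add_one hgd hd hz2 hgz hζ.1 fun w a b c => hmax w (hz1.trans a) b
        (Finset.forall_mem_insert .. |>.2 ⟨c, fun f hf => (specializes_iff z w).1 a (hz3 f hf)⟩)] at h1
      exact h1.trans_eq (by ring)

open scoped Classical in
/-- A closed set of large dimension meets any few hypersurfaces. -/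
theorem exists_mem_of_card_le (ξ : Pt) (S : Finset (MvPolynomial (Fin (n + 1)) k))
    (hS : ∀ f ∈ S, ∃ d, 0 < d ∧ f.IsHomogeneous d) (h : (S.card : ℕ∞) ≤ ht ξ) :
    ∃ x : Pt, ξ ⤳ x ∧ ∀ f ∈ S, f ∈ x.asHomogeneousIdeal := by
  induction S using Finset.induction with
  | empty => exact ⟨ξ, specializes_rfl, by simp⟩
  | insert g S hg ih =>
    rw [Finset.forall_mem_insert] at hS
    rw [Finset.card_insert_of_notMem hg, Nat.cast_add, Nat.cast_one] at h
    obtain ⟨x, hx1, hx2⟩ := ih hS.2 (le_self_add.trans h)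
    obtain ⟨z, ⟨hz1, hz3⟩, hz2, hz4⟩ := exists_maximal
      (S := {z | ξ ⤳ z ∧ ∀ f ∈ S, f ∈ z.asHomogeneousIdeal}) (x := x) ⟨hx1, hx2⟩
    have h1 := ht_le_add_card ξ S hS.2 hz1 hz3 fun w a b c => hz4 w ⟨a, c⟩ b
    have hpos : ht z ≠ 0 := fun h0 => by
      rw [h0, zero_add] at h1
      exact not_lt_of_ge (h.trans h1) (by exact_mod_cast Nat.lt_succ_self S.card)
    obtain ⟨d, hd, hgd⟩ := hS.1
    obtain ⟨y, hy1, hy2⟩ := exists_mem_of_pos hgd hd hpos
    exact ⟨y, hz1.trans hy1, Finset.forall_mem_insert .. |>.2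
      ⟨hy2, fun f hf => (specializes_iff z y).1 hy1 (hz3 f hf)⟩⟩

/-- Projective `n`-space has dimension `n`. -/
theorem ht_eta : ht (eta n k) = n := by
  classical
  refine le_antisymm ?_ ?_
  · by_contra hlt
    push Not at hlt
    obtain ⟨x, -, hx⟩ := exists_mem_of_card_le (eta n k) (Finset.univ.image (X (R := k)))
      (fun f hf => by
        obtain ⟨i, -, rfl⟩ := Finset.mem_image.1 hf
        exact ⟨1, one_pos, isHomogeneous_X k i⟩)
      (le_trans (Nat.cast_le.2 Finset.card_image_le) (by simpa using Order.add_one_le_of_lt hlt))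
    obtain ⟨i, hi⟩ := exists_X_notMem x
    exact hi (hx _ (Finset.mem_image_of_mem _ (Finset.mem_univ i)))
  · suffices h : ∀ m, ∀ hm : m ≤ n, ((m : ℕ∞) ≤ ht (mkPt (n := n) (k := k) (i := Fin.last n)
        (Ideal.span (X '' {j : Fin (n + 1) | (j : ℕ) < n - m})) (isHomogeneous_span_X _)
        (isPrime_span_X _) (X_notMem_span (by simp)))) from
      (h n le_rfl).trans (ht_mono (eta_specializes _))
    intro m
    induction m with
    | zero => simp
    | succ m ih =>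
      intro hm
      rw [Nat.cast_succ]
      refine le_trans (add_le_add (ih (by omega)) le_rfl) (Order.add_one_le_of_lt (ht_lt ?_ ?_))
      · rw [specializes_iff]
        exact Ideal.span_mono (Set.image_mono fun j (hj : (j : ℕ) < _) =>
          show (j : ℕ) < _ by omega)
      · intro e
        have h1 := congrArg (fun p : Pt => X (⟨n - (m + 1), by omega⟩ : Fin (n + 1)) ∈ p.asHomogeneousIdeal) e
        simp only [mem_mkPt, eq_iff_iff] at h1
        exact X_notMem_span (by simp) (h1.1 (Ideal.subset_span ⟨_, show n - (m + 1) < n - m by omega, rfl⟩))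

theorem dim_projSpace : topologicalKrullDim ↥(CohB1.ProjSpace n k) = (n : WithBot ℕ∞) := by
  rw [Dim.dim_eq_iSup_height]
  refine le_antisymm (iSup_le fun x => WithBot.coe_le_coe.2 ((ht_mono (eta_specializes x)).trans_eq ht_eta)) ?_
  exact le_iSup_of_le (eta n k) (WithBot.coe_le_coe.2 ht_eta.ge)

end Groth.Variety2.PSpace
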