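import Mathlib
import Groth.Agent.Variety2.GenSmooth

/-!
A morphism with formally etale stalk map at a point is etale near that point.
-/

universe u

open CategoryTheory AlgebraicGeometry

namespace Groth.Variety2

theorem formallyEtale_respectsIso : RingHom.RespectsIso @RingHom.FormallyEtale := by
  refine RingHom.StableUnderComposition.respectsIso (fun R S T _ _ _ f g hf hg => hf.comp hg) ?_
  intro R S _ _ e
  let := e.toRingHom.toAlgebra
  rw [RingHom.FormallyEtale]
  exact Algebra.FormallyEtale.of_equiv (AlgEquiv.ofBijective (Algebra.ofId R S) e.bijective)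

variable {X Y : Scheme.{u}}

/-- A morphism is etale in a neighbourhood of a point with formally etale stalk map. -/
theorem exists_etale_of_formallyEtale_stalk (f : X ⟶ Y) [LocallyOfFinitePresentation f] (x : X)
    (H : (f.stalkMap x).hom.FormallyEtale) : ∃ W : X.Opens, x ∈ W ∧ Etale (W.ι ≫ f) := by
  obtain ⟨U, hU, hxU, -⟩ := exists_isAffineOpen_mem_and_subset (U := ⊤) (Set.mem_univ (f x))
  obtain ⟨V, hV, hxV, hVU'⟩ := exists_isAffineOpen_mem_and_subset (U := f ⁻¹ᵁ U) hxU
  have hVU : V ≤ f ⁻¹ᵁ U := hVU'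
  have := f.finitePresentation_appLE hU hV hVU
  algebraize [(f.appLE U V hVU).hom]
  let p := (hU.primeIdealOf ⟨f x, hVU hxV⟩).asIdeal
  let q := (hV.primeIdealOf ⟨x, hxV⟩).asIdeal
  have : q.LiesOver p :=
    ⟨congr($(IsAffineOpen.comap_primeIdealOf_appLE U hU V hV hVU hxV).1).symm⟩
  let := Localization.AtPrime.algebraOfLiesOver p q
  have h1 : Algebra.FormallyEtale (Localization.AtPrime p) (Localization.AtPrime q) := by
    rw [← RingHom.formallyEtale_algebraMap]
    exact (formallyEtale_respectsIso.arrow_mk_iso_iff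
      (IsAffineOpen.arrowStalkMapIso f U hU V hV hVU hxV)).1 H
  have : Algebra.FormallyEtale Γ(Y, U) (Localization.AtPrime p) :=
    Algebra.FormallyEtale.of_isLocalization p.primeCompl
  have : Algebra.IsEtaleAt Γ(Y, U) q := Algebra.FormallyEtale.comp _ (Localization.AtPrime p) _
  obtain ⟨r, hr, het⟩ := Algebra.exists_etale_of_isEtaleAt (R := Γ(Y, U)) q
  let W := X.basicOpen r
  have hWV : W ≤ V := X.basicOpen_le r
  have hxW : x ∈ W := by
    have h : hV.fromSpec (hV.primeIdealOf ⟨x, hxV⟩) ∈ X.basicOpen r :=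
      (hV.fromSpec_preimage_basicOpen r).ge (show hV.primeIdealOf ⟨x, hxV⟩ ∈ PrimeSpectrum.basicOpen r from hr)
    rwa [hV.fromSpec_primeIdealOf] at h
  have hW : IsAffineOpen W := hV.basicOpen r
  have hloc := hV.isLocalization_basicOpen r
  have het' : (f.appLE U W (hWV.trans hVU)).hom.Etale := by
    rw [← RingHom.etale_algebraMap] at het
    convert! RingHom.Etale.respectsIso.1 _
      (IsLocalization.algEquiv (.powers r) _ Γ(X, X.basicOpen r)).toRingEquiv het
    ext a
    dsimp
    rw [IsScalarTower.algebraMap_apply Γ(Y, U) Γ(X, V) (Localization _), AlgEquiv.commutes]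
    simp only [RingHom.algebraMap_toAlgebra, ← ConcreteCategory.comp_apply,
      Scheme.Hom.appLE_map, W]
  refine ⟨W, hxW, ?_⟩
  have : IsAffine _ := hU
  have : IsAffine _ := hW
  have : Etale (f.resLE U W (hWV.trans hVU)) := by
    rw [HasRingHomProperty.iff_of_isAffine (P := @Etale)]
    exact (RingHom.Etale.respectsIso.arrow_mk_iso_iff
      (arrowResLEAppIso f U W (hWV.trans hVU))).mpr het'
  rw [← Scheme.Hom.resLE_comp_ι f (hWV.trans hVU)]
  infer_instance

end Groth.Variety2
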