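import Mathlib
import Groth.Agent.Variety2.GenSmooth

/-!
Smoothness over a perfect intermediate field; generic smoothness on the target.
-/

universe u

open CategoryTheory AlgebraicGeometry TensorProduct KaehlerDifferential

namespace Groth.Variety2

theorem formallySmooth_of_perfectField_tower (k K O : Type u) [Field k] [Field K] [CommRing O]
    [IsLocalRing O] [Algebra k K] [Algebra k O] [Algebra K O] [IsScalarTower k K O] [PerfectField K]
    [Algebra.EssFiniteType k K] [Algebra.EssFiniteType k O] [Algebra.FormallySmooth k O] :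
    Algebra.FormallySmooth K O := by
  have : Algebra.EssFiniteType K O := Algebra.EssFiniteType.of_comp k K O
  let κ := IsLocalRing.ResidueField O
  have : Algebra.FiniteType O κ :=
    Algebra.FiniteType.of_surjective (Algebra.ofId O κ) IsLocalRing.residue_surjective
  have : Algebra.EssFiniteType K κ := Algebra.EssFiniteType.comp K O κ
  have : Algebra.FormallySmooth K κ := Algebra.FormallySmooth.of_perfectField
  have hκ : Function.Injective (mapBaseChange k K κ) := by
    refine LinearMap.ker_eq_bot.1 ((Submodule.eq_bot_iff _).2 fun x hx => ?_)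
    obtain ⟨y, rfl⟩ := (Algebra.H1Cotangent.exact_δ_mapBaseChange k K κ x).1 hx
    rw [Subsingleton.elim y 0, map_zero]
  let m := mapBaseChange k K O
  have : Module.Finite O Ω[O⁄k] := inferInstance
  have : Module.Free O Ω[O⁄k] := Module.free_of_flat_of_isLocalRing
  have hcomp : ∀ z : κ ⊗[O] (O ⊗[K] Ω[K⁄k]),
      mapBaseChange k O κ (m.lTensor κ z) =
        mapBaseChange k K κ (AlgebraTensorModule.cancelBaseChange K O κ κ Ω[K⁄k] z) := by
    intro z
    induction z with
    | zero => simp
    | add a b ha hb => simp only [map_add, ha, hb]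
    | tmul a b =>
      induction b with
      | zero => simp
      | add b c hb hc => simp only [tmul_add, map_add, hb, hc]
      | tmul o w =>
        rw [LinearMap.lTensor_tmul, AlgebraTensorModule.cancelBaseChange_tmul]
        simp only [m, mapBaseChange_tmul, map_smul, smul_tmul', smul_eq_mul]
        rw [smul_assoc, smul_comm o a]
        congr 2
        have hw : w ∈ Submodule.span K (Set.range (D k K)) :=
          span_range_derivation k K ▸ Submodule.mem_top
        induction hw using Submodule.span_induction with
        | mem z hz => obtain ⟨c, rfl⟩ := hz; simp [← IsScalarTower.algebraMap_apply K O κ]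
        | zero => simp
        | add z z' _ _ h h' => simp only [map_add, h, h']
        | smul c z _ h => simp only [map_smul, LinearMap.map_smul_of_tower, h]
  have hinj : Function.Injective (m.lTensor κ) := fun a b h => by
    apply (AlgebraTensorModule.cancelBaseChange K O κ κ Ω[K⁄k]).injective
    apply hκ
    rw [← hcomp, ← hcomp, h]
  obtain ⟨l, hl⟩ := (IsLocalRing.split_injective_iff_lTensor_residueField_injective m).2 hinj
  have hl' : ∀ x, l (m x) = x := LinearMap.congr_fun hl
  refine ⟨?_, ?_⟩
  · obtain ⟨s, hs⟩ := ((exact_mapBaseChange_map k K O).split_tfae'.out 0 1 rfl rfl).2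
      ⟨map_surjective k K O, l, hl⟩ |>.2
    exact Module.Projective.of_split s (map k K O O) hs
  · refine ⟨fun a b => ?_⟩
    suffices h : ∀ x : Algebra.H1Cotangent K O, x = 0 by rw [h a, h b]
    intro x
    have h1 : m (Algebra.H1Cotangent.δ k K O x) = 0 :=
      (Algebra.H1Cotangent.exact_δ_mapBaseChange k K O).apply_apply_eq_zero x
    have h2 : Algebra.H1Cotangent.δ k K O x = 0 := by
      rw [← hl' (Algebra.H1Cotangent.δ k K O x), h1, map_zero]
    obtain ⟨y, rfl⟩ := (Algebra.H1Cotangent.exact_map_δ k K O x).1 h2
    rw [Subsingleton.elim y 0, map_zero]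

/-- In characteristic zero a smooth `k`-scheme is smooth over an integral `k`-scheme at all points
over the generic point. -/
theorem mem_smoothLocus_of_map_eq_genericPoint {k : Type u} [Field k] {X Y : Scheme.{u}}
    (qY : Y ⟶ Spec (CommRingCat.of k)) [LocallyOfFiniteType qY] [IsIntegral Y]
    [CharZero Y.functionField] (f : X ⟶ Y) [LocallyOfFinitePresentation f] [Smooth (f ≫ qY)]
    {x : X} (e : f x = genericPoint Y) : x ∈ f.smoothLocus := by
  have h0 : CharZero (Y.presheaf.stalk (f x)) := e.symm ▸ (inferInstance : CharZero Y.functionField)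
  let : Field (Y.presheaf.stalk (f x)) := (isField_stalk e).toField
  let : Field ((Spec (CommRingCat.of k)).presheaf.stalk (qY (f x))) :=
    (isField_stalk (Subsingleton.elim (α := PrimeSpectrum k) _ _)).toField
  have : CharZero (Y.presheaf.stalk (f x)) := h0
  have hsm : ((f ≫ qY).stalkMap x).hom.FormallySmooth :=
    (f ≫ qY).smoothLocus_eq_top.ge (Set.mem_univ x)
  have h1 := LocallyOfFiniteType.stalkMap qY (f x)
  have h2 : ((f ≫ qY).stalkMap x).hom.EssFiniteType := LocallyOfFiniteType.stalkMap _ x
  have hc : (f ≫ qY).stalkMap x = qY.stalkMap (f x) ≫ f.stalkMap x :=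
    Scheme.Hom.stalkMap_comp f qY x
  replace hsm : (CommRingCat.Hom.hom (qY.stalkMap (f x) ≫ f.stalkMap x)).FormallySmooth :=
    (congrArg (fun g => (CommRingCat.Hom.hom g).FormallySmooth) hc).mp hsm
  replace h2 : (CommRingCat.Hom.hom (qY.stalkMap (f x) ≫ f.stalkMap x)).EssFiniteType :=
    (congrArg (fun g => (CommRingCat.Hom.hom g).EssFiniteType) hc).mp h2
  let k' := (Spec (CommRingCat.of k)).presheaf.stalk (qY (f x))
  let := (qY.stalkMap (f x)).hom.toAlgebra
  let := (f.stalkMap x).hom.toAlgebra
  let alg : Algebra k' (X.presheaf.stalk x) :=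
    ((f.stalkMap x).hom.comp (qY.stalkMap (f x)).hom).toAlgebra
  have : IsScalarTower k' (Y.presheaf.stalk (f x)) (X.presheaf.stalk x) :=
    IsScalarTower.of_algebraMap_eq fun _ => rfl
  have : Algebra.EssFiniteType k' (Y.presheaf.stalk (f x)) := h1
  have : Algebra.EssFiniteType k' (X.presheaf.stalk x) := h2
  have : Algebra.FormallySmooth k' (X.presheaf.stalk x) := hsm
  rw [Scheme.Hom.mem_smoothLocus]
  exact formallySmooth_of_perfectField_tower k' (Y.presheaf.stalk (f x)) (X.presheaf.stalk x)

end Groth.Variety2
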