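import Mathlib
import Groth.Agent.Variety2.SmoothTarget

/-!
Bertini for the family of hyperplane sections `Σ cᵢ aᵢ = 0` in characteristic zero.
-/

universe u

open MvPolynomial

namespace Groth.Variety2.Bertini

/-- Generic smoothness for algebras over an affine domain in characteristic zero. -/
theorem exists_smooth_away (k A R' : Type u) [Field k] [CharZero k] [CommRing A] [IsDomain A]
    [CommRing R'] [Algebra k A] [Algebra k R'] [Algebra A R'] [IsScalarTower k A R']
    [Algebra.FiniteType k A] [Algebra.Smooth k R'] :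
    ∃ p : A, p ≠ 0 ∧ Algebra.Smooth A (Localization.Away (algebraMap A R' p)) := by
  let K := FractionRing A
  have : IsNoetherianRing A := Algebra.FiniteType.isNoetherianRing k A
  have : Algebra.FiniteType A R' := Algebra.FiniteType.of_restrictScalars_finiteType k A R'
  have : Algebra.FinitePresentation A R' := Algebra.FinitePresentation.of_finiteType.1 ‹_›
  have : CharZero K := charZero_of_injective_ringHom (algebraMap k K).injective
  -- smooth at the primes over the generic point
  have hgen : ∀ q : PrimeSpectrum R', (∀ b : A, b ≠ 0 → algebraMap A R' b ∉ q.asIdeal) →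
      q ∈ Algebra.smoothLocus A R' := by
    intro q hq
    let O := Localization.AtPrime q.asIdeal
    have hu : ∀ b : nonZeroDivisors A, IsUnit (algebraMap A O b) := fun b => by
      rw [IsScalarTower.algebraMap_apply A R' O]
      exact IsLocalization.map_units O (⟨_, hq b.1 (nonZeroDivisors.ne_zero b.2)⟩ : q.asIdeal.primeCompl)
    let : Algebra K O := (IsLocalization.lift hu).toAlgebra
    have : IsScalarTower A K O :=
      IsScalarTower.of_algebraMap_eq fun b => (IsLocalization.lift_eq hu b).symm
    have : IsScalarTower k K O := IsScalarTower.of_algebraMap_eq fun t => by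
      rw [IsScalarTower.algebraMap_apply k A K, ← IsScalarTower.algebraMap_apply A K O,
        ← IsScalarTower.algebraMap_apply k A O]
    have : Algebra.EssFiniteType A K := .of_isLocalization K (nonZeroDivisors A)
    have : Algebra.EssFiniteType k K := Algebra.EssFiniteType.comp k A K
    have : Algebra.EssFiniteType R' O := .of_isLocalization O q.asIdeal.primeCompl
    have : Algebra.EssFiniteType k O := Algebra.EssFiniteType.comp k R' O
    have : Algebra.FormallySmooth R' O := .of_isLocalization q.asIdeal.primeCompl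
    have : Algebra.FormallySmooth k O := .comp k R' O
    have : Algebra.FormallySmooth K O := formallySmooth_of_perfectField_tower k K O
    have : Algebra.FormallySmooth A K := .of_isLocalization (nonZeroDivisors A)
    exact Algebra.FormallySmooth.comp A K O
  obtain ⟨J, hJ⟩ := (PrimeSpectrum.isClosed_iff_zeroLocus_ideal _).1
    (Algebra.isOpen_smoothLocus (R := A) (A := R')).isClosed_compl
  obtain ⟨p, hp, hpJ⟩ : ∃ p : A, p ≠ 0 ∧ algebraMap A R' p ∈ J := by
    by_contra hcon
    push Not at hcon
    let M : Submonoid R' := (nonZeroDivisors A).map (algebraMap A R')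
    obtain ⟨q, hqprime, hJq, hdis⟩ := Ideal.exists_le_prime_disjoint J M (by
      rw [Set.disjoint_left]
      rintro _ hx ⟨b, hb, rfl⟩
      exact hcon b (nonZeroDivisors.ne_zero hb) hx)
    have h1 : (⟨q, hqprime⟩ : PrimeSpectrum R') ∈ Algebra.smoothLocus A R' := hgen _ fun b hb h =>
      Set.disjoint_left.1 hdis h ⟨b, mem_nonZeroDivisors_of_ne_zero hb, rfl⟩
    exact (hJ.ge (show (⟨q, hqprime⟩ : PrimeSpectrum R') ∈ PrimeSpectrum.zeroLocus J from hJq)) h1
  refine ⟨p, hp, Algebra.basicOpen_subset_smoothLocus_iff_smooth.1 ?_⟩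
  intro q hq
  by_contra hns
  exact hq ((hJ.le hns) hpJ)

variable (k : Type u) [Field k] (R : Type u) [CommRing R] [Algebra k R] {n : ℕ} (a : Fin n → R)

/-- The universal equation. -/
noncomputable abbrev eqn : MvPolynomial (Fin n) R := ∑ i, C (a i) * X i

/-- The incidence algebra. -/
abbrev Inc : Type u := MvPolynomial (Fin n) R ⧸ Ideal.span {eqn R a}

theorem smooth_inc (ha : Ideal.span (Set.range a) = ⊤) : Algebra.Smooth R (Inc R a) := by
  refine ⟨Algebra.FormallySmooth.of_comp_surjective fun B _ _ I hI g => ?_,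
    Algebra.FinitePresentation.quotient (Submodule.fg_span_singleton _)⟩
  obtain ⟨r, hr⟩ := (Ideal.mem_span_range_iff_exists_fun).1 (ha ▸ Submodule.mem_top : (1 : R) ∈ _)
  choose y hy using fun i => Ideal.Quotient.mk_surjective (g (Ideal.Quotient.mk _ (X i)))
  let δ : B := ∑ i, algebraMap R B (a i) * y i
  have hcomp : ∀ p : MvPolynomial (Fin n) R, Ideal.Quotient.mk I (aeval y p) = g (Ideal.Quotient.mk _ p) := by
    intro p
    have := MvPolynomial.algHom_ext (f := (Ideal.Quotient.mkₐ R I).comp (aeval y))
      (g := g.comp (Ideal.Quotient.mkₐ R _)) (fun i => by simpa using hy i)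
    exact DFunLike.congr_fun this p
  have hδ : δ ∈ I := by
    rw [← Ideal.Quotient.eq_zero_iff_mem]
    have h0 : g (Ideal.Quotient.mk _ (eqn R a)) = 0 := by
      rw [Ideal.Quotient.eq_zero_iff_mem.2 (Ideal.mem_span_singleton_self _), map_zero]
    rw [← hcomp] at h0
    simpa [δ, eqn] using h0
  let y' : Fin n → B := fun i => y i - algebraMap R B (r i) * δ
  have hy' : aeval y' (eqn R a) = 0 := by
    have h1 : ∑ i, algebraMap R B (a i) * algebraMap R B (r i) = 1 := by
      simp_rw [← map_mul, ← map_sum, mul_comm (a _)]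
      rw [hr, map_one]
    simp only [eqn, map_sum, map_mul, aeval_C, aeval_X, y', mul_sub, Finset.sum_sub_distrib,
      ← mul_assoc, ← Finset.sum_mul, h1, one_mul]
    exact sub_self δ
  refine ⟨Ideal.Quotient.liftₐ _ (aeval y') ?_, ?_⟩
  · intro p hp
    obtain ⟨q, rfl⟩ := Ideal.mem_span_singleton'.1 hp
    rw [map_mul, hy', mul_zero]
  · apply Ideal.Quotient.algHom_ext
    refine MvPolynomial.algHom_ext fun i => ?_
    simp only [AlgHom.comp_apply, Ideal.Quotient.mkₐ_eq_mk, Ideal.Quotient.liftₐ_apply, Ideal.Quotient.lift_mk]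
    change Ideal.Quotient.mk I (aeval y' (X i)) = _
    rw [aeval_X, map_sub, Ideal.Quotient.eq_zero_iff_mem.2 (I.mul_mem_left _ hδ), sub_zero, hy]

/-- For a smooth algebra in characteristic zero the general member of a generating linear system is
smooth. -/
theorem exists_smooth_member [CharZero k] [Algebra.Smooth k R] (ha : Ideal.span (Set.range a) = ⊤) :
    ∃ p : MvPolynomial (Fin n) k, p ≠ 0 ∧ ∀ c : Fin n → k, eval c p ≠ 0 →
      Algebra.Smooth k (R ⧸ Ideal.span {∑ i, algebraMap k R (c i) * a i}) := by
  let A := MvPolynomial (Fin n) k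
  let R' := Inc R a
  let φ : A →ₐ[k] R' := aeval fun i => Ideal.Quotient.mk _ (X i)
  let := φ.toRingHom.toAlgebra
  have : IsScalarTower k A R' := IsScalarTower.of_algebraMap_eq' φ.comp_algebraMap.symm
  have := smooth_inc R a ha
  have : Algebra.Smooth k R' := Algebra.Smooth.comp k R R'
  obtain ⟨p, hp, hsm⟩ := exists_smooth_away k A R'
  let R'' := Localization.Away (algebraMap A R' p)
  have : Algebra.Smooth A R'' := hsm
  refine ⟨p, hp, fun c hc => ?_⟩
  let S := R ⧸ Ideal.span {∑ i, algebraMap k R (c i) * a i}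
  have : IsNoetherianRing R := Algebra.FiniteType.isNoetherianRing k R
  refine ⟨Algebra.FormallySmooth.of_comp_surjective fun B _ _ I hI g => ?_,
    Algebra.FinitePresentation.of_finiteType.1 inferInstance⟩
  let ev : A →ₐ[k] B := aeval fun i => algebraMap k B (c i)
  have hev : ∀ q, ev q = algebraMap k B (eval c q) := by
    intro q
    exact (MvPolynomial.aeval_algebraMap_apply (B := B) c q).trans
      (congrArg (algebraMap k B) (DFunLike.congr_fun (MvPolynomial.coe_aeval_eq_eval c) q))
  let := ev.toRingHom.toAlgebra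
  let χ₀ : MvPolynomial (Fin n) R →+* B ⧸ I :=
    eval₂Hom (g.toRingHom.comp (Ideal.Quotient.mk _)) fun i => algebraMap k (B ⧸ I) (c i)
  have hχh : χ₀ (eqn R a) = 0 := by
    have h0 : g (Ideal.Quotient.mk _ (∑ i, algebraMap k R (c i) * a i)) = 0 := by
      rw [Ideal.Quotient.eq_zero_iff_mem.2 (Ideal.mem_span_singleton_self _), map_zero]
    rw [← h0]
    simp only [eqn, χ₀, map_sum, map_mul, eval₂Hom_C, eval₂Hom_X', RingHom.comp_apply]
    refine Finset.sum_congr rfl fun i _ => ?_
    rw [show Ideal.Quotient.mk _ (algebraMap k R (c i)) = algebraMap k S (c i) from rfl, g.commutes]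
    exact mul_comm _ _
  let χ : R' →+* B ⧸ I := Ideal.Quotient.lift _ χ₀ fun q hq => by
    obtain ⟨z, rfl⟩ := Ideal.mem_span_singleton'.1 hq
    rw [map_mul, hχh, mul_zero]
  have hχA : χ.comp (algebraMap A R') = algebraMap A (B ⧸ I) := by
    refine MvPolynomial.ringHom_ext (fun t => ?_) (fun i => ?_)
    · change χ (φ (C t)) = Ideal.Quotient.mk I (ev (C t))
      rw [← algebraMap_eq, φ.commutes, ev.commutes]
      change χ₀ (C (algebraMap k R t)) = algebraMap k (B ⧸ I) t
      simp only [χ₀, eval₂Hom_C]
      exact g.commutes t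
    · change χ (φ (X i)) = Ideal.Quotient.mk I (ev (X i))
      rw [show φ (X i) = Ideal.Quotient.mk _ (X i) from aeval_X _ i,
        show ev (X i) = algebraMap k B (c i) from aeval_X _ i]
      change χ₀ (X i) = _
      simp [χ₀]
  have hunit : IsUnit (χ (algebraMap A R' p)) := by
    rw [← RingHom.comp_apply, hχA]
    change IsUnit (Ideal.Quotient.mk I (ev p))
    rw [hev]
    exact ((Ne.isUnit hc).map _).map _
  let χ' : R'' →ₐ[A] B ⧸ I :=
    { toRingHom := IsLocalization.Away.lift (algebraMap A R' p) hunit
      commutes' := fun q => by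
        change IsLocalization.Away.lift (algebraMap A R' p) hunit (algebraMap A R'' q) = _
        rw [IsScalarTower.algebraMap_apply A R' R'', IsLocalization.Away.lift_eq]
        exact RingHom.congr_fun hχA q }
  obtain ⟨ψ, hψ⟩ := Algebra.FormallySmooth.exists_lift I ⟨2, hI⟩ χ'
  let ρ : R →ₐ[k] B :=
    { toRingHom := ψ.toRingHom.comp (algebraMap R R'')
      commutes' := fun t => by
        change ψ (algebraMap R R'' (algebraMap k R t)) = _
        rw [← IsScalarTower.algebraMap_apply k R R'', IsScalarTower.algebraMap_apply k A R'', ψ.commutes]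
        exact ev.commutes t }
  have hρ : ρ (∑ i, algebraMap k R (c i) * a i) = 0 := by
    have h0 : ψ (algebraMap R' R'' (Ideal.Quotient.mk _ (eqn R a))) = 0 := by
      rw [Ideal.Quotient.eq_zero_iff_mem.2 (Ideal.mem_span_singleton_self _), map_zero, map_zero]
    rw [← h0]
    simp only [eqn, map_sum, map_mul, ρ.commutes]
    refine Finset.sum_congr rfl fun i _ => ?_
    have h1 : ψ (algebraMap R' R'' (Ideal.Quotient.mk _ (X i))) = algebraMap k B (c i) := by
      have : (Ideal.Quotient.mk _ (X i) : R') = algebraMap A R' (X i) := (aeval_X (fun j => (Ideal.Quotient.mk _ (X j) : R')) i).symm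
      rw [this, ← IsScalarTower.algebraMap_apply A R' R'', ψ.commutes]
      exact aeval_X _ i
    rw [h1, mul_comm]
    rfl
  refine ⟨Ideal.Quotient.liftₐ _ ρ fun q hq => ?_, ?_⟩
  · obtain ⟨z, rfl⟩ := Ideal.mem_span_singleton'.1 hq
    rw [map_mul, hρ, mul_zero]
  · apply Ideal.Quotient.algHom_ext
    ext t
    change Ideal.Quotient.mk I (ψ (algebraMap R R'' t)) = g (Ideal.Quotient.mk _ t)
    have : Ideal.Quotient.mk I (ψ (algebraMap R R'' t)) = χ' (algebraMap R R'' t) :=
      DFunLike.congr_fun hψ _
    rw [this, IsScalarTower.algebraMap_apply R R' R'']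
    change IsLocalization.Away.lift (algebraMap A R' p) hunit _ = _
    rw [IsLocalization.Away.lift_eq]
    simp [χ, χ₀, R']
    exact eval₂_C _ _ _

end Groth.Variety2.Bertini
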