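import Mathlib
import Groth.Agent.S14437

/-!
Smoothness of local homomorphisms of formally smooth local `k`-algebras with residue field `k`
via the cotangent map.
-/

set_option autoImplicit false

universe u

open TensorProduct KaehlerDifferential IsLocalRing

namespace Groth.Variety2.CotAlg

/-- A formally smooth local algebra is formally smooth over `K` if the map of differentials of
`K` stays injective in the residue field. -/
theorem formallySmooth_of_baseChange_injective (k K O : Type u) [CommRing k] [CommRing K] [CommRing O]
    [IsLocalRing O] [Algebra k K] [Algebra k O] [Algebra K O] [IsScalarTower k K O]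
    [Algebra.EssFiniteType k K] [Algebra.EssFiniteType k O] [Algebra.FormallySmooth k O]
    (hinj : Function.Injective ((mapBaseChange k K O).lTensor (ResidueField O))) :
    Algebra.FormallySmooth K O := by
  have : Algebra.EssFiniteType K O := Algebra.EssFiniteType.of_comp k K O
  have : Module.Finite O Ω[O⁄k] := inferInstance
  have : Module.Free O Ω[O⁄k] := Module.free_of_flat_of_isLocalRing
  obtain ⟨l, hl⟩ := (IsLocalRing.split_injective_iff_lTensor_residueField_injective _).2 hinj
  have hl' : ∀ x, l (mapBaseChange k K O x) = x := LinearMap.congr_fun hl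
  refine ⟨?_, ?_⟩
  · obtain ⟨s, hs⟩ := ((exact_mapBaseChange_map k K O).split_tfae'.out 0 1 rfl rfl).2
      ⟨map_surjective k K O, l, hl⟩ |>.2
    exact Module.Projective.of_split s (map k K O O) hs
  · refine ⟨fun a b => ?_⟩
    suffices h : ∀ x : Algebra.H1Cotangent K O, x = 0 by rw [h a, h b]
    intro x
    have h1 : mapBaseChange k K O (Algebra.H1Cotangent.δ k K O x) = 0 :=
      (Algebra.H1Cotangent.exact_δ_mapBaseChange k K O).apply_apply_eq_zero x
    have h2 : Algebra.H1Cotangent.δ k K O x = 0 := by
      rw [← hl' (Algebra.H1Cotangent.δ k K O x), h1, map_zero]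
    obtain ⟨y, rfl⟩ := (Algebra.H1Cotangent.exact_map_δ k K O x).1 h2
    rw [Subsingleton.elim y 0, map_zero]

/-- The differentials of the base stay injective in the residue field for a formally smooth map. -/
theorem baseChange_injective_of_formallySmooth (k K O : Type u) [CommRing k] [CommRing K]
    [CommRing O] [Algebra k K] [Algebra k O] [Algebra K O] [IsScalarTower k K O]
    [Algebra.FormallySmooth K O] (κ : Type u) [AddCommGroup κ] [Module O κ] :
    Function.Injective ((mapBaseChange k K O).lTensor κ) := by
  have hi : Function.Injective (mapBaseChange k K O) := by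
    refine (injective_iff_map_eq_zero _).2 fun x hx => ?_
    obtain ⟨y, rfl⟩ := (Algebra.H1Cotangent.exact_δ_mapBaseChange k K O x).1 hx
    rw [Subsingleton.elim y 0, map_zero]
  obtain ⟨s, hs⟩ := Module.projective_lifting_property (map k K O O) LinearMap.id (map_surjective k K O)
  obtain ⟨-, l, hl⟩ := ((exact_mapBaseChange_map k K O).split_tfae'.out 0 1 rfl rfl).1 ⟨hi, s, hs⟩
  have : ((l.lTensor κ).comp ((mapBaseChange k K O).lTensor κ)) = LinearMap.id := by
    rw [← LinearMap.lTensor_comp, hl, LinearMap.lTensor_id]
  exact Function.LeftInverse.injective (g := l.lTensor κ) (LinearMap.congr_fun this)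

variable (k A B : Type u) [Field k] [CommRing A] [CommRing B] [IsLocalRing A] [IsLocalRing B]
  [Algebra k A] [Algebra k B] [Algebra A B] [IsScalarTower k A B] [IsLocalHom (algebraMap A B)]
  [Algebra.EssFiniteType k A] [Algebra.EssFiniteType k B]

theorem le_comap_maximalIdeal :
    maximalIdeal A ≤ Ideal.comap (IsScalarTower.toAlgHom k A B) (maximalIdeal B) :=
  fun _ ha => map_nonunit (algebraMap A B) _ ha

variable {A B}

/-- `Ω_{B/k} ⊗ k ≅ m/m²`. -/
theorem finrank_kaehler (hB : Function.Bijective (algebraMap k (ResidueField B))) :
    Module.finrank (ResidueField B) (ResidueField B ⊗[B] Ω[B⁄k]) =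
      Module.finrank k (CotangentSpace B) := by
  have : IsNoetherianRing B := Algebra.EssFiniteType.isNoetherianRing k B
  have hbot : IsLocalRing.maximalIdeal k = ⊥ := IsLocalRing.maximalIdeal_eq_bot
  have hk : Function.Bijective (algebraMap k (ResidueField k)) :=
    ⟨(algebraMap k (ResidueField k)).injective, IsLocalRing.residue_surjective⟩
  have hle : maximalIdeal k ≤ Ideal.comap (IsScalarTower.toAlgHom k k B) (maximalIdeal B) := by
    rw [hbot]; exact bot_le
  have h := Groth.Agent.S14437.result k k B hle hk hB
  have h0 : LinearMap.range (Ideal.mapCotangent (maximalIdeal k) (maximalIdeal B)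
      (IsScalarTower.toAlgHom k k B) hle) = ⊥ := by
    rw [Submodule.eq_bot_iff]
    rintro _ ⟨x, rfl⟩
    obtain ⟨⟨y, hy⟩, rfl⟩ := Ideal.toCotangent_surjective _ x
    have : y = 0 := by simpa [hbot] using hy
    subst this
    rw [show (⟨0, hy⟩ : maximalIdeal k) = 0 from rfl, map_zero, map_zero]
  rw [h0, finrank_bot, add_zero] at h
  exact h

theorem finite_cotangentSpace (hB : Function.Bijective (algebraMap k (ResidueField B))) :
    FiniteDimensional k (CotangentSpace B) := by
  have : IsNoetherianRing B := Algebra.EssFiniteType.isNoetherianRing k B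
  have : Module.Finite k (ResidueField B) :=
    Module.Finite.of_surjective (Algebra.linearMap k (ResidueField B)) hB.2
  have : IsScalarTower k (ResidueField B) (CotangentSpace B) :=
    IsScalarTower.of_algebraMap_smul fun r x => by
      rw [IsScalarTower.algebraMap_apply k B (ResidueField B), algebraMap_smul (ResidueField B),
        algebraMap_smul B]
  exact Module.Finite.trans (ResidueField B) _

variable (hA : Function.Bijective (algebraMap k (ResidueField A)))
  (hB : Function.Bijective (algebraMap k (ResidueField B)))

include hA in
theorem finrank_source :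
    Module.finrank (ResidueField B) (ResidueField B ⊗[B] (B ⊗[A] Ω[A⁄k])) =
      Module.finrank k (CotangentSpace A) := by
  rw [(AlgebraTensorModule.cancelBaseChange A B (ResidueField B) (ResidueField B) Ω[A⁄k]).finrank_eq,
    ← (AlgebraTensorModule.cancelBaseChange A (ResidueField A) (ResidueField B) (ResidueField B)
      Ω[A⁄k]).finrank_eq, Module.finrank_baseChange, finrank_kaehler k hA]

include hA hB

/-- `dim κ ⊗ Ω_{B/A} = dim cot B - dim cot A` for an injective cotangent map, and the cotangent map
is injective iff the differentials of `A` stay injective in the residue field. -/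
theorem injective_iff :
    Function.Injective ((mapBaseChange k A B).lTensor (ResidueField B)) ↔
      Function.Injective (Ideal.mapCotangent (maximalIdeal A) (maximalIdeal B)
        (IsScalarTower.toAlgHom k A B) (le_comap_maximalIdeal k A B)) := by
  have : IsNoetherianRing A := Algebra.EssFiniteType.isNoetherianRing k A
  have : IsNoetherianRing B := Algebra.EssFiniteType.isNoetherianRing k B
  have : Algebra.EssFiniteType A B := Algebra.EssFiniteType.of_comp k A B
  have := finite_cotangentSpace k hA
  set f := Ideal.mapCotangent (maximalIdeal A) (maximalIdeal B)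
        (IsScalarTower.toAlgHom k A B) (le_comap_maximalIdeal k A B)
  have h : Module.finrank (ResidueField B) (ResidueField B ⊗[B] Ω[B⁄A]) +
      Module.finrank k (LinearMap.range f) = Module.finrank k (CotangentSpace B) :=
    Groth.Agent.S14437.result k A B (le_comap_maximalIdeal k A B) hA hB
  let μ : ResidueField B ⊗[B] (B ⊗[A] Ω[A⁄k]) →ₗ[ResidueField B] ResidueField B ⊗[B] Ω[B⁄k] :=
    (mapBaseChange k A B).baseChange (ResidueField B)
  let ν : ResidueField B ⊗[B] Ω[B⁄k] →ₗ[ResidueField B] ResidueField B ⊗[B] Ω[B⁄A] :=
    (map k A B B).baseChange (ResidueField B)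
  have hex : Function.Exact μ ν :=
    lTensor_exact (ResidueField B) (exact_mapBaseChange_map k A B) (map_surjective k A B)
  have hν : Function.Surjective ν := LinearMap.lTensor_surjective _ (map_surjective k A B)
  have hkν : LinearMap.ker ν = LinearMap.range μ := LinearMap.exact_iff.1 hex
  have h1 := LinearMap.finrank_range_add_finrank_ker ν
  rw [LinearMap.range_eq_top.2 hν, finrank_top, hkν, finrank_kaehler k hB, ← h] at h1
  have h2 := LinearMap.finrank_range_add_finrank_ker μ
  rw [finrank_source k hA] at h2
  have h3 : Module.finrank k (LinearMap.range f) + Module.finrank k (LinearMap.ker f) =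
      Module.finrank k (CotangentSpace A) := LinearMap.finrank_range_add_finrank_ker f
  change Function.Injective μ ↔ Function.Injective f
  rw [← LinearMap.ker_eq_bot, ← LinearMap.ker_eq_bot, ← Submodule.finrank_eq_zero,
    ← Submodule.finrank_eq_zero]
  omega

/-- The rank of the relative differentials. -/
theorem finrank_relative :
    Module.finrank (ResidueField B) (ResidueField B ⊗[B] Ω[B⁄A]) +
      Module.finrank k (CotangentSpace A) = Module.finrank k (CotangentSpace B) ↔
      Function.Injective (Ideal.mapCotangent (maximalIdeal A) (maximalIdeal B)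
        (IsScalarTower.toAlgHom k A B) (le_comap_maximalIdeal k A B)) := by
  have : IsNoetherianRing A := Algebra.EssFiniteType.isNoetherianRing k A
  have : IsNoetherianRing B := Algebra.EssFiniteType.isNoetherianRing k B
  have := finite_cotangentSpace k hA
  set f := Ideal.mapCotangent (maximalIdeal A) (maximalIdeal B)
        (IsScalarTower.toAlgHom k A B) (le_comap_maximalIdeal k A B)
  have h : Module.finrank (ResidueField B) (ResidueField B ⊗[B] Ω[B⁄A]) +
      Module.finrank k (LinearMap.range f) = Module.finrank k (CotangentSpace B) :=
    Groth.Agent.S14437.result k A B (le_comap_maximalIdeal k A B) hA hB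
  have h3 : Module.finrank k (LinearMap.range f) + Module.finrank k (LinearMap.ker f) =
      Module.finrank k (CotangentSpace A) := LinearMap.finrank_range_add_finrank_ker f
  change _ ↔ Function.Injective f
  rw [← LinearMap.ker_eq_bot, ← Submodule.finrank_eq_zero]
  omega

/-- Formally smooth iff the cotangent map is injective. -/
theorem formallySmooth_iff [Algebra.FormallySmooth k B] :
    Algebra.FormallySmooth A B ↔ Function.Injective (Ideal.mapCotangent (maximalIdeal A)
      (maximalIdeal B) (IsScalarTower.toAlgHom k A B) (le_comap_maximalIdeal k A B)) := by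
  rw [← injective_iff k hA hB]
  exact ⟨fun _ => baseChange_injective_of_formallySmooth k A B _,
    formallySmooth_of_baseChange_injective k A B⟩

end Groth.Variety2.CotAlg
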