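import Mathlib
import Groth.Prelude.Def_FixPt
import Groth.Agent.VarietyBC.SmoothChart
import Groth.Agent.Variety2.CotangentAlg
import Groth.Agent.Variety2.DimScheme
import Groth.Agent.Variety2.IrrFibres
import Groth.Agent.Variety2.GenSmooth

/-!
Smoothness of a morphism of smooth schemes over an algebraically closed field at a closed point
through the cotangent map.
-/

set_option autoImplicit false

universe u

open CategoryTheory AlgebraicGeometry TensorProduct IsLocalRing

namespace Groth.Variety2.CotSmooth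

variable {k : Type u} [Field k] {X Y : Scheme.{u}}

section Stalk

variable [X.Over (Spec (CommRingCat.of k))]

theorem bijective_algebraMap_residue [IsAlgClosed k]
    [LocallyOfFiniteType (X ↘ Spec (CommRingCat.of k))] {x : X} (hx : IsClosed ({x} : Set X)) :
    letI := Curv2.stalkAlgebra k X x
    Function.Bijective (algebraMap k (ResidueField (X.presheaf.stalk x))) := by
  let := Curv2.stalkAlgebra k X x
  have h : Spec.map (residueFieldIsoBase (X ↘ Spec (CommRingCat.of k)) x hx).inv =
      Spec.map (CommRingCat.ofHom (Curv2.resMap k X x)) := by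
    rw [SpecMap_residueFieldIsoBase_inv, Groth.VarietyBC.fromSpecResidueField_str]
  have h2 := ConcreteCategory.bijective_of_isIso
    (residueFieldIsoBase (X ↘ Spec (CommRingCat.of k)) x hx).inv
  rw [Spec.map_injective h] at h2
  exact h2

theorem essFiniteType_stalk [LocallyOfFiniteType (X ↘ Spec (CommRingCat.of k))] (x : X) :
    letI := Curv2.stalkAlgebra k X x
    Algebra.EssFiniteType k (X.presheaf.stalk x) := by
  obtain ⟨_, ⟨U, hU, rfl⟩, hx, -⟩ := X.isBasis_affineOpens.exists_subset_of_mem_open
    (Set.mem_univ x) isOpen_univ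
  let := (Groth.VarietyBC.openMap (k := k) hU).toAlgebra
  let := Curv2.stalkAlgebra k X x
  have := Groth.VarietyBC.finiteType_openMap (k := k) hU
  let := TopCat.Presheaf.algebra_section_stalk X.presheaf (⟨x, hx⟩ : U)
  have : IsLocalization.AtPrime (X.presheaf.stalk x) (hU.primeIdealOf ⟨x, hx⟩).asIdeal :=
    hU.isLocalization_stalk ⟨x, hx⟩
  have : IsScalarTower k Γ(X, U) (X.presheaf.stalk x) :=
    IsScalarTower.of_algebraMap_eq' (Groth.VarietyBC.germ_openMap hU hx).symm
  have : Algebra.EssFiniteType Γ(X, U) (X.presheaf.stalk x) :=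
    .of_isLocalization _ (hU.primeIdealOf ⟨x, hx⟩).asIdeal.primeCompl
  exact Algebra.EssFiniteType.comp k Γ(X, U) (X.presheaf.stalk x)

theorem formallySmooth_stalk [Smooth (X ↘ Spec (CommRingCat.of k))] (x : X) :
    letI := Curv2.stalkAlgebra k X x
    Algebra.FormallySmooth k (X.presheaf.stalk x) := by
  obtain ⟨_, ⟨U, hU, rfl⟩, hx, -⟩ := X.isBasis_affineOpens.exists_subset_of_mem_open
    (Set.mem_univ x) isOpen_univ
  let := (Groth.VarietyBC.openMap (k := k) hU).toAlgebra
  let := Curv2.stalkAlgebra k X x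
  have h : x ∈ (X ↘ Spec (CommRingCat.of k)).smoothLocus := by
    rw [Scheme.Hom.smoothLocus_eq_top]; trivial
  have : Algebra.FormallySmooth k (Localization.AtPrime (hU.primeIdealOf ⟨x, hx⟩).asIdeal) :=
    (Groth.VarietyBC.mem_smoothLocus_iff hU hx).1 h
  obtain ⟨e⟩ := Groth.VarietyBC.nonempty_stalkAlgEquiv (k := k) hU hx
  exact Algebra.FormallySmooth.of_equiv e

/-- The cotangent space at a closed point of a smooth irreducible scheme has dimension `dim X`. -/
theorem finrank_cotangentSpace [IsAlgClosed k] [IrreducibleSpace X]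
    [LocallyOfFiniteType (X ↘ Spec (CommRingCat.of k))] [Smooth (X ↘ Spec (CommRingCat.of k))]
    {x : X} (hx : IsClosed ({x} : Set X)) (d : ℕ) (hd : topologicalKrullDim X = d) :
    letI := Curv2.stalkAlgebra k X x
    Module.finrank k (CotangentSpace (X.presheaf.stalk x)) = d := by
  let := Curv2.stalkAlgebra k X x
  have hlfp : LocallyOfFinitePresentation (X ↘ Spec (CommRingCat.of k)) := inferInstance
  have := LocallyOfFiniteType.isLocallyNoetherian (X ↘ Spec (CommRingCat.of k))
  have hreg := Groth.VarietyBC.isRegularLocalRing_of_mem_smoothLocus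
    (k := k) (X := X) (x := x) (by rw [Scheme.Hom.smoothLocus_eq_top]; trivial)
  have h1 := (IsRegularLocalRing.iff_finrank_cotangentSpace _).mp hreg
  have h2 := Groth.Variety2.Dim.ringKrullDim_stalk_add_height (X ↘ Spec (CommRingCat.of k)) x
  rw [(Groth.Variety2.Dim.height_eq_zero_iff x).2 hx, hd, ← h1] at h2
  have h3 : Module.finrank (ResidueField (X.presheaf.stalk x))
      (CotangentSpace (X.presheaf.stalk x)) = d := by
    simpa using h2
  have : IsScalarTower k (ResidueField (X.presheaf.stalk x)) (CotangentSpace (X.presheaf.stalk x)) :=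
    IsScalarTower.of_algebraMap_smul fun r v => by
      rw [IsScalarTower.algebraMap_apply k (X.presheaf.stalk x) (ResidueField (X.presheaf.stalk x)),
        algebraMap_smul (ResidueField (X.presheaf.stalk x)), algebraMap_smul (X.presheaf.stalk x)]
  rw [← Module.finrank_mul_finrank k (ResidueField (X.presheaf.stalk x)), h3,
    ← (LinearEquiv.ofBijective (Algebra.linearMap k (ResidueField (X.presheaf.stalk x)))
      (bijective_algebraMap_residue hx)).finrank_eq, Module.finrank_self, one_mul]

variable [Y.Over (Spec (CommRingCat.of k))]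

theorem stalkMap_comp (f : X ⟶ Y)
    (hf : f ≫ (Y ↘ Spec (CommRingCat.of k)) = X ↘ Spec (CommRingCat.of k)) (x : X) :
    (f.stalkMap x).hom.comp (Curv2.stalkMap k Y (f x)) = Curv2.stalkMap k X x := by
  refine congrArg CommRingCat.Hom.hom
    (show CommRingCat.ofHom (Curv2.stalkMap k Y (f x)) ≫ f.stalkMap x =
      CommRingCat.ofHom (Curv2.stalkMap k X x) from ?_)
  apply Spec.map_injective
  rw [← Groth.VarietyBC.fromSpecStalk_str, Spec.map_comp,
    ← Groth.VarietyBC.fromSpecStalk_str, ← hf]
  exact Scheme.SpecMap_stalkMap_fromSpecStalk_assoc f _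

theorem stalkMapAt_eq (f : X ⟶ Y) (x : X) :
    FixPt.stalkMapAt f x (f x) rfl = (f.stalkMap x).hom := by
  simp [FixPt.stalkMapAt, TopCat.Presheaf.stalkCongr]

variable [IsAlgClosed k] (f : X ⟶ Y)
  (hf : f ≫ (Y ↘ Spec (CommRingCat.of k)) = X ↘ Spec (CommRingCat.of k))
  [LocallyOfFiniteType (X ↘ Spec (CommRingCat.of k))]
  [LocallyOfFiniteType (Y ↘ Spec (CommRingCat.of k))]
  {x : X} (hx : IsClosed ({x} : Set X))

/-- The dimension of the fibre at `x` of the relative differentials, on local rings. -/
noncomputable def relRank (f : X ⟶ Y) (x : X) : ℕ :=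
  letI := (f.stalkMap x).hom.toAlgebra
  Module.finrank (ResidueField (X.presheaf.stalk x))
    (ResidueField (X.presheaf.stalk x) ⊗[X.presheaf.stalk x]
      Ω[X.presheaf.stalk x⁄Y.presheaf.stalk (f x)])

include hf hx

theorem relRank_iff :
    letI := Curv2.stalkAlgebra k X x
    letI := Curv2.stalkAlgebra k Y (f x)
    relRank f x + Module.finrank k (CotangentSpace (Y.presheaf.stalk (f x))) =
        Module.finrank k (CotangentSpace (X.presheaf.stalk x)) ↔
      Function.Injective (FixPt.cotangentMapAt f x (f.base x) rfl) := by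
  let := Curv2.stalkAlgebra k X x
  let := Curv2.stalkAlgebra k Y (f x)
  let := (f.stalkMap x).hom.toAlgebra
  have : IsScalarTower k (Y.presheaf.stalk (f x)) (X.presheaf.stalk x) :=
    IsScalarTower.of_algebraMap_eq' (stalkMap_comp f hf x).symm
  have : IsLocalHom (algebraMap (Y.presheaf.stalk (f x)) (X.presheaf.stalk x)) :=
    inferInstanceAs (IsLocalHom (f.stalkMap x).hom)
  have := essFiniteType_stalk (k := k) x
  have := essFiniteType_stalk (k := k) (f x)
  have hA := bijective_algebraMap_residue (k := k)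
    (Groth.Variety2.Dim.isClosed_image_singleton (X ↘ Spec (CommRingCat.of k))
      (Y ↘ Spec (CommRingCat.of k)) f hf hx)
  have hB := bijective_algebraMap_residue (k := k) hx
  refine (Groth.Variety2.CotAlg.finrank_relative k hA hB).trans ?_
  refine iff_of_eq (congrArg Function.Injective (funext fun v => ?_))
  obtain ⟨a, rfl⟩ := Ideal.toCotangent_surjective _ v
  rw [FixPt.cotangentMapAt, Ideal.mapCotangent_toCotangent, Ideal.mapCotangent_toCotangent]
  congr 1
  ext
  exact (RingHom.congr_fun (stalkMapAt_eq f x) a.1).symm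

theorem mem_smoothLocus_iff [Smooth (X ↘ Spec (CommRingCat.of k))] [LocallyOfFinitePresentation f] :
    x ∈ f.smoothLocus ↔ Function.Injective (FixPt.cotangentMapAt f x (f.base x) rfl) := by
  let := Curv2.stalkAlgebra k X x
  let := Curv2.stalkAlgebra k Y (f x)
  let := (f.stalkMap x).hom.toAlgebra
  have : IsScalarTower k (Y.presheaf.stalk (f x)) (X.presheaf.stalk x) :=
    IsScalarTower.of_algebraMap_eq' (stalkMap_comp f hf x).symm
  have : IsLocalHom (algebraMap (Y.presheaf.stalk (f x)) (X.presheaf.stalk x)) :=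
    inferInstanceAs (IsLocalHom (f.stalkMap x).hom)
  have := essFiniteType_stalk (k := k) x
  have := essFiniteType_stalk (k := k) (f x)
  have := formallySmooth_stalk (k := k) x
  have hA := bijective_algebraMap_residue (k := k)
    (Groth.Variety2.Dim.isClosed_image_singleton (X ↘ Spec (CommRingCat.of k))
      (Y ↘ Spec (CommRingCat.of k)) f hf hx)
  have hB := bijective_algebraMap_residue (k := k) hx
  rw [Scheme.Hom.mem_smoothLocus, ← relRank_iff f hf hx]
  exact (Groth.Variety2.CotAlg.formallySmooth_iff k hA hB).trans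
    (Groth.Variety2.CotAlg.finrank_relative k hA hB).symm

end Stalk

section Chart

/-- A basis of differentials on a chart gives the rank on local rings. -/
theorem relRank_eq_of_chart (f : X ⟶ Y) {x : X} {U : Y.Opens} (hU : IsAffineOpen U) {V : X.Opens}
    (hV : IsAffineOpen V) (hVU : V ≤ f ⁻¹ᵁ U) (hx : x ∈ V) (m : ℕ)
    (b : letI := (f.appLE U V hVU).hom.toAlgebra
      Module.Basis (Fin m) Γ(X, V) Ω[Γ(X, V)⁄Γ(Y, U)]) :
    relRank f x = m := by
  let := (f.appLE U V hVU).hom.toAlgebra
  let A₀ := Γ(Y, U)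
  let B₀ := Γ(X, V)
  let A := Y.presheaf.stalk (f x)
  let B := X.presheaf.stalk x
  let := TopCat.Presheaf.algebra_section_stalk Y.presheaf (⟨f x, hVU hx⟩ : U)
  let := TopCat.Presheaf.algebra_section_stalk X.presheaf (⟨x, hx⟩ : V)
  let := (f.stalkMap x).hom.toAlgebra
  let : Algebra A₀ B :=
    ((algebraMap B₀ B).comp (algebraMap A₀ B₀)).toAlgebra
  have : IsScalarTower A₀ B₀ B := IsScalarTower.of_algebraMap_eq' rfl
  have : IsScalarTower A₀ A B := IsScalarTower.of_algebraMap_eq' (by
    refine congrArg CommRingCat.Hom.hom ?_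
    show f.appLE U V hVU ≫ X.presheaf.germ V x hx = Y.presheaf.germ U (f x) (hVU hx) ≫ f.stalkMap x
    simp [Scheme.Hom.appLE])
  have : IsLocalization.AtPrime B (hV.primeIdealOf ⟨x, hx⟩).asIdeal :=
    hV.isLocalization_stalk ⟨x, hx⟩
  have : IsLocalization.AtPrime A (hU.primeIdealOf ⟨f x, hVU hx⟩).asIdeal :=
    hU.isLocalization_stalk ⟨f x, hVU hx⟩
  have : Algebra.FormallyEtale B₀ B :=
    .of_isLocalization (hV.primeIdealOf ⟨x, hx⟩).asIdeal.primeCompl
  have : Algebra.FormallyEtale A₀ A :=
    .of_isLocalization (hU.primeIdealOf ⟨f x, hVU hx⟩).asIdeal.primeCompl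
  have hbij : Function.Bijective (KaehlerDifferential.map A₀ A B B) := by
    refine ⟨?_, KaehlerDifferential.map_surjective A₀ A B⟩
    refine (injective_iff_map_eq_zero _).2 fun z hz => ?_
    obtain ⟨w, rfl⟩ := (KaehlerDifferential.exact_mapBaseChange_map A₀ A B z).1 hz
    rw [Subsingleton.elim w 0, map_zero]
  let e : B ⊗[B₀] Ω[B₀⁄A₀] ≃ₗ[B] Ω[B⁄A] :=
    (KaehlerDifferential.tensorKaehlerEquivOfFormallyEtale A₀ B₀ B).trans
      (LinearEquiv.ofBijective _ hbij)
  let bB : Module.Basis (Fin m) B Ω[B⁄A] := (b.baseChange B).map e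
  show Module.finrank _ _ = m
  rw [Module.finrank_eq_card_basis (bB.baseChange (ResidueField B)), Fintype.card_fin]

end Chart

end Groth.Variety2.CotSmooth
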