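import Mathlib
import Groth.Agent.OmegaSheaf.Smooth
import Groth.Agent.Variety2.CotangentScheme

/-!
Locally free differentials of rank `n` give the rank on local rings.
-/

set_option autoImplicit false

universe u

open CategoryTheory CategoryTheory.Limits AlgebraicGeometry TopologicalSpace
open Groth.PicAux

namespace Groth.Variety2.CotSmooth

variable {X Y : Scheme.{u}}

theorem exists_basis_of_rank {n : ℕ} {M : X.Modules} (hM : FlatMod.IsFinLocFreeOfRank n M) (x : X) :
    ∃ (U : X.Opens) (s : Fin n → Γ(M, U)), x ∈ U ∧ Basis' M U s := by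
  obtain ⟨U, hx, ⟨e⟩⟩ := hM x
  obtain ⟨d⟩ := exists_split_free (X := (U : Scheme.{u})) n
  have h := d.basis.map e.inv
  have hle : U ≤ U.ι ''ᵁ ⊤ := (Scheme.Opens.ι_image_top U).ge
  refine ⟨U, fun i =>
    res M hle (e.inv.app ⊤ ((d.s i).app ⊤ (oneSec _ ⊤)) : Γ(M, U.ι ''ᵁ ⊤)), hx, ?_⟩
  rw [basis'_iff_restrict]
  convert h using 1
  funext i
  exact (res_res (M := M) _ _ _).trans (res_self _ _)

/-- If `Ω_{X/Y}` is locally free of rank `n`, so are the differentials of the local rings. -/
theorem relRank_eq_of_finLocFree (f : X ⟶ Y) [QuasiSeparated f] (n : ℕ)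
    (hΩ : FlatMod.IsFinLocFreeOfRank n (Omega.sheaf f)) (x : X) : relRank f x = n := by
  obtain ⟨W, s, hx, hs⟩ := exists_basis_of_rank hΩ x
  obtain ⟨c, hxc, hc⟩ := Groth.OmegaSheaf.exists_chart f hx
  let := (f.appLE c.V c.U c.e).hom.toAlgebra
  have hbij : Function.Bijective fun r : Fin n → Γ(X, c.U) =>
      ∑ i, r i • res (Omega.sheaf f) hc (s i) := hs c.U hc
  have hb : Function.Bijective (Fintype.linearCombination Γ(X, c.U)
      fun i => res (Omega.sheaf f) hc (s i)) := by
    convert hbij using 1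
    funext r
    exact Fintype.linearCombination_apply _ _ r
  let b : Module.Basis (Fin n) Γ(X, c.U) Γ(Omega.sheaf f, c.U) :=
    Module.Basis.ofEquivFun (LinearEquiv.ofBijective _ hb).symm
  exact relRank_eq_of_chart f c.hV c.hU c.e hxc n
    (b.map (Groth.OmegaSheaf.chartEquiv f c.e c.hV c.hU).symm)

end Groth.Variety2.CotSmooth
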