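import Mathlib
import Groth.Agent.Variety2.ProjDim

/-!
Hypersurfaces and their sections in projective space.
-/

universe u

open CategoryTheory AlgebraicGeometry TopologicalSpace MvPolynomial

namespace Groth.Variety2.PSpace

variable {k : Type u} [Field k] {n : ℕ}

local notation "Pt" => ProjectiveSpectrum (CohB1.polyGrading n k)

instance : T0Space Pt := inferInstanceAs (T0Space ↥(Proj (CohB1.polyGrading n k)))
instance : QuasiSober Pt := inferInstanceAs (QuasiSober ↥(Proj (CohB1.polyGrading n k)))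

theorem isClosed_zeroLocus' (s : Set (MvPolynomial (Fin (n + 1)) k)) :
    IsClosed (ProjectiveSpectrum.zeroLocus (CohB1.polyGrading n k) s) :=
  ProjectiveSpectrum.isClosed_zeroLocus _ s

theorem mem_zeroLocus_singleton {f : MvPolynomial (Fin (n + 1)) k} {x : Pt} :
    x ∈ ProjectiveSpectrum.zeroLocus (CohB1.polyGrading n k) {f} ↔ f ∈ x.asHomogeneousIdeal :=
  Set.singleton_subset_iff

theorem exists_generic {T : Set Pt} (hc : IsClosed T) (hi : IsIrreducible T) :
    ∃ ξ ∈ T, (∀ x, x ∈ T ↔ ξ ⤳ x) ∧ topologicalKrullDim ↥T = (ht ξ : WithBot ℕ∞) := by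
  obtain ⟨ξ, hξ⟩ := QuasiSober.sober hi hc
  refine ⟨ξ, hξ.mem, fun x => ⟨fun hx => hξ.specializes hx, fun hx => hx.mem_closed hc hξ.mem⟩, ?_⟩
  have h : closure ({ξ} : Set Pt) = T := hξ
  subst h
  exact Dim.dim_closure_singleton (X := CohB1.ProjSpace n k) ξ

/-- Irreducible components of a closed subset, via their maximal points. -/
theorem exists_component_point {S : Set Pt} (hS : IsClosed S) {C : Set ↥S}
    (hC : C ∈ irreducibleComponents ↥S) :
    ∃ ζ ∈ S, (∀ w ∈ S, w ⤳ ζ → w = ζ) ∧ topologicalKrullDim ↥C = (ht ζ : WithBot ℕ∞) := by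
  have hemb := hS.isClosedEmbedding_subtypeVal
  have hCc := isClosed_of_mem_irreducibleComponents C hC
  obtain ⟨ζ, hζ, hmem, hdim⟩ := exists_generic (hemb.isClosedMap C hCc)
    (hC.1.image _ continuous_subtype_val.continuousOn)
  obtain ⟨c, hcC, rfl⟩ := hζ
  refine ⟨c, c.2, fun w hw hwc => ?_, ?_⟩
  · have h1 : C ≤ closure {(⟨w, hw⟩ : ↥S)} := fun x hx => by
      rw [← specializes_iff_mem_closure, subtype_specializes_iff]
      exact hwc.trans ((hmem x).1 ⟨x, hx, rfl⟩)
    have h2 : closure {(⟨w, hw⟩ : ↥S)} ≤ C := hC.2 isIrreducible_singleton.closure h1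
    exact (hwc.antisymm ((hmem w).1 ⟨_, h2 (subset_closure rfl), rfl⟩)).eq
  · rw [← hdim]
    exact (hemb.isEmbedding.homeomorphImage C).isHomeomorph.topologicalKrullDim_eq _

/-- The maximal points of a hypersurface have height `n - 1`. -/
theorem ht_add_one_of_maximal {f : MvPolynomial (Fin (n + 1)) k} {d : ℕ} (hf : f.IsHomogeneous d)
    (hf0 : f ≠ 0) {ζ : Pt} (hζ : f ∈ ζ.asHomogeneousIdeal)
    (hmax : ∀ z : Pt, f ∈ z.asHomogeneousIdeal → z ⤳ ζ → z = ζ) : ht ζ + 1 = n := by
  rw [← ht_eta (k := k) (n := n)]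
  exact ht_add_one hf (zero_lt_degree_of_mem hf hf0 ζ hζ) (eta_specializes ζ) (not_mem_eta hf0) hζ
    fun z _ h2 h3 => hmax z h3 h2

theorem exists_homogeneous_mem_of_ne_eta {x : Pt} (hx : x ≠ eta n k) :
    ∃ (f : MvPolynomial (Fin (n + 1)) k) (d : ℕ), f.IsHomogeneous d ∧ f ≠ 0 ∧
      f ∈ x.asHomogeneousIdeal := by
  have hne : ∃ f, f ∈ x.asHomogeneousIdeal ∧ f ≠ 0 := by
    by_contra h
    push Not at h
    exact hx (((eta_specializes x).antisymm ((specializes_iff x _).2 fun f hf => by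
      rw [h f hf]; exact zero_mem _)).eq.symm)
  obtain ⟨f, hfx, hf0⟩ := hne
  obtain ⟨d, hd⟩ : ∃ d, homogeneousComponent d f ≠ 0 := by
    by_contra h
    push Not at h
    exact hf0 (by rw [← sum_homogeneousComponent f]; exact Finset.sum_eq_zero fun d _ => h d)
  exact ⟨_, d, homogeneousComponent_isHomogeneous d f, hd,
    (MvPolynomial.mem_iff_homogeneousComponent_mem x.asHomogeneousIdeal.isHomogeneous f).1 hfx d⟩

/-- The point of an irreducible form is the only maximal point of its hypersurface. -/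
theorem ht_principal {g : MvPolynomial (Fin (n + 1)) k} {e : ℕ} (hg : g.IsHomogeneous e)
    (hg0 : g ≠ 0) {p : Pt} (hp : ∀ f, f ∈ p.asHomogeneousIdeal ↔ g ∣ f) : ht p + 1 = n :=
  ht_add_one_of_maximal hg hg0 ((hp g).2 dvd_rfl) fun z hz hzp =>
    (hzp.antisymm ((specializes_iff p z).2 fun f hf => by
      obtain ⟨c, rfl⟩ := (hp f).1 hf
      exact Ideal.mul_mem_right c _ hz)).eq

end Groth.Variety2.PSpace
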