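import Mathlib
import Groth.Agent.Variety2.ProjSections

/-!
Few hypersurfaces through a closed set covering the complement.
-/

universe u

open CategoryTheory AlgebraicGeometry TopologicalSpace MvPolynomial

namespace Groth.Variety2.PSpace

variable {k : Type u} [Field k] {n : ℕ}

local notation "Pt" => ProjectiveSpectrum (CohB1.polyGrading n k)

instance : NoetherianSpace Pt :=
  Dim.noetherianSpace_of (X := CohB1.ProjSpace n k) (CohB1.ProjSpace.toSpec n k)

theorem exists_homogeneous_notMem {I : Ideal (MvPolynomial (Fin (n + 1)) k)}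
    (hI : I.IsHomogeneous (CohB1.polyGrading n k)) {J : Ideal (MvPolynomial (Fin (n + 1)) k)}
    (h : ¬ I ≤ J) : ∃ (g : MvPolynomial (Fin (n + 1)) k) (d : ℕ),
      g.IsHomogeneous d ∧ g ∈ I ∧ g ∉ J := by
  obtain ⟨f, hf, hfJ⟩ := SetLike.not_le_iff_exists.1 h
  obtain ⟨d, hd⟩ : ∃ d, homogeneousComponent d f ∉ J := by
    by_contra hcon
    push Not at hcon
    exact hfJ (by rw [← sum_homogeneousComponent f]; exact J.sum_mem fun d _ => hcon d)
  exact ⟨_, d, homogeneousComponent_isHomogeneous d f,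
    (MvPolynomial.mem_iff_homogeneousComponent_mem hI f).1 hf d, hd⟩

/-- A form of positive degree through a closed set avoiding one outside point. -/
theorem exists_form_notMem {Y : Set Pt} (hY : IsClosed Y) {z : Pt} (hz : z ∉ Y) :
    ∃ (g : MvPolynomial (Fin (n + 1)) k) (d : ℕ), 0 < d ∧ g.IsHomogeneous d ∧
      (∀ y ∈ Y, g ∈ y.asHomogeneousIdeal) ∧ g ∉ z.asHomogeneousIdeal := by
  have h : ¬ (ProjectiveSpectrum.vanishingIdeal Y).toIdeal ≤ z.asHomogeneousIdeal.toIdeal := by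
    intro hle
    refine hz ?_
    rw [← hY.closure_eq, ← ProjectiveSpectrum.zeroLocus_vanishingIdeal_eq_closure]
    exact hle
  obtain ⟨g, d, hg, hgY, hgz⟩ :=
    exists_homogeneous_notMem (ProjectiveSpectrum.vanishingIdeal Y).isHomogeneous h
  obtain ⟨i, hi⟩ := exists_X_notMem z
  refine ⟨g * X i, d + 1, Nat.succ_pos _, hg.mul (isHomogeneous_X k i), fun y hy => ?_, fun h => ?_⟩
  · exact Ideal.mul_mem_right _ _ ((ProjectiveSpectrum.mem_vanishingIdeal Y g).1 hgY y hy)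
  · exact (z.isPrime.mem_or_mem h).elim hgz hi

/-- Homogeneous prime avoidance. -/
theorem exists_form_avoiding {Y : Set Pt} (hY : IsClosed Y) (F : Finset Pt) (hF : ∀ z ∈ F, z ∉ Y) :
    ∃ (g : MvPolynomial (Fin (n + 1)) k) (d : ℕ), 0 < d ∧ g.IsHomogeneous d ∧
      (∀ y ∈ Y, g ∈ y.asHomogeneousIdeal) ∧ ∀ z ∈ F, g ∉ z.asHomogeneousIdeal := by
  classical
  induction hc : F.card using Nat.strong_induction_on generalizing F with
  | _ c ih =>
  rcases F.eq_empty_or_nonempty with rfl | hne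
  · exact ⟨0, 1, one_pos, isHomogeneous_zero _ _ _, fun y _ => zero_mem _, by simp⟩
  obtain ⟨z, hzF, hzmax⟩ := F.exists_max_image ht hne
  obtain ⟨g, d, hd, hg, hgY, hgF⟩ := ih (F.erase z).card (hc ▸ Finset.card_erase_lt_of_mem hzF)
    (F.erase z) (fun w hw => hF w (Finset.mem_of_mem_erase hw)) rfl
  by_cases hgz : g ∈ z.asHomogeneousIdeal
  swap
  · exact ⟨g, d, hd, hg, hgY, fun w hw => by
      rcases eq_or_ne w z with rfl | hne
      · exact hgz
      · exact hgF w (Finset.mem_erase.2 ⟨hne, hw⟩)⟩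
  obtain ⟨g0, d0, hd0, hg0, hg0Y, hg0z⟩ := exists_form_notMem hY (hF z hzF)
  have hu : ∀ w ∈ F.erase z, ∃ (u : MvPolynomial (Fin (n + 1)) k) (a : ℕ), u.IsHomogeneous a ∧
      u ∈ w.asHomogeneousIdeal.toIdeal ∧ u ∉ z.asHomogeneousIdeal.toIdeal := fun w hw => by
    refine exists_homogeneous_notMem w.asHomogeneousIdeal.isHomogeneous fun hle => ?_
    exact not_lt_of_ge (hzmax w (Finset.mem_of_mem_erase hw))
      (ht_lt ((specializes_iff w z).2 hle) (Finset.ne_of_mem_erase hw).symm)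
  choose! u a hua huw huz using hu
  let P := (∏ w ∈ F.erase z, u w) * g0
  let e := (∑ w ∈ F.erase z, a w) + d0
  have hP : P.IsHomogeneous e := (IsHomogeneous.prod _ _ _ hua).mul hg0
  have he : 0 < e := by omega
  refine ⟨g ^ e + P ^ d, d * e, Nat.mul_pos hd he, (hg.pow e).add (mul_comm e d ▸ hP.pow d),
    fun y hy => ?_, fun w hw h => ?_⟩
  · exact Ideal.add_mem _ (Ideal.pow_mem_of_mem _ (hgY y hy) e he)
      (Ideal.pow_mem_of_mem _ (Ideal.mul_mem_left _ _ (hg0Y y hy)) d hd)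
  · rcases eq_or_ne w z with rfl | hne
    · have h1 : P ^ d ∈ w.asHomogeneousIdeal.toIdeal :=
        (Ideal.add_mem_iff_right _ (Ideal.pow_mem_of_mem _ hgz e he)).1 h
      rcases w.isPrime.mem_or_mem (w.isPrime.mem_of_pow_mem d h1) with h2 | h2
      · obtain ⟨v, hv, hv'⟩ := (Ideal.IsPrime.prod_mem_iff (hp := w.isPrime)).1 h2
        exact huz v hv hv'
      · exact hg0z h2
    · have hwE := Finset.mem_erase.2 ⟨hne, hw⟩
      have hP' : P ∈ w.asHomogeneousIdeal.toIdeal :=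
        Ideal.mul_mem_right _ _ (Ideal.mem_of_dvd _ (Finset.dvd_prod_of_mem _ hwE) (huw w hwE))
      exact hgF w hwE (w.isPrime.mem_of_pow_mem e
        ((Ideal.add_mem_iff_left _ (Ideal.pow_mem_of_mem _ hP' d hd)).1 h))

/-- The maximal points of a closed set form a finite set. -/
theorem exists_finset_maximal {T : Set Pt} (hT : IsClosed T) :
    ∃ F : Finset Pt, ∀ x, x ∈ F ↔ x ∈ T ∧ ∀ w ∈ T, w ⤳ x → w = x := by
  classical
  obtain ⟨S, hSf, hSc, hSi, hS⟩ := NoetherianSpace.exists_finite_set_isClosed_irreducible hT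
  refine ⟨Set.Finite.toFinset (s := {x | x ∈ T ∧ ∀ w ∈ T, w ⤳ x → w = x}) ?_, fun x => Set.Finite.mem_toFinset _⟩
  refine (hSf.biUnion (t := fun Z => {x | IsGenericPoint x Z}) fun Z hZ => ?_).subset ?_
  · exact Set.Subsingleton.finite fun a ha b hb => ha.eq hb
  · rintro x ⟨hx, hmax⟩
    obtain ⟨Z, hZ, hxZ⟩ : x ∈ ⋃₀ S := hS ▸ hx
    obtain ⟨w, hw⟩ := QuasiSober.sober (hSi Z hZ) (hSc Z hZ)
    have hwT : w ∈ T := hS ▸ Set.mem_sUnion_of_mem hw.mem hZ
    exact Set.mem_biUnion hZ (hmax w hwT (hw.specializes hxZ) ▸ hw)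

/-- `r + 1` hypersurfaces through `Y` cover the part of `T` outside `Y` of dimension at most `r`. -/
theorem exists_cover {Y : Set Pt} (hY : IsClosed Y) (r : ℕ) {T : Set Pt} (hT : IsClosed T)
    (hdim : ∀ x ∈ T, x ∉ Y → ht x ≤ r) :
    ∃ h : Fin (r + 1) → MvPolynomial (Fin (n + 1)) k,
      (∀ j, ∃ d, 0 < d ∧ (h j).IsHomogeneous d) ∧ (∀ j, ∀ y ∈ Y, h j ∈ y.asHomogeneousIdeal) ∧
        ∀ x ∈ T, x ∉ Y → ∃ j, h j ∉ x.asHomogeneousIdeal := by
  classical
  induction r generalizing T with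
  | zero =>
    obtain ⟨F, hF⟩ := exists_finset_maximal hT
    obtain ⟨g, d, hd, hg, hgY, hgF⟩ := exists_form_avoiding hY (F.filter (· ∉ Y))
      fun z hz => (Finset.mem_filter.1 hz).2
    refine ⟨fun _ => g, fun _ => ⟨d, hd, hg⟩, fun _ => hgY, fun x hx hxY => ⟨0, ?_⟩⟩
    obtain ⟨z, hz, hzx, hmax⟩ := exists_maximal hx
    have hzY : z ∉ Y := fun h => hxY (hzx.mem_closed hY h)
    have hzF := hgF z (Finset.mem_filter.2 ⟨(hF z).2 ⟨hz, hmax⟩, hzY⟩)
    rcases eq_or_ne x z with rfl | hne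
    · exact hzF
    · have := (ht_lt hzx hne).trans_le (hdim z hz hzY)
      exact absurd this (by simp)
  | succ r ih =>
    obtain ⟨F, hF⟩ := exists_finset_maximal hT
    obtain ⟨g, d, hd, hg, hgY, hgF⟩ := exists_form_avoiding hY (F.filter (· ∉ Y))
      fun z hz => (Finset.mem_filter.1 hz).2
    obtain ⟨h, h1, h2, h3⟩ := ih (T := T ∩ ProjectiveSpectrum.zeroLocus (CohB1.polyGrading n k) {g})
      (hT.inter (isClosed_zeroLocus' _)) fun x hx hxY => by
        obtain ⟨z, hz, hzx, hmax⟩ := exists_maximal hx.1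
        have hzY : z ∉ Y := fun h => hxY (hzx.mem_closed hY h)
        have hne : x ≠ z := fun e => hgF z (Finset.mem_filter.2 ⟨(hF z).2 ⟨hz, hmax⟩, hzY⟩)
          (e ▸ mem_zeroLocus_singleton.1 hx.2)
        have := (ht_lt hzx hne).trans_le (hdim z hz hzY)
        rw [Nat.cast_succ] at this
        exact Order.le_of_lt_add_one this
    refine ⟨Fin.cons g h, Fin.cases ⟨d, hd, hg⟩ h1, Fin.cases hgY h2, fun x hx hxY => ?_⟩
    by_cases hgx : g ∈ x.asHomogeneousIdeal
    · obtain ⟨j, hj⟩ := h3 x ⟨hx, mem_zeroLocus_singleton.2 hgx⟩ hxY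
      exact ⟨j.succ, by simpa using hj⟩
    · exact ⟨0, by simpa using hgx⟩

end Groth.Variety2.PSpace
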