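import Mathlib
import Groth.Agent.Variety2.BertiniRing

/-!
Bertini for linear systems separating first order jets, in any characteristic.
-/

universe u

open MvPolynomial TensorProduct KaehlerDifferential

namespace Groth.Variety2.Bertini

/-- Over a perfect field the transcendence degree of a finitely generated extension is at most the
dimension of its differentials. -/
theorem trdeg_le_finrank_kaehler (k F : Type u) [Field k] [PerfectField k] [Field F] [Algebra k F]
    [Algebra.EssFiniteType k F] :
    Algebra.trdeg k F ≤ (Module.finrank F Ω[F⁄k] : Cardinal.{u}) := by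
  obtain ⟨s, hs, H⟩ := exists_isTranscendenceBasis_and_isSeparable_of_perfectField k F
  let v : s → F := Subtype.val
  have : Algebra.IsSeparable (IntermediateField.adjoin k (Set.range v)) F := by
    convert! H <;> simp [v]
  let P := MvPolynomial s k
  let Q := Algebra.adjoin k (Set.range v)
  let E := IntermediateField.adjoin k (Set.range v)
  let := (MvPolynomial.aeval (R := k) v).toRingHom.toAlgebra
  let := hs.1.aevalEquiv.toAlgHom.toRingHom.toAlgebra
  have : IsScalarTower P Q F := IsScalarTower.of_algebraMap_eq fun p => by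
    exact (hs.1.algebraMap_aevalEquiv p).symm
  have : IsScalarTower k P F := IsScalarTower.of_algebraMap_eq fun x =>
    ((MvPolynomial.aeval (R := k) v).commutes x).symm
  have : Algebra.FormallyEtale P Q :=
    Algebra.FormallyEtale.of_equiv (AlgEquiv.ofBijective (Algebra.ofId P Q) hs.1.aevalEquiv.bijective)
  have : Algebra.FormallyEtale Q F := by
    open scoped IntermediateField.algebraAdjoinAdjoin in
    have : Algebra.FormallyEtale Q E := Algebra.FormallyEtale.of_isLocalization (nonZeroDivisors _)
    have : Algebra.FormallyEtale E F := Algebra.FormallyEtale.of_isSeparable _ _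
    open scoped IntermediateField.algebraAdjoinAdjoin in
    exact Algebra.FormallyEtale.comp Q E F
  have : Algebra.FormallyEtale P F := Algebra.FormallyEtale.comp P Q F
  let e := tensorKaehlerEquivOfFormallyEtale k P F
  let b := ((mvPolynomialBasis k s).baseChange F).map e
  rw [← hs.cardinalMk_eq_trdeg, ← Cardinal.lift_id (Cardinal.mk s)]
  have : Module.Finite F Ω[F⁄k] := inferInstance
  rw [Module.finrank_eq_rank, ← Module.Basis.mk_eq_rank'' b]
  simp

variable (k : Type u) [Field k] (R : Type u) [CommRing R] [Algebra k R] {n : ℕ} (a : Fin n → R) (b : R)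

/-- The equation of the affine family. -/
noncomputable abbrev affEqn : MvPolynomial (Fin n) R := C b + ∑ i, C (a i) * X i

set_option maxHeartbeats 1000000 in
set_option synthInstance.maxHeartbeats 200000 in
/-- No prime of the bad locus lies over the generic point of the parameter space. -/
theorem false_of_generic [PerfectField k] [Algebra.FiniteType k R]
    (hΦ : Submodule.span R (Set.range fun i => (a i, D k R (a i))) = ⊤)
    {N : ℕ} (sec : Ω[R⁄k] →ₗ[R] (Fin N → R)) (ret : (Fin N → R) →ₗ[R] Ω[R⁄k])
    (hsec : ret ∘ₗ sec = LinearMap.id)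
    (L : Type u) [Field L] [Algebra k L] (ρ : R →ₐ[k] L) (t : Fin n → L)
    (ht : AlgebraicIndependent k t) (h1 : ∑ i, t i * ρ (a i) + ρ b = 0)
    (h2 : ∀ j, ∑ i, t i * ρ (sec (D k R (a i)) j) + ρ (sec (D k R b) j) = 0) : False := by
  classical
  let F : IntermediateField k L := IntermediateField.adjoin k (Set.range ρ)
  let ρF : R →ₐ[k] F := AlgHom.codRestrict ρ F.toSubalgebra
    fun r => IntermediateField.subset_adjoin k _ ⟨r, rfl⟩
  let := ρF.toRingHom.toAlgebra
  have : IsScalarTower k R F := IsScalarTower.of_algebraMap_eq' ρF.comp_algebraMap.symm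
  have : Algebra.EssFiniteType k F := by
    obtain ⟨G, hG⟩ := (inferInstance : Algebra.FiniteType k R).out
    have hF : F = IntermediateField.adjoin k ((G.image ρ : Finset L) : Set L) := by
      refine le_antisymm (IntermediateField.adjoin_le_iff.2 ?_) (IntermediateField.adjoin.mono _ _ _ ?_)
      · rintro _ ⟨r, rfl⟩
        have : r ∈ Algebra.adjoin k (G : Set R) := hG ▸ Algebra.mem_top
        induction this using Algebra.adjoin_induction with
        | mem x hx => exact IntermediateField.subset_adjoin k _ (Finset.mem_image_of_mem ρ hx)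
        | algebraMap c => rw [ρ.commutes]; exact IntermediateField.algebraMap_mem _ c
        | add x y _ _ hx hy => rw [map_add]; exact add_mem hx hy
        | mul x y _ _ hx hy => rw [map_mul]; exact mul_mem hx hy
      · simp
    rw [IntermediateField.essFiniteType_iff, hF]
    exact IntermediateField.fg_adjoin_finset _
  let W := Ω[F⁄k]
  let μ : Ω[R⁄k] →ₗ[R] W := KaehlerDifferential.map k k R F
  let u : R → F × W := fun r => (ρF r, D k F (ρF r))
  let Ψ : R × Ω[R⁄k] →ₗ[R] F × W := LinearMap.prodMap (Algebra.linearMap R F) μ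
  have hΨ : ∀ r, Ψ (r, D k R r) = u r := fun r => by
    refine Prod.ext rfl ?_
    exact KaehlerDifferential.map_D k k R F r
  -- the columns span
  let U : Submodule F (F × W) := Submodule.span F (Set.range fun i => u (a i))
  have hU1 : ∀ z, Ψ z ∈ U := by
    intro z
    have hz : z ∈ Submodule.span R (Set.range fun i => (a i, D k R (a i))) := hΦ ▸ Submodule.mem_top
    induction hz using Submodule.span_induction with
    | mem x hx =>
      obtain ⟨i, rfl⟩ := hx
      rw [hΨ]; exact Submodule.subset_span ⟨i, rfl⟩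
    | zero => simp
    | add x y _ _ hx hy => rw [map_add]; exact add_mem hx hy
    | smul c x _ hx =>
      rw [map_smul, ← algebraMap_smul F c (Ψ x)]
      exact Submodule.smul_mem _ _ hx
  have hU : U = ⊤ := by
    have hone : ((1 : F), (0 : W)) ∈ U := by simpa [Ψ] using hU1 (1, 0)
    have hD : ∀ x : F, ((0 : F), D k F x) ∈ U := by
      have hρ : ∀ r, ((0 : F), D k F (ρF r)) ∈ U := fun r => by
        have := hU1 (0, D k R r)
        simp only [Ψ, LinearMap.prodMap_apply, map_zero] at this
        rwa [show μ (D k R r) = D k F (ρF r) from KaehlerDifferential.map_D k k R F r] at this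
      intro x
      obtain ⟨x, hx⟩ := x
      induction hx using IntermediateField.adjoin_induction with
      | mem y hy => obtain ⟨r, rfl⟩ := hy; exact hρ r
      | algebraMap c =>
        rw [show (⟨algebraMap k L c, _⟩ : F) = algebraMap k F c from rfl, Derivation.map_algebraMap]
        exact zero_mem U
      | add y z hy hz h1 h2 =>
        rw [show (⟨y + z, _⟩ : F) = ⟨y, hy⟩ + ⟨z, hz⟩ from rfl, map_add]
        simpa using add_mem h1 h2
      | mul y z hy hz h1 h2 =>
        rw [show (⟨y * z, _⟩ : F) = ⟨y, hy⟩ * ⟨z, hz⟩ from rfl, Derivation.leibniz]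
        simpa using add_mem (U.smul_mem (⟨y, hy⟩ : F) h2) (U.smul_mem (⟨z, hz⟩ : F) h1)
      | inv y hy h1 =>
        rw [show (⟨y⁻¹, _⟩ : F) = (⟨y, hy⟩ : F)⁻¹ from rfl, Derivation.leibniz_inv]
        have h := U.smul_mem (-(⟨y, hy⟩ : F)⁻¹ ^ 2) h1
        rwa [Prod.smul_mk, smul_zero] at h
    rw [eq_top_iff]
    rintro ⟨α, ω⟩ -
    have hω : ω ∈ Submodule.span F (Set.range (D k F)) := span_range_derivation k F ▸ Submodule.mem_top
    have h0 : ((0 : F), ω) ∈ U := by
      induction hω using Submodule.span_induction with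
      | mem x hx => obtain ⟨y, rfl⟩ := hx; exact hD y
      | zero => exact U.zero_mem
      | add x y _ _ hx hy => simpa using add_mem hx hy
      | smul c x _ hx => simpa using U.smul_mem c hx
    simpa using add_mem (U.smul_mem α hone) h0
  obtain ⟨S0, hS0, hspan, hli⟩ := exists_linearIndependent F (Set.range fun i => u (a i))
  choose idx hidx using fun x : S0 => hS0 x.2
  let B := Module.Basis.mk hli (by rw [Subtype.range_coe, hspan]; exact hU.ge)
  have hfinS : Finite S0 := Finite.of_injective idx fun x y h => Subtype.ext (by rw [← hidx x, ← hidx y, h])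
  let S : Finset (Fin n) := Finset.univ.filter fun i => i ∈ Set.range idx
  have hScard : (S.card : ℕ) = Nat.card S0 := by
    rw [← Nat.card_range_of_injective (f := idx) fun x y h => Subtype.ext (by rw [← hidx x, ← hidx y, h]),
      Nat.card_eq_fintype_card, Fintype.card_subtype]
  have : Module.Finite F W := inferInstance
  have hdim : Nat.card S0 = 1 + Module.finrank F W := by
    rw [← Module.finrank_eq_nat_card_basis B, Module.finrank_prod, Module.finrank_self]
  -- the equations transported to `F`-linear functionals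
  have heq : ∀ ψ : F × W →ₗ[F] F,
      ∑ i, t i * ((ψ (u (a i)) : F) : L) + ((ψ (u b) : F) : L) = 0 := by
    intro ψ
    let φ : (Fin N → R) →ₗ[R] F := (ψ.restrictScalars R) ∘ₗ (LinearMap.inr R F W) ∘ₗ μ ∘ₗ ret
    have hφ : ∀ r, ψ (u r) = ρF r * ψ (1, 0) + ∑ j, ρF (sec (D k R r) j) * φ (Pi.single j 1) := by
      intro r
      have h3 : φ (sec (D k R r)) = ψ (0, D k F (ρF r)) := by
        change ψ (0, μ ((ret ∘ₗ sec) (D k R r))) = _
        rw [hsec]
        exact congrArg (fun w => ψ (0, w)) (KaehlerDifferential.map_D k k R F r)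
      have h4 : φ (sec (D k R r)) = ∑ j, ρF (sec (D k R r) j) * φ (Pi.single j 1) := by
        conv_lhs => rw [pi_eq_sum_univ' (sec (D k R r))]
        rw [map_sum]
        refine Finset.sum_congr rfl fun j _ => ?_
        rw [map_smul, Algebra.smul_def]
        rfl
      have h5 : u r = ρF r • ((1 : F), (0 : W)) + ((0 : F), D k F (ρF r)) := by simp [u]
      rw [← h4, h3, h5, map_add, map_smul, smul_eq_mul]
    have hcast : ∀ r, ((ψ (u r) : F) : L) =
        ρ r * (ψ (1, 0) : F) + ∑ j, ρ (sec (D k R r) j) * (φ (Pi.single j 1) : F) := by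
      intro r
      rw [hφ r]
      simp [ρF]
      rfl
    simp only [hcast, mul_add, Finset.sum_add_distrib, Finset.mul_sum, ← mul_assoc]
    rw [← Finset.sum_mul, Finset.sum_comm]
    simp only [← Finset.sum_mul]
    have : ∀ j, ∑ i, t i * ρ (sec (D k R (a i)) j) = -ρ (sec (D k R b) j) := fun j =>
      eq_neg_of_add_eq_zero_left (h2 j)
    simp only [this, neg_mul, Finset.sum_neg_distrib]
    linear_combination ((ψ (1, 0) : F) : L) * h1
  -- all parameters lie in `F(tᵢ, i ∉ S)`
  let T : Set L := t '' {i | i ∉ S}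
  let K : IntermediateField F L := IntermediateField.adjoin F T
  have htK : ∀ i, t i ∈ K := by
    intro i
    by_cases hi : i ∈ S
    · obtain ⟨x, rfl⟩ : i ∈ Set.range idx := (Finset.mem_filter.1 hi).2
      let ψ := B.coord x
      have h := heq ψ
      rw [← Finset.sum_add_sum_compl S] at h
      have hsum : ∑ i ∈ S, t i * ((ψ (u (a i)) : F) : L) = t (idx x) := by
        rw [Finset.sum_eq_single_of_mem (idx x) hi]
        · have hB : u (a (idx x)) = B x := by rw [Module.Basis.mk_apply]; exact hidx x
          simp [ψ, hB]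
        · intro j hj hne
          obtain ⟨y, rfl⟩ := (Finset.mem_filter.1 hj).2
          have hB : u (a (idx y)) = B y := by rw [Module.Basis.mk_apply]; exact hidx y
          have hxy : y ≠ x := fun e => hne (by rw [e])
          simp [ψ, hB, Finsupp.single_eq_of_ne' hxy]
      rw [hsum, add_assoc] at h
      rw [eq_neg_of_add_eq_zero_left h]
      refine neg_mem (add_mem (sum_mem fun j hj => ?_) (K.algebraMap_mem (ψ (u b))))
      exact mul_mem (IntermediateField.subset_adjoin F T ⟨j, Finset.mem_compl.1 hj, rfl⟩)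
        (K.algebraMap_mem _)
    · exact IntermediateField.subset_adjoin F T ⟨i, hi, rfl⟩
  -- count transcendence degrees
  let tK : Fin n → K := fun i => ⟨t i, htK i⟩
  have htK' : AlgebraicIndependent k tK :=
    AlgebraicIndependent.of_comp ((K.restrictScalars k).val) ht
  have hge : (n : Cardinal.{u}) ≤ Algebra.trdeg k K := by
    have := htK'.lift_cardinalMk_le_trdeg
    simpa using this
  let A0 := Algebra.adjoin F T
  have hA : Algebra.trdeg F A0 ≤ ((Finset.univ.filter fun i => i ∉ S).card : Cardinal.{u}) := by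
    let e : {i : Fin n // i ∉ S} → A0 := fun i => ⟨t i, Algebra.subset_adjoin ⟨i, i.2, rfl⟩⟩
    have hsurj : Function.Surjective (MvPolynomial.aeval (R := F) e) := by
      rintro ⟨z, hz⟩
      have : z ∈ ((MvPolynomial.aeval (R := F) e).range.map A0.val) := by
        refine Algebra.adjoin_le ?_ hz
        rintro _ ⟨i, hi, rfl⟩
        exact ⟨_, ⟨MvPolynomial.X ⟨i, hi⟩, rfl⟩, by simp [e]⟩
      obtain ⟨_, ⟨p, rfl⟩, hp⟩ := this
      exact ⟨p, Subtype.ext hp⟩
    have h := lift_trdeg_le_of_surjective (MvPolynomial.aeval (R := F) e) hsurj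
    rw [MvPolynomial.trdeg_of_isDomain] at h
    simpa [Fintype.card_subtype] using h
  have hFK : Algebra.trdeg F K ≤ ((Finset.univ.filter fun i => i ∉ S).card : Cardinal.{u}) := by
    open scoped IntermediateField.algebraAdjoinAdjoin in
    have : Algebra.IsAlgebraic A0 K := IsLocalization.isAlgebraic _ (nonZeroDivisors A0)
    have : FaithfulSMul F A0 := (faithfulSMul_iff_algebraMap_injective _ _).2 (algebraMap F A0).injective
    open scoped IntermediateField.algebraAdjoinAdjoin in
    rw [← trdeg_add_eq F A0 (A := K), trdeg_eq_zero (R := A0) (A := K), add_zero]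
    exact hA
  have htot : (n : Cardinal.{u}) ≤ (Module.finrank F W + (Finset.univ.filter fun i => i ∉ S).card : ℕ) := by
    refine hge.trans ?_
    have : FaithfulSMul F K := (faithfulSMul_iff_algebraMap_injective _ _).2 (algebraMap F K).injective
    rw [← trdeg_add_eq k F (A := K), Nat.cast_add]
    exact add_le_add (trdeg_le_finrank_kaehler k F) hFK
  have h6 : S.card + (Finset.univ.filter fun i => i ∉ S).card = n := by
    simpa using Finset.card_filter_add_card_filter_not (s := (Finset.univ : Finset (Fin n))) (fun i => i ∈ S)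
  have h7 : n ≤ Module.finrank F W + (Finset.univ.filter fun i => i ∉ S).card := by exact_mod_cast htot
  omega

/-- A finitely generated module generated modulo every maximal ideal by a submodule is generated by it. -/
theorem eq_top_of_forall_maximal {M : Type u} [AddCommGroup M] [Module R M] [Module.Finite R M]
    (U : Submodule R M)
    (h : ∀ p : Ideal R, p.IsMaximal → ⊤ ≤ U ⊔ p • (⊤ : Submodule R M)) : U = ⊤ := by
  let Q := M ⧸ U
  suffices hQ : ∀ x : Q, x = 0 by
    rw [eq_top_iff]
    intro x _
    exact (Submodule.Quotient.mk_eq_zero U).1 (hQ _)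
  intro x
  by_contra hx
  have hne : (Submodule.span R {x}).annihilator ≠ ⊤ := by
    intro h1
    have : (1 : R) ∈ (Submodule.span R {x}).annihilator := h1 ▸ Submodule.mem_top
    exact hx (by simpa using Submodule.mem_annihilator.1 this x (Submodule.mem_span_singleton_self x))
  obtain ⟨p, hp, hle⟩ := Ideal.exists_le_maximal _ hne
  have hfg : (⊤ : Submodule R Q).FG := Module.Finite.fg_top
  have hpQ : (⊤ : Submodule R Q) ≤ p • ⊤ := by
    intro y _
    obtain ⟨z, rfl⟩ := Submodule.Quotient.mk_surjective U y
    obtain ⟨v, hv, w, hw, rfl⟩ := Submodule.mem_sup.1 (h p hp (Submodule.mem_top (x := z)))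
    rw [Submodule.Quotient.mk_add, (Submodule.Quotient.mk_eq_zero U).2 hv, zero_add]
    have := Submodule.mem_map_of_mem (f := U.mkQ) hw
    rw [Submodule.map_smul''] at this
    exact Submodule.smul_mono le_rfl le_top this
  obtain ⟨r, hr1, hr⟩ := Submodule.exists_sub_one_mem_and_smul_eq_zero_of_fg_of_le_smul p ⊤ hfg hpQ
  have hrp : r ∈ p := hle (by
    rw [Submodule.mem_annihilator_span_singleton]; exact hr x Submodule.mem_top)
  refine hp.ne_top ((Ideal.eq_top_iff_one p).2 ?_)
  have := sub_mem hrp hr1
  simpa using this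

/-- If the jets `(aᵢ, d aᵢ)` generate, a general affine combination defines a smooth algebra. -/
theorem exists_smooth_member_jets [PerfectField k] [Algebra.Smooth k R]
    (hΦ : Submodule.span R (Set.range fun i => (a i, D k R (a i))) = ⊤) :
    ∃ q : MvPolynomial (Fin n) k, q ≠ 0 ∧ ∀ c : Fin n → k, eval c q ≠ 0 →
      Algebra.Smooth k (R ⧸ Ideal.span {b + ∑ i, algebraMap k R (c i) * a i}) := by
  classical
  let A := MvPolynomial (Fin n) k
  obtain ⟨N, ret, sec, -, -, hsec⟩ := Module.Finite.exists_comp_eq_id_of_projective R Ω[R⁄k]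
  let G : Set (MvPolynomial (Fin n) R) := {affEqn R a b} ∪
    Set.range fun j => affEqn R (fun i => sec (D k R (a i)) j) (sec (D k R b) j)
  let J : Ideal (MvPolynomial (Fin n) R) := Ideal.span G
  let ι : A →+* MvPolynomial (Fin n) R := MvPolynomial.map (algebraMap k R)
  obtain ⟨q, hq, hqJ⟩ : ∃ q : A, q ≠ 0 ∧ ι q ∈ J.radical := by
    by_contra hcon
    push Not at hcon
    let M : Submonoid (MvPolynomial (Fin n) R) := (nonZeroDivisors A).map ι
    obtain ⟨P, hP, hJP, hdis⟩ := Ideal.exists_le_prime_disjoint J.radical M (by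
      rw [Set.disjoint_left]
      rintro _ hx ⟨x, hx', rfl⟩
      exact hcon x (nonZeroDivisors.ne_zero hx') hx)
    let L := FractionRing (MvPolynomial (Fin n) R ⧸ P)
    let π : MvPolynomial (Fin n) R →+* L :=
      (algebraMap (MvPolynomial (Fin n) R ⧸ P) L).comp (Ideal.Quotient.mk P)
    have hπ : ∀ x, π x = 0 ↔ x ∈ P := fun x => by
      simp only [π, RingHom.comp_apply]
      rw [IsFractionRing.to_map_eq_zero_iff, Ideal.Quotient.eq_zero_iff_mem]
    let := (π.comp (C.comp (algebraMap k R))).toAlgebra
    let ρ : R →ₐ[k] L := { toRingHom := π.comp C, commutes' := fun _ => rfl }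
    let t : Fin n → L := fun i => π (X i)
    have hGπ : ∀ g ∈ G, π g = 0 := fun g hg =>
      (hπ g).2 (hJP (Ideal.le_radical (Ideal.subset_span hg)))
    have heqn : ∀ (e : Fin n → R) (f : R), π (affEqn R e f) = ∑ i, t i * ρ (e i) + ρ f := by
      intro e f
      simp only [affEqn, map_add, map_sum, map_mul, ρ, t, add_comm (π (C f))]
      congr 1
      exact Finset.sum_congr rfl fun i _ => mul_comm _ _
    refine false_of_generic k R a b hΦ sec ret hsec L ρ t ?_ ?_ (fun j => ?_)
    · rw [algebraicIndependent_iff]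
      intro x hx
      by_contra hne
      have h1 : MvPolynomial.aeval t x = π (ι x) := by
        have := MvPolynomial.eval₂Hom_comp_C (π.comp (C.comp (algebraMap k R))) t
        have h2 : (MvPolynomial.aeval (R := k) t).toRingHom = π.comp ι := by
          refine MvPolynomial.ringHom_ext (fun c => ?_) (fun i => ?_)
          · simp [ι, RingHom.algebraMap_toAlgebra]
          · simp [ι, t]
        exact RingHom.congr_fun h2 x
      rw [h1, hπ] at hx
      exact Set.disjoint_left.1 hdis hx ⟨x, mem_nonZeroDivisors_of_ne_zero hne, rfl⟩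
    · rw [← heqn]; exact hGπ _ (Set.mem_union_left _ rfl)
    · rw [← heqn]; exact hGπ _ (Set.mem_union_right _ ⟨j, rfl⟩)
  refine ⟨q, hq, fun c hc => ?_⟩
  let g : R := b + ∑ i, algebraMap k R (c i) * a i
  let S := R ⧸ Ideal.span {g}
  have : IsNoetherianRing R := Algebra.FiniteType.isNoetherianRing k R
  refine ⟨?_, Algebra.FinitePresentation.of_finiteType.1 inferInstance⟩
  -- the differential of `g` generates on the zero locus
  let I : Ideal R := Ideal.span {g} ⊔ Ideal.span (Set.range fun j => sec (D k R g) j)
  have hI : I = ⊤ := by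
    by_contra hne
    obtain ⟨p, hp, hle⟩ := Ideal.exists_le_maximal _ hne
    let π : MvPolynomial (Fin n) R →+* R ⧸ p :=
      eval₂Hom (Ideal.Quotient.mk p) fun i => algebraMap k (R ⧸ p) (c i)
    have hπeqn : ∀ (e : Fin n → R) (f : R),
        π (affEqn R e f) = Ideal.Quotient.mk p (f + ∑ i, algebraMap k R (c i) * e i) := by
      intro e f
      simp only [affEqn, π, map_add, map_sum, map_mul, eval₂Hom_C, eval₂Hom_X']
      congr 1
      exact Finset.sum_congr rfl fun i _ => mul_comm _ _
    have hJ : J ≤ RingHom.ker π := by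
      rw [Ideal.span_le]
      rintro x (rfl | ⟨j, rfl⟩) <;> rw [SetLike.mem_coe, RingHom.mem_ker, hπeqn, Ideal.Quotient.eq_zero_iff_mem]
      · exact hle (Ideal.mem_sup_left (Ideal.mem_span_singleton_self _))
      · refine hle (Ideal.mem_sup_right (Ideal.subset_span ⟨j, ?_⟩))
        simp [g, Algebra.smul_def]
    have hker : (RingHom.ker π).IsPrime := RingHom.ker_isPrime π
    have h1 : π (ι q) = 0 := (Ideal.IsPrime.radical_le_iff hker).2 hJ hqJ
    have h2 : π.comp ι = (algebraMap k (R ⧸ p)).comp (eval c) := by
      refine MvPolynomial.ringHom_ext (fun x => ?_) (fun i => ?_) <;> simp [π, ι]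
    rw [← RingHom.comp_apply, h2, RingHom.comp_apply, map_eq_zero] at h1
    exact hc h1
  obtain ⟨x, hx, y, hy, hxy⟩ := Submodule.mem_sup.1 (show (1 : R) ∈ I from hI ▸ Submodule.mem_top)
  obtain ⟨coef, hcoef⟩ := Ideal.mem_span_range_iff_exists_fun.1 hy
  obtain ⟨z, hz⟩ := Ideal.mem_span_singleton'.1 hx
  let r : Ω[R⁄k] →ₗ[R] R := (∑ j, coef j • LinearMap.proj j) ∘ₗ sec
  have hr : r (D k R g) = 1 - z * g := by
    simp only [r, LinearMap.comp_apply, LinearMap.coe_sum, Finset.sum_apply, LinearMap.smul_apply,
      LinearMap.proj_apply, smul_eq_mul]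
    rw [hcoef, hz, ← hxy]; ring
  have hsurj : Function.Surjective (algebraMap R S) := Ideal.Quotient.mk_surjective
  rw [Algebra.FormallySmooth.iff_split_injection (R := k) (P := R) (A := S) hsurj]
  have hgker : g ∈ RingHom.ker (algebraMap R S) :=
    RingHom.mem_ker.2 (Ideal.Quotient.eq_zero_iff_mem.2 (Ideal.mem_span_singleton_self g))
  let cls := (RingHom.ker (algebraMap R S)).toCotangent ⟨g, hgker⟩
  have hkill : ∀ w ∈ Ideal.span {g}, w • cls = 0 := by
    intro w hw
    obtain ⟨v, rfl⟩ := Ideal.mem_span_singleton'.1 hw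
    rw [mul_smul, ← LinearMap.map_smul]
    have : (RingHom.ker (algebraMap R S)).toCotangent (g • ⟨g, hgker⟩) = 0 := by
      rw [Ideal.toCotangent_eq_zero, pow_two]
      exact Ideal.mul_mem_mul hgker hgker
    rw [this, smul_zero]
  let ls : S →ₗ[R] (RingHom.ker (algebraMap R S)).Cotangent :=
    Submodule.liftQ _ (LinearMap.toSpanSingleton R _ cls) fun w hw => hkill w hw
  refine ⟨TensorProduct.lift (LinearMap.mk₂ R (fun (s : S) ω => r ω • ls s)
    (fun s s' ω => by rw [map_add, smul_add])
    (fun e s ω => by rw [map_smul, smul_comm])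
    (fun s ω ω' => by rw [map_add, add_smul])
    (fun e s ω => by rw [map_smul, smul_eq_mul, mul_smul])), ?_⟩
  refine LinearMap.ext fun w => ?_
  obtain ⟨⟨w, hw⟩, rfl⟩ := Ideal.toCotangent_surjective _ w
  obtain ⟨v, hv⟩ := Ideal.mem_span_singleton'.1 (Ideal.Quotient.eq_zero_iff_mem.1 (RingHom.mem_ker.1 hw))
  subst hv
  rw [LinearMap.comp_apply, kerCotangentToTensor_toCotangent, TensorProduct.lift.tmul, LinearMap.id_apply]
  change r (D k R (v * g)) • ls (Ideal.Quotient.mk _ 1) = _
  have hl1 : ls (Ideal.Quotient.mk _ 1) = cls := one_smul R cls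
  have e1 : r (D k R (v * g)) • cls = v • cls := by
    have h : r (D k R (v * g)) = v + g * (r (D k R v) - v * z) := by
      rw [Derivation.leibniz, map_add, map_smul, map_smul, hr, smul_eq_mul, smul_eq_mul]
      ring
    rw [h, add_smul, hkill (g * (r (D k R v) - v * z))
      (Ideal.mem_span_singleton'.2 ⟨r (D k R v) - v * z, mul_comm _ _⟩), add_zero]
  rw [hl1, e1, ← LinearMap.map_smul]
  rfl

end Groth.Variety2.Bertini
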