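import Mathlib
import Groth.Agent.Variety2.CotangentScheme

/-!
A morphism of smooth varieties is smooth of relative dimension `n` iff its cotangent maps at
closed points are injective.
-/

set_option autoImplicit false

universe u

open CategoryTheory AlgebraicGeometry TensorProduct IsLocalRing

namespace Groth.Variety2.CotSmooth

variable {k : Type u} [Field k] [IsAlgClosed k] {X Y : Scheme.{u}}
  (qX : X ⟶ Spec (CommRingCat.of k)) (qY : Y ⟶ Spec (CommRingCat.of k))
  [LocallyOfFiniteType qX] [LocallyOfFiniteType qY] [Smooth qX]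
  (f : X ⟶ Y) (hf : f ≫ qY = qX)

include hf

omit [IsAlgClosed k] [Smooth qX] in
theorem locallyOfFinitePresentation_of_comp : LocallyOfFinitePresentation f := by
  have : LocallyOfFiniteType (f ≫ qY) := hf ▸ inferInstance
  have := locallyOfFiniteType_of_comp f qY
  have := LocallyOfFiniteType.isLocallyNoetherian qY
  exact Groth.Variety2.locallyOfFinitePresentation_of_noetherian f

/-- A smooth morphism of smooth schemes has injective cotangent maps at closed points. -/
theorem injective_of_smooth [Smooth f] {x : X} (hx : IsClosed ({x} : Set X)) :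
    Function.Injective (FixPt.cotangentMapAt f x (f.base x) rfl) := by
  let : X.Over (Spec (CommRingCat.of k)) := ⟨qX⟩
  let : Y.Over (Spec (CommRingCat.of k)) := ⟨qY⟩
  have : LocallyOfFiniteType (X ↘ Spec (CommRingCat.of k)) := inferInstanceAs (LocallyOfFiniteType qX)
  have : LocallyOfFiniteType (Y ↘ Spec (CommRingCat.of k)) := inferInstanceAs (LocallyOfFiniteType qY)
  have : Smooth (X ↘ Spec (CommRingCat.of k)) := inferInstanceAs (Smooth qX)
  have hf : f ≫ (Y ↘ Spec (CommRingCat.of k)) = X ↘ Spec (CommRingCat.of k) := hf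
  refine (mem_smoothLocus_iff (k := k) f hf hx).1 ?_
  rw [Scheme.Hom.smoothLocus_eq_top]; trivial

/-- Injective cotangent maps at closed points give smoothness. -/
theorem smooth_of_injective (h : ∀ x : X, IsClosed ({x} : Set X) →
    Function.Injective (FixPt.cotangentMapAt f x (f.base x) rfl)) : Smooth f := by
  let : X.Over (Spec (CommRingCat.of k)) := ⟨qX⟩
  let : Y.Over (Spec (CommRingCat.of k)) := ⟨qY⟩
  have : LocallyOfFiniteType (X ↘ Spec (CommRingCat.of k)) := inferInstanceAs (LocallyOfFiniteType qX)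
  have : LocallyOfFiniteType (Y ↘ Spec (CommRingCat.of k)) := inferInstanceAs (LocallyOfFiniteType qY)
  have : Smooth (X ↘ Spec (CommRingCat.of k)) := inferInstanceAs (Smooth qX)
  have hf : f ≫ (Y ↘ Spec (CommRingCat.of k)) = X ↘ Spec (CommRingCat.of k) := hf
  have := locallyOfFinitePresentation_of_comp (k := k) qX qY f hf
  have : JacobsonSpace X := Groth.Variety2.Dim.jacobsonSpace qX
  rw [← Scheme.Hom.smoothLocus_eq_top_iff]
  by_contra hne
  have hc : ((f.smoothLocus : Set X)ᶜ).Nonempty := by
    rw [Set.nonempty_compl]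
    exact fun hh => hne (SetLike.ext' hh)
  obtain ⟨z, hz, hzc⟩ := Groth.Variety2.Dim.exists_isClosed_singleton_mem qX
    (f.smoothLocus.isOpen.isClosed_compl.isLocallyClosed) hc
  exact hz ((mem_smoothLocus_iff (k := k) f hf hzc).2 (h z hzc))

/-- The relative rank at a closed point. -/
theorem injective_iff_relRank [IrreducibleSpace X] [IrreducibleSpace Y] [Smooth qY] (n dY : ℕ)
    (hY : topologicalKrullDim ↥Y = dY) (hX : topologicalKrullDim ↥X = ((dY + n : ℕ) : WithBot ℕ∞))
    {x : X} (hx : IsClosed ({x} : Set X)) :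
    Function.Injective (FixPt.cotangentMapAt f x (f.base x) rfl) ↔ relRank f x = n := by
  let : X.Over (Spec (CommRingCat.of k)) := ⟨qX⟩
  let : Y.Over (Spec (CommRingCat.of k)) := ⟨qY⟩
  have : LocallyOfFiniteType (X ↘ Spec (CommRingCat.of k)) := inferInstanceAs (LocallyOfFiniteType qX)
  have : LocallyOfFiniteType (Y ↘ Spec (CommRingCat.of k)) := inferInstanceAs (LocallyOfFiniteType qY)
  have : Smooth (X ↘ Spec (CommRingCat.of k)) := inferInstanceAs (Smooth qX)
  have hf : f ≫ (Y ↘ Spec (CommRingCat.of k)) = X ↘ Spec (CommRingCat.of k) := hf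
  have : Smooth (Y ↘ Spec (CommRingCat.of k)) := inferInstanceAs (Smooth qY)
  rw [← relRank_iff (k := k) f hf hx, finrank_cotangentSpace hx _ hX,
    finrank_cotangentSpace (Groth.Variety2.Dim.isClosed_image_singleton qX qY f hf hx) _ hY]
  omega

/-- Injective cotangent maps at closed points give smoothness of relative dimension `dim X - dim Y`. -/
theorem smoothOfRelativeDimension_of_injective [IrreducibleSpace X] [IrreducibleSpace Y] [Smooth qY]
    (n dY : ℕ) (hY : topologicalKrullDim ↥Y = dY)
    (hX : topologicalKrullDim ↥X = ((dY + n : ℕ) : WithBot ℕ∞))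
    (h : ∀ x : X, IsClosed ({x} : Set X) →
      Function.Injective (FixPt.cotangentMapAt f x (f.base x) rfl)) :
    SmoothOfRelativeDimension n f := by
  have hsm := smooth_of_injective qX qY f hf h
  have : JacobsonSpace X := Groth.Variety2.Dim.jacobsonSpace qX
  refine ⟨fun x => ?_⟩
  obtain ⟨U, hU, V, hV, hxV, e, hs⟩ := (Smooth.iff_forall_exists_isStandardSmooth f).1 hsm x
  refine ⟨U, hU, V, hV, hxV, e, ?_⟩
  obtain ⟨z, hzV, hzc⟩ := Groth.Variety2.Dim.exists_isClosed_singleton_mem qX
    V.isOpen.isLocallyClosed ⟨x, hxV⟩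
  let := (f.appLE U V e).hom.toAlgebra
  have hs' : Algebra.IsStandardSmooth Γ(Y, U) Γ(X, V) := hs
  have hz : z ∈ V := hzV
  have : Nontrivial Γ(X, V) := (X.presheaf.germ V z hz).hom.domain_nontrivial
  show Algebra.IsStandardSmoothOfRelativeDimension n Γ(Y, U) Γ(X, V)
  have : Module.Finite Γ(X, V) Ω[Γ(X, V)⁄Γ(Y, U)] := inferInstance
  have : Module.Free Γ(X, V) Ω[Γ(X, V)⁄Γ(Y, U)] := inferInstance
  rw [Algebra.IsStandardSmoothOfRelativeDimension.iff_of_isStandardSmooth,
    ← Module.finrank_eq_rank]
  have h1 := relRank_eq_of_chart f hU hV e hz _ (Module.finBasis Γ(X, V) Ω[Γ(X, V)⁄Γ(Y, U)])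
  rw [← h1, (injective_iff_relRank qX qY f hf n dY hY hX hzc).1 (h z hzc)]

end Groth.Variety2.CotSmooth
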