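import Mathlib

/-! Dimension of proper closed subsets of irreducible spaces. -/

open TopologicalSpace Order

namespace Groth.Variety2

/-- A proper closed subset of a finite dimensional irreducible space has smaller dimension. -/
theorem topologicalKrullDim_add_one_le {X Y : Type*} [TopologicalSpace X] [TopologicalSpace Y]
    [IrreducibleSpace X] {f : Y → X} (hf : Topology.IsClosedEmbedding f) (hne : Set.range f ≠ Set.univ) :
    topologicalKrullDim Y + 1 ≤ topologicalKrullDim X := by
  unfold topologicalKrullDim
  rcases isEmpty_or_nonempty (IrreducibleCloseds Y) with hY | hY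
  · simp [krullDim_eq_bot]
  let top : IrreducibleCloseds X := ⟨Set.univ, IrreducibleSpace.isIrreducible_univ X, isClosed_univ⟩
  have htop : ∀ Z : IrreducibleCloseds Y, IrreducibleCloseds.map f hf.continuous Z < top := by
    intro Z
    refine lt_of_le_of_ne (Set.subset_univ _) fun h => hne ?_
    have h' : closure (f '' (Z : Set Y)) = Set.univ := by
      simpa [top, IrreducibleCloseds.map] using congrArg (fun (z : IrreducibleCloseds X) => (z : Set X)) h
    rw [(hf.isClosedMap _ Z.isClosed).closure_eq] at h'
    exact Set.univ_subset_iff.1 (h' ▸ Set.image_subset_range f _)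
  have key : ∀ n : ℕ, (n : WithBot ℕ∞) ≤ krullDim (IrreducibleCloseds Y) →
      ((n + 1 : ℕ) : WithBot ℕ∞) ≤ krullDim (IrreducibleCloseds X) := by
    intro n hn
    obtain ⟨p, hp⟩ := le_krullDim_iff.1 hn
    rw [le_krullDim_iff]
    refine ⟨(p.map _ (IrreducibleCloseds.map_strictMono_of_isInducing hf.isInducing)).snoc top ?_,
      by simp [RelSeries.snoc, LTSeries.map, hp]⟩
    rw [LTSeries.last_map]
    exact htop _
  obtain ⟨a, ha⟩ := WithBot.ne_bot_iff_exists.1 (krullDim_ne_bot_iff.2 hY)
  rw [← ha] at key ⊢
  induction a using ENat.recTopCoe with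
  | top =>
    have h : ∀ n : ℕ, ((n + 1 : ℕ) : WithBot ℕ∞) ≤ krullDim (IrreducibleCloseds X) := fun n => key n (WithBot.coe_le_coe.2 le_top)
    have := krullDim_eq_top_iff.2 (show InfiniteDimensionalOrder (IrreducibleCloseds X) from
      ⟨fun n => (le_krullDim_iff.1 ((Nat.cast_le.2 (Nat.le_succ n)).trans (h n)))⟩)
    rw [this]
    exact le_top
  | coe n => exact le_of_eq_of_le (by norm_cast) (key n le_rfl)

end Groth.Variety2
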