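import Mathlib

/-!
The morphism to `Proj` defined by a graded ring map away from its base locus.
-/

universe u

open CategoryTheory CategoryTheory.Limits AlgebraicGeometry HomogeneousLocalization Graded

namespace Groth.Variety2.ProjPartial

variable {A B σ τ : Type u} [CommRing A] [SetLike σ A] [AddSubgroupClass σ A]
  [CommRing B] [SetLike τ B] [AddSubgroupClass τ B]
  {𝒜 : ℕ → σ} {ℬ : ℕ → τ} [GradedRing 𝒜] [GradedRing ℬ]
  (g : 𝒜 →+*ᵍ ℬ) {ι : Type u} {s : ι → A} (hs : ∀ i, s i ∈ 𝒜 1)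

/-- The affine piece of the morphism. -/
noncomputable def chart (i : ι) : Spec (.of (Away ℬ (g (s i)))) ⟶ Proj 𝒜 :=
  Spec.map (CommRingCat.ofHom (Away.map g (s i))) ≫ Proj.awayι 𝒜 (s i) (hs i) one_pos

theorem map_awayMap {e : ℕ} {f t x : A} (hf : f ∈ 𝒜 1) (ht : t ∈ 𝒜 e) (hx : x = f * t)
    (hx' : g x = g f * g t) :
    (Away.map g x).comp (awayMap 𝒜 ht hx) = (awayMap ℬ (map_mem g ht) hx').comp (Away.map g f) := by
  refine RingHom.ext fun z => ?_
  obtain ⟨m, a, ha, rfl⟩ := Away.mk_surjective 𝒜 hf z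
  have hxd : x ∈ 𝒜 (1 + e) := hx ▸ SetLike.mul_mem_graded hf ht
  simp only [RingHom.comp_apply, awayMap_mk, Away.map_mk]
  simp [map_mul, map_pow]

theorem chart_compat {T : Scheme.{u}} (i j : ι)
    (a : T ⟶ Spec (.of (Away ℬ (g (s i))))) (b : T ⟶ Spec (.of (Away ℬ (g (s j)))))
    (h : a ≫ Proj.awayι ℬ (g (s i)) (map_mem g (hs i)) one_pos =
      b ≫ Proj.awayι ℬ (g (s j)) (map_mem g (hs j)) one_pos) :
    a ≫ chart g hs i = b ≫ chart g hs j := by
  have hx : g (s i * s j) = g (s i) * g (s j) := map_mul g _ _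
  let e := Proj.pullbackAwayιIso ℬ (map_mem g (hs i)) one_pos (map_mem g (hs j)) one_pos hx
  let t := pullback.lift a b h ≫ e.hom
  have ha : a = t ≫ Spec.map (CommRingCat.ofHom (awayMap ℬ (map_mem g (hs j)) hx)) := by
    simp only [t, e, Category.assoc, Proj.pullbackAwayιIso_hom_SpecMap_awayMap_left, pullback.lift_fst]
  have hb : b = t ≫ Spec.map (CommRingCat.ofHom (awayMap ℬ (map_mem g (hs i))
      (hx.trans (mul_comm _ _)))) := by
    simp only [t, e, Category.assoc, Proj.pullbackAwayιIso_hom_SpecMap_awayMap_right, pullback.lift_snd]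
  clear_value t
  subst ha hb
  rw [chart, chart, Category.assoc, Category.assoc, ← Spec.map_comp_assoc, ← Spec.map_comp_assoc,
    ← CommRingCat.ofHom_comp, ← CommRingCat.ofHom_comp,
    ← map_awayMap g (hs i) (hs j) rfl hx, ← map_awayMap g (hs j) (hs i) (mul_comm _ _) (hx.trans (mul_comm _ _)),
    CommRingCat.ofHom_comp, CommRingCat.ofHom_comp, Spec.map_comp_assoc, Spec.map_comp_assoc,
    Proj.SpecMap_awayMap_awayι, Proj.SpecMap_awayMap_awayι]

theorem chart_preimage (i j : ι) :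
    chart g hs j ⁻¹ᵁ Proj.basicOpen 𝒜 (s i) =
      Proj.awayι ℬ (g (s j)) (map_mem g (hs j)) one_pos ⁻¹ᵁ Proj.basicOpen ℬ (g (s i)) := by
  rw [chart, Scheme.Hom.comp_preimage, Proj.awayι_preimage_basicOpen 𝒜 (hs j) one_pos (hs i) one_pos,
    Proj.awayι_preimage_basicOpen ℬ (map_mem g (hs j)) one_pos (map_mem g (hs i)) one_pos]
  refine (TopologicalSpace.Opens.ext ?_)
  have he : Away.map g (s j) (Away.isLocalizationElem (hs j) (hs i)) =
      Away.isLocalizationElem (map_mem g (hs j)) (map_mem g (hs i)) := by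
    simp [Away.isLocalizationElem]
  rw [← he]
  rfl

/-- A morphism into `Proj ℬ` avoiding the base locus gives a morphism into `Proj 𝒜`. -/
theorem exists_map {X : Scheme.{u}} (φ : X ⟶ Proj ℬ)
    (hφ : ∀ x, ∃ i, φ x ∈ Proj.basicOpen ℬ (g (s i))) :
    ∃ π : X ⟶ Proj 𝒜, (∀ i, π ⁻¹ᵁ Proj.basicOpen 𝒜 (s i) = φ ⁻¹ᵁ Proj.basicOpen ℬ (g (s i))) ∧
      ∀ (S : Scheme.{u}) (q : Proj 𝒜 ⟶ S) (q' : Proj ℬ ⟶ S),
        (∀ i, chart g hs i ≫ q = Proj.awayι ℬ (g (s i)) (map_mem g (hs i)) one_pos ≫ q') →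
        π ≫ q = φ ≫ q' := by
  let U : ι → X.Opens := fun i => φ ⁻¹ᵁ Proj.basicOpen ℬ (g (s i))
  have hU : TopologicalSpace.IsOpenCover U :=
    top_le_iff.1 fun x _ => TopologicalSpace.Opens.mem_iSup.2 (hφ x)
  let 𝒰 := X.openCoverOfIsOpenCover U hU
  have hr : ∀ i, Set.range ((U i).ι ≫ φ) ⊆
      Set.range (Proj.awayι ℬ (g (s i)) (map_mem g (hs i)) one_pos) := fun i => by
    rintro _ ⟨x, rfl⟩
    exact (congrArg (fun V : (Proj ℬ).Opens => φ ((U i).ι x) ∈ V)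
      (Proj.opensRange_awayι ℬ (g (s i)) (map_mem g (hs i)) one_pos)).mpr x.2
  let l : ∀ i, (U i).toScheme ⟶ Spec (.of (Away ℬ (g (s i)))) := fun i =>
    IsOpenImmersion.lift _ ((U i).ι ≫ φ) (hr i)
  have hl : ∀ i, l i ≫ Proj.awayι ℬ (g (s i)) (map_mem g (hs i)) one_pos = (U i).ι ≫ φ := fun i =>
    IsOpenImmersion.lift_fac _ _ _
  let π : X ⟶ Proj 𝒜 := 𝒰.glueMorphisms (fun i => l i ≫ chart g hs i) (fun i j => by
    rw [← Category.assoc, ← Category.assoc]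
    refine chart_compat g hs i j _ _ ?_
    refine (Category.assoc _ _ _).trans (Eq.trans ?_ (Category.assoc _ _ _).symm)
    exact ((congrArg (pullback.fst _ _ ≫ ·) (hl i)).trans
      ((Category.assoc _ _ _).symm.trans ((congrArg (· ≫ φ) pullback.condition).trans
        (Category.assoc _ _ _)))).trans (congrArg (pullback.snd _ _ ≫ ·) (hl j)).symm)
  have hπ : ∀ i, (U i).ι ≫ π = l i ≫ chart g hs i := fun i => 𝒰.ι_glueMorphisms _ _ i
  refine ⟨π, fun i => TopologicalSpace.Opens.ext (Set.ext fun x => ?_), fun S q q' hq => ?_⟩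
  · obtain ⟨j, hj⟩ := hφ x
    obtain ⟨y, rfl⟩ : ∃ y : (U j).toScheme, (U j).ι y = x := ⟨⟨x, hj⟩, rfl⟩
    change π ((U j).ι y) ∈ Proj.basicOpen 𝒜 (s i) ↔ φ ((U j).ι y) ∈ Proj.basicOpen ℬ (g (s i))
    rw [← Scheme.Hom.comp_apply, ← Scheme.Hom.comp_apply, hπ, ← hl, Scheme.Hom.comp_apply,
      Scheme.Hom.comp_apply, ← Scheme.Hom.mem_preimage, chart_preimage]
    rfl
  · refine 𝒰.hom_ext _ _ fun i => ?_
    change (U i).ι ≫ π ≫ q = (U i).ι ≫ φ ≫ q'
    rw [reassoc_of% hπ i, hq, reassoc_of% hl i]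

end Groth.Variety2.ProjPartial
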