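import Mathlib
import Groth.Agent.Variety2.SmoothTarget
import Groth.Agent.Variety2.DimFiber
import Groth.Agent.ZetaAn.Constructible
import Groth.Agent.AlgGrp2.Basic

/-!
Homogeneous spaces over algebraically closed fields of characteristic zero.
-/

universe u

open CategoryTheory CategoryTheory.Limits MonoidalCategory CartesianMonoidalCategory MonObj GrpObj
  AlgebraicGeometry TopologicalSpace

namespace Groth.Variety2.Homog

variable {k : Type u} [Field k] {G X : Over (Spec (CommRingCat.of k))} [GrpObj G]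
  (a : AlgGrp.Action G X)

local notation "pt" => 𝟙_ (Over (Spec (CommRingCat.of k)))

/-- The action of a rational point. -/
noncomputable def actMap (σ : pt ⟶ G) : X ⟶ X := lift (toUnit X ≫ σ) (𝟙 X) ≫ a.act

theorem comp_actMap {T : Over (Spec (CommRingCat.of k))} (x : T ⟶ X) (σ : pt ⟶ G) :
    x ≫ actMap a σ = lift (toUnit T ≫ σ) x ≫ a.act := by
  simp [actMap, comp_lift_assoc]

theorem actMap_mul (σ τ : pt ⟶ G) : actMap a σ ≫ actMap a τ = actMap a (τ * σ) := by
  rw [comp_actMap]
  simp only [actMap]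
  rw [MonObj.comp_mul, Groth.AlgGrp2.lift_mul_act]

theorem actMap_one : actMap a 1 = 𝟙 X := by
  simp [actMap, MonObj.comp_one, Groth.AlgGrp2.lift_one_act]

/-- The automorphism given by a rational point. -/
noncomputable def actIso (σ : pt ⟶ G) : X ≅ X where
  hom := actMap a σ
  inv := actMap a σ⁻¹
  hom_inv_id := by rw [actMap_mul, inv_mul_cancel, actMap_one]
  inv_hom_id := by rw [actMap_mul, mul_inv_cancel, actMap_one]

instance (σ : pt ⟶ G) : IsIso (actMap a σ) := (actIso a σ).isIso_hom

instance (σ : pt ⟶ G) : IsIso (actMap a σ).left :=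
  inferInstanceAs (IsIso ((Over.forget _).map (actMap a σ)))

/-- Translation on the source of the extended action. -/
noncomputable def translate (σ : pt ⟶ G) (T : Over (Spec (CommRingCat.of k))) : G ⊗ T ⟶ G ⊗ T :=
  (Groth.AlgGrp2.mulLeftIso σ).hom ▷ T

instance (σ : pt ⟶ G) (T : Over (Spec (CommRingCat.of k))) : IsIso (translate σ T).left := by
  have : IsIso (translate σ T) := by unfold translate; infer_instance
  exact inferInstanceAs (IsIso ((Over.forget _).map (translate σ T)))

theorem translate_comp (σ : pt ⟶ G) {T : Over (Spec (CommRingCat.of k))} (t : T ⟶ X) :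
    translate σ T ≫ (G ◁ t) ≫ a.act = ((G ◁ t) ≫ a.act) ≫ actMap a σ := by
  rw [comp_actMap]
  have h1 : translate σ T ≫ (G ◁ t) =
      lift ((toUnit _ ≫ σ) * fst G T) (snd G T ≫ t) := by
    apply CartesianMonoidalCategory.hom_ext
    · simp [translate, Groth.AlgGrp2.comp_mulLeftIso_hom]
    · simp [translate]
  have h2 : lift (fst G T) (snd G T ≫ t) = G ◁ t := by
    apply CartesianMonoidalCategory.hom_ext <;> simp
  rw [← Category.assoc, h1, Groth.AlgGrp2.lift_mul_act, h2]

variable [IsAlgClosed k] [LocallyOfFiniteType X.hom]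

/-- The rational point at a closed point. -/
theorem exists_point {x : X.left} (hx : IsClosed ({x} : Set X.left)) :
    ∃ p : pt ⟶ X, ∀ z, p.left z = x :=
  ⟨Over.homMk (pointOfClosedPoint X.hom x hx) (pointOfClosedPoint_comp X.hom x hx),
    fun z => pointOfClosedPoint_apply X.hom x hx z⟩

/-- Translations act transitively on closed points. -/
theorem exists_actMap_apply (htrans : ∀ x x' : pt ⟶ X, ∃ σ : pt ⟶ G, lift σ x ≫ a.act = x')
    {x y : X.left} (hx : IsClosed ({x} : Set X.left)) (hy : IsClosed ({y} : Set X.left)) :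
    ∃ σ : pt ⟶ G, (actMap a σ).left x = y := by
  obtain ⟨p, hp⟩ := exists_point hx
  obtain ⟨q, hq⟩ := exists_point hy
  obtain ⟨σ, hσ⟩ := htrans p q
  refine ⟨σ, ?_⟩
  have h : p ≫ actMap a σ = q := by
    rw [comp_actMap, show toUnit pt = 𝟙 _ from (toUnit_unique _ _), Category.id_comp, hσ]
  let z : (pt : Over (Spec (CommRingCat.of k))).left := IsLocalRing.closedPoint k
  have := congr($(congrArg Over.Hom.left h) z)
  rw [Over.comp_left, Scheme.Hom.comp_apply, hp, hq] at this
  exact this

variable [CharZero k]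

/-- The action composed with a morphism from a smooth scheme is smooth. -/
theorem smooth_act_comp [IsIntegral X.left] [QuasiCompact X.hom] [Smooth G.hom] [QuasiCompact G.hom]
    (htrans : ∀ x x' : pt ⟶ X, ∃ σ : pt ⟶ G, lift σ x ≫ a.act = x')
    {T : Over (Spec (CommRingCat.of k))} (t : T ⟶ X) [Smooth T.hom] [QuasiCompact T.hom] :
    Smooth ((G ◁ t) ≫ a.act).left := by
  set h := ((G ◁ t) ≫ a.act).left with hh
  have hw : h ≫ X.hom = (G ⊗ T).hom := Over.w _
  have hP : (G ⊗ T).hom = (fst G T).left ≫ G.hom := (Over.w _).symm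
  have : Smooth (fst G T).left :=
    MorphismProperty.of_isPullback (Groth.AlgGrp2.isPullback_fst_snd G T).flip ‹Smooth T.hom›
  have : QuasiCompact (fst G T).left :=
    MorphismProperty.of_isPullback (Groth.AlgGrp2.isPullback_fst_snd G T).flip ‹QuasiCompact T.hom›
  have : Smooth (h ≫ X.hom) := by rw [hw, hP]; infer_instance
  have : QuasiCompact (h ≫ X.hom) := by rw [hw, hP]; infer_instance
  have := LocallyOfFiniteType.isLocallyNoetherian X.hom
  have : LocallyOfFiniteType h := locallyOfFiniteType_of_comp h X.hom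
  have := locallyOfFinitePresentation_of_noetherian h
  have := Dim.noetherianSpace_of X.hom
  have := Dim.noetherianSpace_of (h ≫ X.hom)
  have : QuasiCompact h := ⟨fun _ _ _ => NoetherianSpace.isCompact _⟩
  have : CharZero X.left.functionField := by
    let f : CommRingCat.of k ⟶ X.left.functionField :=
      (Scheme.ΓSpecIso _).inv ≫ X.hom.appTop ≫ X.left.presheaf.germ ⊤ (genericPoint X.left) trivial
    exact charZero_of_injective_ringHom f.hom.injective
  have hC : Topology.IsConstructible (h '' (h.smoothLocus : Set _)ᶜ) :=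
    h.isConstructible_image (IsRetrocompact.isConstructible h.smoothLocus.2
      (fun _ _ _ => NoetherianSpace.isCompact _)).compl
  obtain ⟨V, hV, hηV, hVsub⟩ := (Groth.ZetaAn.isConstructible_near hC (genericPoint X.left)).2 (by
    rintro ⟨x, hx, he⟩
    exact hx (mem_smoothLocus_of_map_eq_genericPoint X.hom h he))
  let V₀ : X.left.Opens := ⟨V, hV⟩
  have hsub : h ⁻¹ᵁ V₀ ≤ h.smoothLocus := fun x hx => by
    by_contra hc
    exact hVsub ⟨hx, specializes_iff_mem_closure.1 (genericPoint_specializes _)⟩ ⟨x, hc, rfl⟩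
  have hs0 : Smooth (h ∣_ V₀) := by
    have : Smooth ((h ⁻¹ᵁ V₀).ι ≫ h) := smooth_of_le_smoothLocus h _ hsub
    have : Smooth ((h ∣_ V₀) ≫ V₀.ι) := by rw [morphismRestrict_ι]; infer_instance
    exact MorphismProperty.of_postcomp @Smooth (h ∣_ V₀) V₀.ι (W' := @IsOpenImmersion)
      inferInstance this
  have hcov : ⨆ σ : pt ⟶ G, (actMap a σ).left ⁻¹ᵁ V₀ = ⊤ := by
    by_contra hne
    obtain ⟨b, hb, hbc⟩ := Dim.exists_isClosed_singleton_mem X.hom
      (⨆ σ : pt ⟶ G, (actMap a σ).left ⁻¹ᵁ V₀).2.isClosed_compl.isLocallyClosed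
      (Set.nonempty_compl.2 fun hu => hne (Opens.ext hu))
    obtain ⟨b', hb', hbc'⟩ := Dim.exists_isClosed_singleton_mem X.hom hV.isLocallyClosed ⟨_, hηV⟩
    obtain ⟨σ, hσ⟩ := exists_actMap_apply a htrans hbc hbc'
    exact hb (Opens.mem_iSup.2 ⟨σ, show (actMap a σ).left b ∈ V₀ from hσ ▸ hb'⟩)
  rw [IsZariskiLocalAtTarget.iff_of_iSup_eq_top (P := @Smooth) _ hcov]
  intro σ
  have heq : h ≫ (actMap a σ).left = (translate σ T).left ≫ h := by
    rw [hh, ← Over.comp_left, ← Over.comp_left, translate_comp]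
  have h1 := morphismRestrict_comp h (actMap a σ).left V₀
  have h2 : Smooth ((h ≫ (actMap a σ).left) ∣_ V₀) := by
    rw [heq, morphismRestrict_comp]
    have : Smooth ((translate σ T).left ∣_ (h ⁻¹ᵁ V₀)) :=
      IsZariskiLocalAtTarget.restrict (P := @Smooth) inferInstance _
    exact MorphismProperty.comp_mem @Smooth _ _ this hs0
  rw [h1] at h2
  exact (MorphismProperty.cancel_right_of_respectsIso @Smooth _ _).1 h2

end Groth.Variety2.Homog
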