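import Mathlib
import Groth.Agent.Variety2.IrrFibres

/-!
Pure dimensionality of fibres, phrased with heights.
-/

universe u

open CategoryTheory AlgebraicGeometry TopologicalSpace

namespace Groth.Variety2.Dim

/-- All points of `T` have height at most `e`, with equality somewhere on each relatively open
nonempty piece. -/
def PureSet {X : Scheme.{u}} (T : Set X) (e : ℕ∞) : Prop :=
  (∀ x ∈ T, Order.height x ≤ e) ∧
    ∀ O : Set X, IsOpen O → (O ∩ T).Nonempty → ∃ x ∈ O ∩ T, Order.height x = e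

variable {k : Type u} [Field k] {X Y : Scheme.{u}}
  (f : X ⟶ Spec (CommRingCat.of k)) [LocallyOfFiniteType f]
  (fY : Y ⟶ Spec (CommRingCat.of k)) [LocallyOfFiniteType fY] (g : X ⟶ Y)

include f fY in
/-- Pure sets correspond along preimmersions. -/
theorem pureSet_range_iff [IsPreimmersion g] (hg : g ≫ fY = f) (e : ℕ∞) :
    PureSet (Set.range g) e ↔ PureSet (Set.univ : Set X) e := by
  have hh := height_eq_of_isPreimmersion f fY g hg
  refine ⟨fun h => ⟨fun x _ => hh x ▸ h.1 _ ⟨x, rfl⟩, fun O hO hne => ?_⟩,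
    fun h => ⟨?_, fun O hO hne => ?_⟩⟩
  · obtain ⟨O', hO', rfl⟩ := g.isEmbedding.isOpen_iff.1 hO
    obtain ⟨x, hx, -⟩ := hne
    obtain ⟨_, ⟨hy, x', rfl⟩, he⟩ := h.2 O' hO' ⟨g x, hx, x, rfl⟩
    exact ⟨x', ⟨hy, trivial⟩, hh x' ▸ he⟩
  · rintro _ ⟨x, rfl⟩
    exact hh x ▸ h.1 x trivial
  · obtain ⟨_, hy, x, rfl⟩ := hne
    obtain ⟨x', ⟨hx', -⟩, he⟩ := h.2 (g ⁻¹' O) (hO.preimage g.continuous) ⟨x, hy, trivial⟩
    exact ⟨g x', ⟨hx', x', rfl⟩, (hh x').trans he⟩

include f fY in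
/-- Pure sets pull back along isomorphisms. -/
theorem pureSet_preimage [IsIso g] (hg : g ≫ fY = f) {S : Set Y} {e : ℕ∞} (h : PureSet S e) :
    PureSet (g ⁻¹' S) e := by
  have hh := height_eq_of_isPreimmersion f fY g hg
  refine ⟨fun x hx => hh x ▸ h.1 _ hx, fun O hO hne => ?_⟩
  obtain ⟨x, hxO, hxS⟩ := hne
  obtain ⟨_, ⟨⟨x', hx', rfl⟩, hy⟩, he⟩ :=
    h.2 (g '' O) (g.isOpenEmbedding.isOpenMap O hO) ⟨g x, ⟨x, hxO, rfl⟩, hxS⟩
  exact ⟨x', ⟨hx', hy⟩, hh x' ▸ he⟩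

include f fY in
/-- Pure fibres and generalizing map: every maximal point has the expected height. -/
theorem height_maximal_eq [NoetherianSpace X] [IrreducibleSpace Y] (hg : g ≫ fY = f)
    (hgen : GeneralizingMap g) (e : ℕ∞)
    (hpure : ∀ b : Y, IsClosed ({b} : Set Y) → PureSet (g ⁻¹' {b}) e)
    {ξ : X} (hξ : ∀ z, z ⤳ ξ → z = ξ) :
    g ξ = genericPoint Y ∧ Order.height ξ = e + Order.height (genericPoint Y) := by
  obtain ⟨ξ', h1, h2⟩ := hgen (genericPoint_specializes (g ξ))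
  obtain rfl := hξ ξ' h1
  obtain ⟨U, hU, hUle⟩ := exists_open_subset_closure hξ
  obtain ⟨V, hV, hVle⟩ := exists_open_height_le f fY g hg ξ'
  obtain ⟨x0, hx0, hx0c⟩ := exists_isClosed_singleton_mem f
    (U.2.inter (V.2.preimage g.continuous)).isLocallyClosed ⟨ξ', hU, hV⟩
  have hb := isClosed_image_singleton f fY g hg hx0c
  refine ⟨h2, le_antisymm ?_ ?_⟩
  · obtain ⟨z, -, -, hz1, hz2⟩ := exists_fiber_height_le f fY g hg (hUle x0 hx0.1)
    rw [(height_eq_zero_iff _).2 hb, add_zero, h2] at hz2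
    exact hz2.trans (add_le_add ((hpure _ hb).1 z hz1) le_rfl)
  · obtain ⟨x, ⟨⟨hxU, hxV⟩, hxb⟩, he⟩ := (hpure _ hb).2 _ (U.2.inter (V.2.preimage g.continuous))
      ⟨x0, hx0, rfl⟩
    have := hVle x (hUle x hxU) hxV
    rw [show g x = g x0 from hxb, (height_eq_zero_iff _).2 hb, add_zero, h2, he] at this
    exact this

include f fY in
/-- If the maximal points near the generic point dominate and have the same height, general closed
fibres are pure. -/
theorem exists_open_pureSet [NoetherianSpace X] [IrreducibleSpace Y] (hg : g ≫ fY = f)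
    (V₀ : Y.Opens) (hV₀ : genericPoint Y ∈ V₀) (e : ℕ∞)
    (hmax : ∀ ξ : X, (∀ z, z ⤳ ξ → z = ξ) → g ξ ∈ V₀ →
      g ξ = genericPoint Y ∧ Order.height ξ = e + Order.height (genericPoint Y)) :
    ∃ V : Y.Opens, genericPoint Y ∈ V ∧ V ≤ V₀ ∧
      ∀ b ∈ V, IsClosed ({b} : Set Y) → PureSet (g ⁻¹' {b}) e := by
  obtain ⟨N, hN⟩ := exists_height_eq fY (genericPoint Y)
  have hNtop : Order.height (genericPoint Y) ≠ ⊤ := hN ▸ ENat.natCast_ne_top N
  have key : ∀ Z ∈ irreducibleComponents X, ∃ (ξ : X) (V : Y.Opens), IsGenericPoint ξ Z ∧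
      (∀ z, z ⤳ ξ → z = ξ) ∧ genericPoint Y ∈ V ∧ ∀ x, ξ ⤳ x → g x ∈ V →
        Order.height x + Order.height (g ξ) ≤ Order.height ξ + Order.height (g x) := fun Z hZ => by
    obtain ⟨ξ, h1, h2⟩ := exists_generic_of_component hZ
    obtain ⟨V, hV, hVle⟩ := exists_open_height_le f fY g hg ξ
    exact ⟨ξ, V, h1, h2, (genericPoint_specializes (g ξ)).mem_open V.2 hV, hVle⟩
  choose! ξs Vs hgen hξ hV hVle using key
  let V1 : Set Y := ⋂ Z ∈ irreducibleComponents X, (Vs Z : Set Y)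
  have hV1 : IsOpen V1 := NoetherianSpace.finite_irreducibleComponents.isOpen_biInter fun Z _ => (Vs Z).2
  refine ⟨⟨V₀ ∩ V1, V₀.2.inter hV1⟩, ⟨hV₀, Set.mem_iInter₂.2 hV⟩, Set.inter_subset_left,
    fun b hb hbc => ?_⟩
  have hb0 := (height_eq_zero_iff b).2 hbc
  have hupper : ∀ x, g x = b → Order.height x ≤ e := by
    intro x hx
    have hZ := irreducibleComponent_mem_irreducibleComponents x
    have hs := (hgen _ hZ).specializes mem_irreducibleComponent
    obtain ⟨h1, h2⟩ := hmax _ (hξ _ hZ) ((hs.map g.continuous).mem_open V₀.2 (hx.symm ▸ hb.1))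
    have := hVle _ hZ x hs (hx.symm ▸ Set.mem_iInter₂.1 hb.2 _ hZ)
    rw [h1, h2, hx, hb0, add_zero] at this
    exact WithTop.le_of_add_le_add_right hNtop this
  refine ⟨hupper, fun O hO hne => ?_⟩
  obtain ⟨x, ⟨hxO, hxb⟩, hxc⟩ := exists_isClosed_singleton_mem f
    (hO.isLocallyClosed.inter (hbc.preimage g.continuous).isLocallyClosed) hne
  have hxb : g x = b := hxb
  obtain ⟨Z, hZ, ξ, hξZ, hξm, hξx⟩ := exists_component_generic x
  obtain ⟨h1, h2⟩ := hmax ξ hξm ((hξx.map g.continuous).mem_open V₀.2 (hxb.symm ▸ hb.1))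
  obtain ⟨z, -, hzx, hzb, hz⟩ := exists_fiber_height_le f fY g hg hξx
  rw [hxb, hb0, add_zero, h1, h2] at hz
  exact ⟨z, ⟨hzx.mem_open hO hxO, hzb.trans hxb⟩, le_antisymm (hupper z (hzb.trans hxb))
    (WithTop.le_of_add_le_add_right hNtop hz)⟩

end Groth.Variety2.Dim
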