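import Mathlib
import Groth.Agent.Variety2.Homogeneous
import Groth.Agent.Variety2.PureDim

/-!
Auxiliary statements for the transversality theorem.
-/

universe u

open CategoryTheory CategoryTheory.Limits MonoidalCategory CartesianMonoidalCategory MonObj GrpObj
  AlgebraicGeometry TopologicalSpace

namespace Groth.Variety2.Homog

theorem range_of_isPullback {P X Y S : Scheme.{u}} {p : P ⟶ X} {q : P ⟶ Y} {f : X ⟶ S} {g : Y ⟶ S}
    (h : IsPullback p q f g) : Set.range p = f ⁻¹' Set.range g := by
  rw [← h.isoPullback_hom_fst, Scheme.Hom.comp_base, TopCat.coe_comp, Set.range_comp,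
    Set.range_eq_univ.2 h.isoPullback.hom.surjective, Set.image_univ, Scheme.Pullback.range_fst]

theorem range_eq_singleton {k : Type u} [Field k] {X : Scheme.{u}} (p : Spec (CommRingCat.of k) ⟶ X) :
    Set.range p = {p (IsLocalRing.closedPoint k)} :=
  Set.eq_singleton_iff_unique_mem.2 ⟨⟨_, rfl⟩, by
    rintro _ ⟨z, rfl⟩; exact congr(p $(Subsingleton.elim (α := PrimeSpectrum k) _ _))⟩

theorem isPullback_of_factor {P U X Y S : Scheme.{u}} {p : P ⟶ X} {q : P ⟶ Y} {f : X ⟶ S}
    {g : Y ⟶ S} (h : IsPullback p q f g) (i : U ⟶ X) [Mono i] (p' : P ⟶ U) (e : p' ≫ i = p) :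
    IsPullback p' q (i ≫ f) g := by
  refine ⟨⟨by rw [reassoc_of% e, h.w]⟩, ⟨PullbackCone.IsLimit.mk _
    (fun s => h.lift (s.fst ≫ i) s.snd (by rw [Category.assoc, s.condition]))
    (fun s => ?_) (fun s => h.lift_snd _ _ _) (fun s m hm1 hm2 => ?_)⟩⟩
  · rw [← cancel_mono i, Category.assoc, e, h.lift_fst]
  · apply h.hom_ext
    · rw [h.lift_fst, ← e, reassoc_of% hm1]
    · rw [h.lift_snd, hm2]

variable {k : Type u} [Field k] [IsAlgClosed k] {G X : Over (Spec (CommRingCat.of k))} [GrpObj G]
  (a : AlgGrp.Action G X)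

local notation "pt" => 𝟙_ (Over (Spec (CommRingCat.of k)))

instance : IsIso (𝟙_ (Over (Spec (CommRingCat.of k)))).hom := inferInstanceAs (IsIso (𝟙 _))

omit [IsAlgClosed k] in
/-- Slices of a product at rational points. -/
theorem isPullback_slice_snd (G T : Over (Spec (CommRingCat.of k))) (y : pt ⟶ T) :
    IsPullback (lift (𝟙 G) (toUnit G ≫ y)).left (toUnit G).left (snd G T).left y.left := by
  refine IsPullback.of_right ?_ (by rw [← Over.comp_left, ← Over.comp_left, lift_snd])
    (Groth.AlgGrp2.isPullback_fst_snd G T)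
  rw [← Over.comp_left, lift_fst]
  have : (toUnit G).left = G.hom := Over.w (toUnit G) ▸ (Category.comp_id _).symm
  rw [this, Over.w y]
  exact IsPullback.of_horiz_isIso ⟨by simp⟩

omit [IsAlgClosed k] in
/-- Slices of a product at rational points. -/
theorem isPullback_slice_fst (G T : Over (Spec (CommRingCat.of k))) (σ : pt ⟶ G) :
    IsPullback (lift (toUnit T ≫ σ) (𝟙 T)).left (toUnit T).left (fst G T).left σ.left := by
  refine IsPullback.of_right ?_ (by rw [← Over.comp_left, ← Over.comp_left, lift_fst])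
    (Groth.AlgGrp2.isPullback_fst_snd G T).flip
  rw [← Over.comp_left, lift_snd]
  have : (toUnit T).left = T.hom := Over.w (toUnit T) ▸ (Category.comp_id _).symm
  rw [this, Over.w σ]
  exact IsPullback.of_horiz_isIso ⟨by simp⟩

variable [LocallyOfFiniteType X.hom]

open Dim in
/-- Pure general fibres spread over the whole homogeneous space. -/
theorem pureSet_fibre_of_open {T : Over (Spec (CommRingCat.of k))} (t : T ⟶ X)
    [LocallyOfFiniteType (G ⊗ T).hom]
    (htrans : ∀ x x' : pt ⟶ X, ∃ σ : pt ⟶ G, lift σ x ≫ a.act = x')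
    (V : X.left.Opens) (hV : (V : Set X.left).Nonempty) (e : ℕ∞)
    (hpure : ∀ b ∈ V, IsClosed ({b} : Set X.left) → PureSet (((G ◁ t) ≫ a.act).left ⁻¹' {b}) e)
    (b : X.left) (hb : IsClosed ({b} : Set X.left)) :
    PureSet (((G ◁ t) ≫ a.act).left ⁻¹' {b}) e := by
  obtain ⟨b', hb', hbc'⟩ := exists_isClosed_singleton_mem X.hom V.2.isLocallyClosed hV
  obtain ⟨σ, hσ⟩ := exists_actMap_apply a htrans hb hbc'
  have h := pureSet_preimage (G ⊗ T).hom (G ⊗ T).hom (translate σ T).left (Over.w _)
    (hpure b' hb' hbc')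
  convert h using 1
  ext x
  have := congr($(congrArg Over.Hom.left (translate_comp a σ t)) x)
  rw [Over.comp_left, Over.comp_left (g := actMap a σ), Scheme.Hom.comp_apply,
    Scheme.Hom.comp_apply] at this
  simp only [Set.mem_preimage, Set.mem_singleton_iff]
  rw [this, ← hσ]
  exact ⟨fun h => congrArg _ h, fun h => (actMap a σ).left.isOpenEmbedding.injective h⟩

open Dim in
omit [IsAlgClosed k] in
/-- A fibre over a rational point is pure iff the corresponding set is. -/
theorem pureSet_preimage_iff {W F B : Scheme.{u}} {q : F ⟶ W} {sF : F ⟶ Spec (CommRingCat.of k)}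
    {π : W ⟶ B} {p : Spec (CommRingCat.of k) ⟶ B} (h : IsPullback q sF π p) [IsPreimmersion p]
    (wW : W ⟶ Spec (CommRingCat.of k)) [LocallyOfFiniteType wW] (hq : q ≫ wW = sF)
    [LocallyOfFiniteType sF] (e : ℕ∞) :
    PureSet (π ⁻¹' {p (IsLocalRing.closedPoint k)}) e ↔ PureSet (Set.univ : Set F) e := by
  have : IsPreimmersion q := MorphismProperty.of_isPullback h.flip ‹IsPreimmersion p›
  rw [← range_eq_singleton, ← range_of_isPullback h, pureSet_range_iff sF wW q hq]

end Groth.Variety2.Homog
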