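import Mathlib
import Groth.Agent.S12208

/-!
Noether normalization adapted to a chain of primes, and extension of chains of primes along it.
-/

set_option autoImplicit false

universe u

open MvPolynomial

namespace Groth.Variety2.Adapted

variable {k : Type u} [Field k]

/-- The ideal of the first `h` variables. -/
noncomputable abbrev J (k : Type u) [Field k] (n h : ℕ) : Ideal (MvPolynomial (Fin n) k) :=
  Ideal.span (MvPolynomial.X '' {l : Fin n | (l : ℕ) < h})

/-- An algebra map with a renaming as section modulo `I` has kernel in `I`. -/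
theorem sub_rename_mem {σ τ : Type} (g : σ → MvPolynomial τ k) (e : τ → σ)
    (I : Ideal (MvPolynomial σ k)) (h : ∀ i, X i - rename e (g i) ∈ I) (p : MvPolynomial σ k) :
    p - rename e (aeval g p) ∈ I := by
  induction p using MvPolynomial.induction_on with
  | C a => simp
  | add p q hp hq =>
    rw [map_add, map_add, add_sub_add_comm]; exact add_mem hp hq
  | mul_X p i hp =>
    rw [map_mul, map_mul, aeval_X, show p * X i - rename e (aeval g p) * rename e (g i) =
      (p - rename e (aeval g p)) * X i + rename e (aeval g p) * (X i - rename e (g i)) by ring]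
    exact add_mem (I.mul_mem_right _ hp) (I.mul_mem_left _ (h i))

/-- Killing the first variable. -/
noncomputable def π (n : ℕ) : MvPolynomial (Fin (n + 1)) k →ₐ[k] MvPolynomial (Fin n) k :=
  aeval (Fin.cases 0 X)

theorem π_X_zero (n : ℕ) : π n (X 0 : MvPolynomial (Fin (n + 1)) k) = 0 := by simp [π]

theorem π_X_succ (n : ℕ) (i : Fin n) : π n (X i.succ : MvPolynomial (Fin (n + 1)) k) = X i := by
  simp [π]

theorem π_rename (n : ℕ) (p : MvPolynomial (Fin n) k) : π n (rename Fin.succ p) = p := by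
  rw [π, aeval_rename]
  exact aeval_X_left_apply p

theorem sub_rename_π_mem (n : ℕ) (p : MvPolynomial (Fin (n + 1)) k) :
    p - rename Fin.succ (π n p) ∈ Ideal.span {(X 0 : MvPolynomial (Fin (n + 1)) k)} := by
  refine sub_rename_mem _ Fin.succ _ (fun i => ?_) p
  refine Fin.cases ?_ (fun j => ?_) i
  · simpa using Ideal.subset_span rfl
  · simp

theorem comap_π_J (n h : ℕ) : (J k n h).comap (π n) = J k (n + 1) (h + 1) := by
  apply le_antisymm
  · intro p hp
    rw [← sub_add_cancel p (rename Fin.succ (π n p))]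
    refine add_mem (Ideal.span_mono ?_ (sub_rename_π_mem n p)) ?_
    · rintro _ rfl; exact ⟨0, by simp, rfl⟩
    · have h1 : rename Fin.succ (π n p) ∈ (J k n h).map (rename Fin.succ) := Ideal.mem_map_of_mem _ hp
      have h2 : (J k n h).map (rename Fin.succ : MvPolynomial (Fin n) k →ₐ[k] _) ≤
          J k (n + 1) (h + 1) := by
        rw [Ideal.map_span]
        refine Ideal.span_mono ?_
        rintro _ ⟨_, ⟨i, hi, rfl⟩, rfl⟩
        exact ⟨i.succ, Nat.succ_lt_succ hi, (rename_X _ _).symm⟩
      exact h2 h1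
  · rw [Ideal.span_le]
    rintro _ ⟨l, hl, rfl⟩
    show π n (X l) ∈ J k n h
    revert hl
    refine Fin.cases (fun _ => ?_) (fun j hj => ?_) l
    · rw [π_X_zero]; exact zero_mem _
    · rw [π_X_succ]; exact Ideal.subset_span ⟨j, Nat.lt_of_succ_lt_succ hj, rfl⟩

theorem J_zero (n : ℕ) : J k n 0 = ⊥ := by simp [J]

theorem J_mono (n : ℕ) {a b : ℕ} (h : a ≤ b) : J k n a ≤ J k n b :=
  Ideal.span_mono (Set.image_mono fun _ hl => Nat.lt_of_lt_of_le hl h)

theorem X_notMem_J (n : ℕ) {a : ℕ} (l : Fin n) (hl : a ≤ (l : ℕ)) : (X l : MvPolynomial (Fin n) k) ∉ J k n a := by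
  intro h
  rw [mem_ideal_span_X_image] at h
  obtain ⟨i, hi, hne⟩ := h (Finsupp.single l 1) (by simp [support_X])
  have : i = l := by
    by_contra hil
    simp [Finsupp.single_eq_of_ne hil] at hne
  subst this
  exact absurd hi (by simpa using hl)

/-- Kill the first `h` variables. -/
noncomputable def κ (n h : ℕ) :
    MvPolynomial (Fin n) k →ₐ[k] MvPolynomial {l : Fin n // ¬ (l : ℕ) < h} k :=
  aeval fun l => if hl : (l : ℕ) < h then 0 else X ⟨l, hl⟩

theorem κ_rename (n h : ℕ) (p : MvPolynomial {l : Fin n // ¬ (l : ℕ) < h} k) :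
    κ n h (rename Subtype.val p) = p := by
  rw [κ, aeval_rename]
  refine Eq.trans ?_ (aeval_X_left_apply p)
  congr 2
  funext l
  simp [l.2]

theorem ker_κ (n h : ℕ) : RingHom.ker (κ (k := k) n h).toRingHom = J k n h := by
  apply le_antisymm
  · intro p hp
    have := sub_rename_mem (k := k) (fun l : Fin n => if hl : (l : ℕ) < h then 0 else X ⟨l, hl⟩)
      Subtype.val (J k n h) (fun l => by
        by_cases hl : (l : ℕ) < h
        · simpa [hl] using Ideal.subset_span (Set.mem_image_of_mem MvPolynomial.X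
            (show l ∈ {l : Fin n | (l : ℕ) < h} from hl))
        · simp [hl]) p
    change p - rename Subtype.val (κ n h p) ∈ _ at this
    have hp' : κ n h p = 0 := hp
    rwa [hp', map_zero, sub_zero] at this
  · rw [Ideal.span_le]
    rintro _ ⟨l, hl, rfl⟩
    rw [SetLike.mem_coe, RingHom.mem_ker]
    simp [κ, show (l : ℕ) < h from hl]

theorem κ_surjective (n h : ℕ) : Function.Surjective (κ (k := k) n h).toRingHom :=
  fun p => ⟨rename Subtype.val p, κ_rename n h p⟩

/-- The quotient by the first `h` variables is a polynomial ring. -/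
noncomputable def quotEquiv (n h : ℕ) :
    (MvPolynomial (Fin n) k ⧸ J k n h) ≃+* MvPolynomial {l : Fin n // ¬ (l : ℕ) < h} k :=
  (Ideal.quotEquivOfEq (ker_κ n h).symm).trans
    (RingHom.quotientKerEquivOfSurjective (κ_surjective n h))

theorem isPrime_J (n h : ℕ) : (J k n h).IsPrime := by
  rw [← ker_κ]
  exact RingHom.ker_isPrime _

theorem isIntegrallyClosed_quot (n h : ℕ) :
    IsIntegrallyClosed (MvPolynomial (Fin n) k ⧸ J k n h) := by
  classical
  exact IsIntegrallyClosed.of_equiv (quotEquiv n h).symm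

theorem J_inj (n : ℕ) {a b : ℕ} (ha : a ≤ n) (hb : b ≤ n) (h : J k n a = J k n b) : a = b := by
  by_contra hne
  wlog hab : a < b generalizing a b
  · exact this hb ha h.symm (Ne.symm hne) (lt_of_le_of_ne (not_lt.1 hab) (Ne.symm hne))
  exact X_notMem_J n (a := a) ⟨a, hab.trans_le hb⟩ le_rfl
    (le_of_eq h.symm (Ideal.subset_span ⟨⟨a, hab.trans_le hb⟩, hab, rfl⟩))

theorem dim_mvPolynomial (n : ℕ) : ringKrullDim (MvPolynomial (Fin n) k) = n := by
  rw [MvPolynomial.ringKrullDim_of_isNoetherianRing, ringKrullDim_eq_zero_of_field]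
  simp

theorem dim_quot_comap {A B : Type u} [CommRing A] [CommRing B] (φ : A →+* B) (hφ : φ.Finite)
    (I : Ideal B) : ringKrullDim (A ⧸ I.comap φ) = ringKrullDim (B ⧸ I) := by
  refine (Groth.Agent.S12208.dim_eq_of_finite (Ideal.quotientMap I φ le_rfl)
    Ideal.quotientMap_injective ?_).symm
  refine RingHom.Finite.of_comp_finite (f := Ideal.Quotient.mk (I.comap φ)) ?_
  rw [Ideal.quotientMap_comp_mk]
  exact (RingHom.Finite.of_surjective _ Ideal.Quotient.mk_surjective).comp hφ

theorem injective_of_finite {A B : Type u} [CommRing A] [IsDomain A] [CommRing B] (φ : A →+* B)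
    (hφ : φ.Finite) (n : ℕ) (hA : ringKrullDim A = n) (hB : ringKrullDim B = n) :
    Function.Injective φ := by
  rw [RingHom.injective_iff_ker_eq_bot]
  by_contra hne
  obtain ⟨r, hr, hr0⟩ := Submodule.exists_mem_ne_zero_of_ne_bot hne
  have h1 : ringKrullDim (A ⧸ RingHom.ker φ) = ringKrullDim (B ⧸ (⊥ : Ideal B)) := by
    rw [RingHom.ker_eq_comap_bot]; exact dim_quot_comap φ hφ ⊥
  rw [ringKrullDim_eq_of_ringEquiv (RingEquiv.quotientBot B), hB] at h1
  have h2 := ringKrullDim_quotient_succ_le_of_nonZeroDivisor (mem_nonZeroDivisors_of_ne_zero hr0)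
  have h3 : ringKrullDim (A ⧸ RingHom.ker φ) ≤ ringKrullDim (A ⧸ Ideal.span {r}) :=
    ringKrullDim_le_of_surjective (Ideal.Quotient.factor ((Ideal.span_singleton_le_iff_mem _).2 hr))
      (Ideal.Quotient.factor_surjective _)
  have h4 := (add_le_add h3 le_rfl).trans h2
  rw [h1, hA] at h4
  norm_cast at h4
  omega

/-- A finite self map of the affine space sending the first variable to a given element of a proper
ideal. -/
theorem exists_finite_X_zero (n : ℕ) (f : MvPolynomial (Fin (n + 1)) k) (hf : 0 < f.totalDegree) :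
    ∃ φ : MvPolynomial (Fin (n + 1)) k →ₐ[k] MvPolynomial (Fin (n + 1)) k,
      φ.toRingHom.Finite ∧ φ (X 0) = f := by
  classical
  set N := f.totalDegree + 2
  let g : Fin (n + 1) → Polynomial (MvPolynomial (Fin (n + 1)) k) :=
    Fin.cases Polynomial.X fun i => Polynomial.X ^ N ^ ((i : ℕ) + 1) + Polynomial.C (X i.succ)
  let φ : MvPolynomial (Fin (n + 1)) k →ₐ[k] MvPolynomial (Fin (n + 1)) k :=
    aeval (Fin.cases f fun i => X i.succ - X 0 ^ N ^ ((i : ℕ) + 1))
  refine ⟨φ, ?_, by simp [φ]⟩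
  let Φ : MvPolynomial (Fin (n + 1)) k →ₐ[k] Polynomial (MvPolynomial (Fin (n + 1)) k) := aeval g
  let Mon : (Fin (n + 1) →₀ ℕ) → Polynomial (MvPolynomial (Fin (n + 1)) k) := fun v => ∏ i, g i ^ v i
  let D : (Fin (n + 1) →₀ ℕ) → ℕ := fun v => ∑ i : Fin (n + 1), v i * N ^ (i : ℕ)
  have hg : ∀ i, (g i).Monic ∧ (g i).natDegree = N ^ (i : ℕ) := by
    intro i
    refine Fin.cases ?_ (fun j => ?_) i
    · simp [g, Polynomial.monic_X]
    · simp only [g, Fin.cases_succ, Fin.val_succ]
      exact ⟨Polynomial.monic_X_pow_add_C _ (by positivity), Polynomial.natDegree_X_pow_add_C⟩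
  have hMon : ∀ v, (Mon v).Monic := fun v => Polynomial.monic_prod_of_monic _ _ fun i _ => (hg i).1.pow _
  have hdeg : ∀ v, (Mon v).natDegree = D v := fun v => by
    rw [Polynomial.natDegree_prod_of_monic _ _ fun i _ => (hg i).1.pow _]
    exact Finset.sum_congr rfl fun i _ => by rw [(hg i).1.natDegree_pow, (hg i).2]
  have hinj : Set.InjOn D f.support := by
    intro v hv w hw h
    have hlt : ∀ v ∈ f.support, ∀ i, v i < N := fun v hv i => by
      have := (monomial_le_degreeOf i hv).trans (degreeOf_le_totalDegree f i)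
      omega
    have : (fun i => (⟨v i, hlt v hv i⟩ : Fin N)) = fun i => ⟨w i, hlt w hw i⟩ := by
      apply finFunctionFinEquiv.injective
      apply Fin.ext
      rw [finFunctionFinEquiv_apply, finFunctionFinEquiv_apply]
      exact h
    ext i
    exact congrArg Fin.val (congr_fun this i)
  have hΦ : Φ f = ∑ v ∈ f.support, Polynomial.C (MvPolynomial.C (coeff v f)) * Mon v := by
    conv_lhs => rw [f.as_sum]
    rw [map_sum]
    refine Finset.sum_congr rfl fun v _ => ?_
    simp only [Φ, aeval_monomial, Mon]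
    rw [Finsupp.prod_fintype _ _ (fun i => pow_zero _)]
    rfl
  have hne : f.support.Nonempty := support_nonempty.2 fun h => by simp [h] at hf
  have hlead : IsUnit (Φ f).leadingCoeff := by
    rw [hΦ]
    exact Groth.Agent.S12208.isUnit_leadingCoeff_sum _ hne _
      (fun v hv => ((mem_support_iff.1 hv).isUnit).map MvPolynomial.C) _ hMon _ hdeg hinj
  have hpos : 0 < (Φ f).natDegree := by
    obtain ⟨v, hv, hv'⟩ := Finset.exists_mem_eq_sup f.support hne fun s : Fin (n + 1) →₀ ℕ =>
      s.sum fun _ e => e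
    have hvne : v ≠ 0 := by
      rintro rfl
      have hh : f.totalDegree = (0 : Fin (n + 1) →₀ ℕ).sum fun _ e => e := hv'
      rw [Finsupp.sum_zero_index] at hh
      omega
    obtain ⟨i, hi⟩ : ∃ i, v i ≠ 0 := by
      by_contra hall; push Not at hall; exact hvne (Finsupp.ext hall)
    have h1 : 0 < D v := by
      refine lt_of_lt_of_le ?_ (Finset.single_le_sum (f := fun i : Fin (n + 1) => v i * N ^ (i : ℕ))
        (fun _ _ => Nat.zero_le _) (Finset.mem_univ i))
      have : 0 < v i := Nat.pos_of_ne_zero hi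
      positivity
    obtain ⟨w, hw, hmax⟩ := f.support.exists_max_image D hne
    have hDw : (Φ f).coeff (D w) ≠ 0 := by
      rw [hΦ, Polynomial.finsetSum_coeff, Finset.sum_eq_single w]
      · rw [Polynomial.coeff_C_mul, ← hdeg w, (hMon w).coeff_natDegree, mul_one]
        simpa using mem_support_iff.1 hw
      · intro u hu hne'
        have : D u < D w := lt_of_le_of_ne (hmax u hu) fun h => hne' (hinj hu hw h)
        rw [Polynomial.coeff_C_mul, Polynomial.coeff_eq_zero_of_natDegree_lt (by rw [hdeg]; exact this),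
          mul_zero]
      · exact fun h => absurd hw h
    exact (h1.trans_le (hmax v hv)).trans_le (Polynomial.le_natDegree_of_ne_zero hDw)
  set G : Polynomial (MvPolynomial (Fin (n + 1)) k) := Φ f - Polynomial.C (X 0) with hG
  have hGlead : IsUnit G.leadingCoeff := by
    rw [hG, Polynomial.leadingCoeff_sub_of_degree_lt]
    · exact hlead
    · refine lt_of_le_of_lt Polynomial.degree_C_le ?_
      exact Polynomial.natDegree_pos_iff_degree_pos.1 hpos
  letI := φ.toRingHom.toAlgebra
  let x0 : MvPolynomial (Fin (n + 1)) k := X 0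
  have hev : ∀ p, Polynomial.eval₂ φ.toRingHom x0 (Φ p) = p := by
    intro p
    induction p using MvPolynomial.induction_on with
    | C a =>
      have hC : Φ (C a) = Polynomial.C (MvPolynomial.C a) := by simp [Φ]
      rw [hC, Polynomial.eval₂_C]
      exact φ.commutes a
    | add p q hp hq => rw [map_add, Polynomial.eval₂_add, hp, hq]
    | mul_X p i hp =>
      rw [map_mul, Polynomial.eval₂_mul, hp]
      congr 1
      simp only [Φ, aeval_X, g]
      refine Fin.cases ?_ (fun j => ?_) i
      · simp [x0]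
      · simp only [Fin.cases_succ, Polynomial.eval₂_add, Polynomial.eval₂_X_pow, Polynomial.eval₂_C]
        show x0 ^ N ^ ((j : ℕ) + 1) + φ (MvPolynomial.X (R := k) j.succ) = _
        simp [φ, x0]
  have hint0 : IsIntegral (MvPolynomial (Fin (n + 1)) k) x0 := by
    refine ⟨Polynomial.C (↑hGlead.unit⁻¹ : MvPolynomial (Fin (n + 1)) k) * G, ?_, ?_⟩
    · rw [Polynomial.Monic, Polynomial.leadingCoeff_mul, Polynomial.leadingCoeff_C]
      exact hGlead.val_inv_mul
    · show Polynomial.eval₂ φ.toRingHom x0 _ = 0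
      have hG0 : Polynomial.eval₂ φ.toRingHom x0 G = 0 := by
        rw [hG, Polynomial.eval₂_sub, hev, Polynomial.eval₂_C]
        show f - φ (X 0) = 0
        simp [φ]
      rw [Polynomial.eval₂_mul, hG0, mul_zero]
  have hint : φ.toRingHom.IsIntegral := by
    intro p
    show IsIntegral (MvPolynomial (Fin (n + 1)) k) p
    rw [← hev p]
    exact adjoin_le_integralClosure hint0 (Polynomial.aeval_mem_adjoin_singleton _ x0)
  refine hint.to_finite ?_
  refine RingHom.FiniteType.of_comp_finiteType (f := algebraMap k (MvPolynomial (Fin (n + 1)) k)) ?_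
  have : φ.toRingHom.comp (algebraMap k _) = algebraMap k (MvPolynomial (Fin (n + 1)) k) :=
    φ.comp_algebraMap
  rw [this]
  exact RingHom.finiteType_algebraMap.2 inferInstance

/-- Extend an endomorphism by a fixed first variable. -/
noncomputable def extend (n : ℕ) (ψ : MvPolynomial (Fin n) k →ₐ[k] MvPolynomial (Fin n) k) :
    MvPolynomial (Fin (n + 1)) k →ₐ[k] MvPolynomial (Fin (n + 1)) k :=
  aeval (Fin.cases (X 0) fun i => rename Fin.succ (ψ (X i)))

theorem extend_rename (n : ℕ) (ψ : MvPolynomial (Fin n) k →ₐ[k] MvPolynomial (Fin n) k)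
    (p : MvPolynomial (Fin n) k) : extend n ψ (rename Fin.succ p) = rename Fin.succ (ψ p) := by
  have : (extend n ψ).comp (rename Fin.succ) = (rename Fin.succ).comp ψ :=
    algHom_ext fun i => by simp [extend]
  exact DFunLike.congr_fun this p

theorem π_extend (n : ℕ) (ψ : MvPolynomial (Fin n) k →ₐ[k] MvPolynomial (Fin n) k)
    (p : MvPolynomial (Fin (n + 1)) k) : π n (extend n ψ p) = ψ (π n p) := by
  have : (π n).comp (extend n ψ) = ψ.comp (π n) := algHom_ext fun i => by
    refine Fin.cases ?_ (fun j => ?_) i <;> simp [extend, π_rename, π_X_zero, π_X_succ]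
  exact DFunLike.congr_fun this p

theorem extend_finite (n : ℕ) (ψ : MvPolynomial (Fin n) k →ₐ[k] MvPolynomial (Fin n) k)
    (hψ : ψ.toRingHom.Finite) : (extend n ψ).toRingHom.Finite := by
  letI := (extend n ψ).toRingHom.toAlgebra
  have hint : ∀ p, IsIntegral (MvPolynomial (Fin (n + 1)) k) (p : MvPolynomial (Fin (n + 1)) k) := by
    intro p
    induction p using MvPolynomial.induction_on with
    | C a =>
      have h : (C a : MvPolynomial (Fin (n + 1)) k) = algebraMap (MvPolynomial (Fin (n + 1)) k) _ (C a) :=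
        ((extend n ψ).commutes a).symm
      rw [h]; exact isIntegral_algebraMap
    | add p q hp hq => exact hp.add hq
    | mul_X p i hp =>
      refine hp.mul ?_
      refine Fin.cases ?_ (fun j => ?_) i
      · have h : (X 0 : MvPolynomial (Fin (n + 1)) k) = algebraMap (MvPolynomial (Fin (n + 1)) k) _ (X 0) := by
          show _ = extend n ψ (X 0)
          simp [extend]
        rw [h]; exact isIntegral_algebraMap
      · obtain ⟨P, hP, hP'⟩ := hψ.to_isIntegral (X j)
        refine ⟨P.map (rename Fin.succ : MvPolynomial (Fin n) k →ₐ[k] _).toRingHom, hP.map _, ?_⟩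
        rw [Polynomial.eval₂_map]
        have hc : (algebraMap (MvPolynomial (Fin (n + 1)) k) (MvPolynomial (Fin (n + 1)) k)).comp
            (rename Fin.succ : MvPolynomial (Fin n) k →ₐ[k] _).toRingHom =
            (rename Fin.succ : MvPolynomial (Fin n) k →ₐ[k] _).toRingHom.comp ψ.toRingHom :=
          RingHom.ext fun q => extend_rename n ψ q
        rw [hc, ← rename_X (R := k) Fin.succ j]
        exact (Polynomial.hom_eval₂ P ψ.toRingHom (rename Fin.succ : MvPolynomial (Fin n) k →ₐ[k] _).toRingHom (X j)).symm.trans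
          ((congrArg _ hP').trans (map_zero _))
  refine RingHom.IsIntegral.to_finite hint ?_
  refine RingHom.FiniteType.of_comp_finiteType (f := algebraMap k (MvPolynomial (Fin (n + 1)) k)) ?_
  have : (extend n ψ).toRingHom.comp (algebraMap k _) = algebraMap k (MvPolynomial (Fin (n + 1)) k) :=
    (extend n ψ).comp_algebraMap
  rw [this]
  exact RingHom.finiteType_algebraMap.2 inferInstance

/-- **Adapted normalization of affine space**: a chain of ideals is pulled back to coordinate
subspaces by a finite self map. -/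
theorem exists_adapted : ∀ (n : ℕ) {ι : Type} [Finite ι] (p : ι → Ideal (MvPolynomial (Fin n) k)),
    (∀ i, (p i).IsPrime) → (∀ i j, p i ≤ p j ∨ p j ≤ p i) → ∀ (h : ι → ℕ), (∀ i, h i ≤ n) →
    (∀ i, ringKrullDim (MvPolynomial (Fin n) k ⧸ p i) = ((n - h i : ℕ) : WithBot ℕ∞)) →
    ∃ φ : MvPolynomial (Fin n) k →ₐ[k] MvPolynomial (Fin n) k,
      φ.toRingHom.Finite ∧ Function.Injective φ ∧ ∀ i, (p i).comap φ = J k n (h i) := by
  intro n
  induction n with
  | zero =>
    intro ι _ p hp _ h hh _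
    refine ⟨AlgHom.id k _, RingHom.Finite.id _, fun _ _ e => e, fun i => ?_⟩
    rw [Nat.le_zero.1 (hh i), J_zero]
    refine (Submodule.eq_bot_iff _).2 fun x hx => ?_
    by_contra hne
    rw [eq_C_of_isEmpty x] at hne hx
    exact (hp i).ne_top (Ideal.eq_top_of_isUnit_mem _ hx
      ((isUnit_iff_ne_zero.2 fun e => hne (by rw [e, map_zero])).map C))
  | succ n ih =>
    intro ι _ p hp hchain h hh hdim
    have hzero : ∀ i, p i = ⊥ → h i = 0 := fun i hi => by
      have h1 := hdim i
      rw [hi, ringKrullDim_eq_of_ringEquiv (RingEquiv.quotientBot _), dim_mvPolynomial] at h1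
      norm_cast at h1
      have := hh i
      omega
    by_cases hall : ∀ i, p i = ⊥
    · refine ⟨AlgHom.id k _, RingHom.Finite.id _, fun _ _ e => e, fun i => ?_⟩
      rw [hzero i (hall i), J_zero, hall i]
      rfl
    push Not at hall
    obtain ⟨i₁, hi₁⟩ := hall
    have hfin : {I | ∃ i, p i = I ∧ p i ≠ ⊥}.Finite :=
      (Set.finite_range p).subset fun I hI => hI.elim fun i hi => ⟨i, hi.1⟩
    obtain ⟨m, hm⟩ := hfin.exists_minimal ⟨p i₁, i₁, rfl, hi₁⟩
    obtain ⟨⟨i₀, rfl, hi₀⟩, hmin⟩ := hm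
    have hle : ∀ i, p i ≠ ⊥ → p i₀ ≤ p i := fun i hi => by
      rcases hchain i₀ i with h1 | h1
      · exact h1
      · exact hmin ⟨i, rfl, hi⟩ h1
    obtain ⟨f, hf, hf0⟩ := Submodule.exists_mem_ne_zero_of_ne_bot hi₀
    have hdeg : 0 < f.totalDegree := by
      rw [Nat.pos_iff_ne_zero]
      intro h0
      rw [totalDegree_eq_zero_iff_eq_C.1 h0] at hf hf0
      exact (hp i₀).ne_top (Ideal.eq_top_of_isUnit_mem _ hf
        ((isUnit_iff_ne_zero.2 fun e => hf0 (by rw [e, map_zero])).map C))
    obtain ⟨φ₀, hφ₀, hφ₀X⟩ := exists_finite_X_zero n f hdeg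
    have hφ₀inj : Function.Injective φ₀ :=
      injective_of_finite φ₀.toRingHom hφ₀ (n + 1) (dim_mvPolynomial _) (dim_mvPolynomial _)
    let p' : ι → Ideal (MvPolynomial (Fin (n + 1)) k) := fun i => (p i).comap φ₀
    have hX : ∀ i, p i ≠ ⊥ → X 0 ∈ p' i := fun i hi => by
      show φ₀ (X 0) ∈ p i
      rw [hφ₀X]; exact hle i hi hf
    have hdim' : ∀ i, ringKrullDim (MvPolynomial (Fin (n + 1)) k ⧸ p' i) =
        ((n + 1 - h i : ℕ) : WithBot ℕ∞) := fun i =>
      (dim_quot_comap φ₀.toRingHom hφ₀ (p i)).trans (hdim i)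
    let q : {i // p i ≠ ⊥} → Ideal (MvPolynomial (Fin n) k) := fun i =>
      (p' i).comap (rename Fin.succ : MvPolynomial (Fin n) k →ₐ[k] _)
    have hp' : ∀ i : {i // p i ≠ ⊥}, p' i = (q i).comap (π n) := by
      intro i
      ext x
      show x ∈ p' i ↔ rename Fin.succ (π n x) ∈ p' i
      have h1 : x - rename Fin.succ (π n x) ∈ p' i :=
        (Ideal.span_singleton_le_iff_mem _).2 (hX i i.2) (sub_rename_π_mem n x)
      exact ⟨fun h2 => by simpa using (p' i).sub_mem h2 h1,
        fun h2 => by simpa using (p' i).add_mem h1 h2⟩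
    have hqdim : ∀ i : {i // p i ≠ ⊥}, ringKrullDim (MvPolynomial (Fin n) k ⧸ q i) =
        ((n + 1 - h i : ℕ) : WithBot ℕ∞) := by
      intro i
      have hs : Function.Surjective ((Ideal.Quotient.mk (q i)).comp (π n).toRingHom) :=
        Ideal.Quotient.mk_surjective.comp fun y => ⟨rename Fin.succ y, π_rename n y⟩
      rw [← hdim' i, ← ringKrullDim_eq_of_ringEquiv (RingHom.quotientKerEquivOfSurjective hs)]
      refine ringKrullDim_eq_of_ringEquiv (Ideal.quotEquivOfEq ?_)
      rw [← RingHom.comap_ker, Ideal.mk_ker, hp']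
      rfl
    have hpos : ∀ i : {i // p i ≠ ⊥}, 1 ≤ h i := by
      intro i
      by_contra hlt
      have h1 : h i = 0 := by omega
      have h2 := ringKrullDim_quotient_le (q i)
      rw [hqdim i, h1, dim_mvPolynomial] at h2
      norm_cast at h2
      omega
    obtain ⟨ψ, hψ, hψi, hψc⟩ := ih (fun i : {i // p i ≠ ⊥} => q i)
      (fun i => by
        have := hp i.1
        exact Ideal.comap_isPrime _ _)
      (fun i j => (hchain i j).imp
        (fun h => Ideal.comap_mono (Ideal.comap_mono h)) (fun h => Ideal.comap_mono (Ideal.comap_mono h)))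
      (fun i => h i - 1) (fun i => by have := hh i.1; omega)
      (fun i => by
        rw [hqdim i]
        have h1 := hh i.1; have h2 := hpos i
        rw [show n + 1 - h i = n - (h i - 1) by omega])
    have hE : (φ₀.comp (extend n ψ)).toRingHom.Finite := hφ₀.comp (extend_finite n ψ hψ)
    have hEinj : Function.Injective (φ₀.comp (extend n ψ)) :=
      injective_of_finite (φ₀.comp (extend n ψ)).toRingHom hE (n + 1) (dim_mvPolynomial _) (dim_mvPolynomial _)
    refine ⟨φ₀.comp (extend n ψ), hE, hEinj, fun i => ?_⟩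
    by_cases hi : p i = ⊥
    · rw [hzero i hi, J_zero, hi]
      exact (RingHom.injective_iff_ker_eq_bot _).1 hEinj
    · have h1 : (p i).comap (φ₀.comp (extend n ψ)) = ((q ⟨i, hi⟩).comap ψ).comap (π n) := by
        ext x
        show extend n ψ x ∈ p' i ↔ ψ (π n x) ∈ q ⟨i, hi⟩
        rw [hp' ⟨i, hi⟩, ← π_extend]
        rfl
      rw [h1, hψc ⟨i, hi⟩, comap_π_J]
      congr 1
      have := hpos ⟨i, hi⟩
      simp only at this ⊢
      omega

section Extend

variable {A : Type u} [CommRing A] [IsDomain A] {d : ℕ} (φ : MvPolynomial (Fin d) k →+* A)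
  (hint : φ.IsIntegral)

include hint

omit [IsDomain A] in
theorem eq_of_le_of_comap_eq {P Q : Ideal A} [P.IsPrime] (h : P ≤ Q) (he : P.comap φ = Q.comap φ) :
    P = Q := by
  let := φ.toAlgebra
  have : Algebra.IsIntegral (MvPolynomial (Fin d) k) A := ⟨hint⟩
  by_contra hne
  exact (Ideal.IsIntegral.comap_lt_comap (R := MvPolynomial (Fin d) k)
    (lt_of_le_of_ne h hne)).ne he

/-- One step down: between `P` over `J j` and `Q` over `J h` there is a prime over `J (j+1)`. -/
theorem exists_between (P Q : PrimeSpectrum A) (hPQ : P ≤ Q) {j h : ℕ}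
    (hP : P.asIdeal.comap φ = J k d j) (hQ : Q.asIdeal.comap φ = J k d h) (hjh : j + 1 ≤ h) :
    ∃ R : PrimeSpectrum A, P ≤ R ∧ R ≤ Q ∧ R.asIdeal.comap φ = J k d (j + 1) := by
  let R₀ := MvPolynomial (Fin d) k ⧸ J k d j
  let B := A ⧸ P.asIdeal
  have := isPrime_J (k := k) d j
  have := isPrime_J (k := k) d (j + 1)
  have := isIntegrallyClosed_quot (k := k) d j
  let qm : R₀ →+* B := Ideal.quotientMap P.asIdeal φ hP.ge
  let := qm.toAlgebra
  have hinj : Function.Injective qm := Ideal.quotientMap_injective' (h := hP.le)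
  have : FaithfulSMul R₀ B := (faithfulSMul_iff_algebraMap_injective _ _).2 hinj
  have : Algebra.IsIntegral R₀ B := ⟨by
    intro b
    obtain ⟨a, rfl⟩ := Ideal.Quotient.mk_surjective b
    obtain ⟨g, hg, hga⟩ := hint a
    refine ⟨g.map (Ideal.Quotient.mk _), hg.map _, ?_⟩
    rw [Polynomial.eval₂_map]
    have : (algebraMap R₀ B).comp (Ideal.Quotient.mk (J k d j)) =
        (Ideal.Quotient.mk P.asIdeal).comp φ := Ideal.quotientMap_comp_mk _
    rw [this, ← Polynomial.hom_eval₂, hga, map_zero]⟩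
  let p₁ : Ideal R₀ := (J k d (j + 1)).map (Ideal.Quotient.mk _)
  have hker : ∀ {I : Ideal (MvPolynomial (Fin d) k)}, J k d j ≤ I →
      (I.map (Ideal.Quotient.mk (J k d j))).comap (Ideal.Quotient.mk _) = I := fun hI => by
    rw [Ideal.comap_map_of_surjective _ Ideal.Quotient.mk_surjective, ← RingHom.ker_eq_comap_bot,
      Ideal.mk_ker, sup_eq_left.2 hI]
  have : p₁.IsPrime := Ideal.map_isPrime_of_surjective Ideal.Quotient.mk_surjective
    (by rw [Ideal.mk_ker]; exact J_mono d (Nat.le_succ j))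
  let Q₁ : Ideal B := Q.asIdeal.map (Ideal.Quotient.mk _)
  have : Q₁.IsPrime := Ideal.map_isPrime_of_surjective Ideal.Quotient.mk_surjective
    (by rw [Ideal.mk_ker]; exact hPQ)
  have hQ₁ : Q₁.comap (Ideal.Quotient.mk P.asIdeal) = Q.asIdeal := by
    rw [Ideal.comap_map_of_surjective _ Ideal.Quotient.mk_surjective, ← RingHom.ker_eq_comap_bot,
      Ideal.mk_ker, sup_eq_left.2 hPQ]
  have hle : p₁ ≤ Q₁.under R₀ := by
    rw [Ideal.map_le_iff_le_comap]
    intro x hx
    show qm (Ideal.Quotient.mk _ x) ∈ Q₁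
    rw [Ideal.quotientMap_mk]
    exact Ideal.mem_map_of_mem _ (show φ x ∈ Q.asIdeal from
      (SetLike.ext_iff.1 hQ x).2 (J_mono d hjh hx))
  have : Q₁.LiesOver (Q₁.under R₀) := Ideal.over_under ..
  obtain ⟨R, hR, hRp, hRo⟩ := Ideal.exists_ideal_le_liesOver_of_le (p := p₁) (q := Q₁.under R₀) Q₁ hle
  refine ⟨⟨R.comap (Ideal.Quotient.mk _), Ideal.comap_isPrime _ _⟩, ?_, ?_, ?_⟩
  · intro x hx
    show Ideal.Quotient.mk _ x ∈ R
    rw [Ideal.Quotient.eq_zero_iff_mem.2 hx]; exact zero_mem _
  · exact (Ideal.comap_mono hR).trans_eq hQ₁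
  · rw [← hker (J_mono d (Nat.le_succ j))]
    ext x
    show Ideal.Quotient.mk _ (φ x) ∈ R ↔ Ideal.Quotient.mk _ x ∈ p₁
    rw [hRo.over, Ideal.mem_comap, ← Ideal.quotientMap_mk (H := hP.ge)]
    rfl

/-- **Extension of chains**: a chain over coordinate subspaces extends to a full chain. -/
theorem exists_full_chain (hinj : Function.Injective φ) {r : ℕ} (q : Fin r → PrimeSpectrum A)
    (hq : StrictMono q) (h : Fin r → ℕ) (hh : ∀ i, h i ≤ d)
    (hcomap : ∀ i, (q i).asIdeal.comap φ = J k d (h i)) :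
    ∃ Q : ℕ → PrimeSpectrum A,
      (∀ j, j ≤ d → (Q j).asIdeal.comap φ = J k d j) ∧
      (∀ j, j < d → Q j < Q (j + 1)) ∧ (∀ i, Q (h i) = q i) := by
  classical
  have hmono : StrictMono h := by
    intro a b hab
    by_contra hle
    have h1 : (q b).asIdeal.comap φ ≤ (q a).asIdeal.comap φ := by
      rw [hcomap, hcomap]; exact J_mono d (not_lt.1 hle)
    have h2 := eq_of_le_of_comap_eq φ hint (P := (q a).asIdeal) (Q := (q b).asIdeal) (hq hab).le
      (le_antisymm (Ideal.comap_mono (hq hab).le) h1)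
    exact (hq hab).ne (PrimeSpectrum.ext h2)
  let Good : ℕ → PrimeSpectrum A → Prop := fun j P =>
    P.asIdeal.comap φ = J k d j ∧ ∀ i, j ≤ h i → P ≤ q i
  have base : Good 0 ⟨⊥, Ideal.isPrime_bot⟩ := by
    refine ⟨?_, fun i _ => show (⊥ : Ideal A) ≤ _ from bot_le⟩
    rw [J_zero]
    exact (RingHom.injective_iff_ker_eq_bot φ).1 hinj
  have step : ∀ j P, j < d → Good j P → ∃ R, P ≤ R ∧ Good (j + 1) R := by
    rintro j P - ⟨hPc, hPle⟩
    by_cases hS : ∃ i, j + 1 ≤ h i
    · let s := Finset.univ.filter fun i => j + 1 ≤ h i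
      have hs : s.Nonempty := by
        obtain ⟨i, hi⟩ := hS; exact ⟨i, Finset.mem_filter.2 ⟨Finset.mem_univ i, hi⟩⟩
      have hi₀ : j + 1 ≤ h (s.min' hs) := (Finset.mem_filter.1 (s.min'_mem hs)).2
      obtain ⟨R, h1, h2, h3⟩ := exists_between φ hint P (q (s.min' hs))
        (hPle _ ((Nat.le_succ j).trans hi₀)) hPc (hcomap _) hi₀
      exact ⟨R, h1, h3, fun i hi => h2.trans (hq.monotone (s.min'_le i (Finset.mem_filter.2 ⟨Finset.mem_univ i, hi⟩)))⟩
    · let := φ.toAlgebra
      have : Algebra.IsIntegral (MvPolynomial (Fin d) k) A := ⟨hint⟩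
      have := isPrime_J (k := k) d (j + 1)
      obtain ⟨R, hR, hRp, hRc⟩ := Ideal.exists_ideal_over_prime_of_isIntegral (J k d (j + 1)) P.asIdeal
        (le_of_eq_of_le hPc (J_mono d (Nat.le_succ j)))
      exact ⟨⟨R, hRp⟩, hR, hRc, fun i hi => absurd ⟨i, hi⟩ hS⟩
  choose! next hnext₁ hnext₂ using step
  let Q : ℕ → PrimeSpectrum A := fun j => Nat.rec ⟨⊥, Ideal.isPrime_bot⟩ (fun j P => next j P) j
  have hgood : ∀ j, j ≤ d → Good j (Q j) := by
    intro j
    induction j with
    | zero => exact fun _ => base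
    | succ j ihj => exact fun hj => hnext₂ j (Q j) hj (ihj (Nat.le_of_succ_le hj))
  refine ⟨Q, fun j hj => (hgood j hj).1, fun j hj => lt_of_le_of_ne (hnext₁ j (Q j) hj (hgood j hj.le)) ?_, fun i => ?_⟩
  · intro he
    have h1 := (hgood j hj.le).1.symm.trans ((congrArg (fun P : PrimeSpectrum A => P.asIdeal.comap φ) he).trans (hgood (j + 1) hj).1)
    have := J_inj (k := k) d hj.le hj h1
    omega
  · have : (Q (h i)).asIdeal.IsPrime := (Q (h i)).isPrime
    have h1 : (Q (h i)).asIdeal ≤ (q i).asIdeal := (hgood _ (hh i)).2 i le_rfl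
    have h2 : (Q (h i)).asIdeal.comap φ = (q i).asIdeal.comap φ :=
      (hgood _ (hh i)).1.trans (hcomap i).symm
    refine PrimeSpectrum.ext ?_
    exact @eq_of_le_of_comap_eq k _ A _ d φ hint (Q (h i)).asIdeal (q i).asIdeal (Q (h i)).isPrime h1 h2

end Extend

end Groth.Variety2.Adapted
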