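import Mathlib
import Groth.Prelude.Def_FixPt
import Groth.Agent.OmegaSheaf.Universal
import Groth.Agent.QCohMod.Affine
import Groth.Agent.BMCoh.Piece
import Groth.Agent.Variety2.CotangentScheme

/-!
The fibre of the sheaf of differentials at a closed point.
-/

set_option autoImplicit false

universe u

open CategoryTheory AlgebraicGeometry TensorProduct IsLocalRing TopologicalSpace

namespace Groth.Variety2.CotSmooth

variable {k : Type u} [Field k] {X Y : Scheme.{u}}

/-- The stalk of `Ω_{X/Y}` is the module of differentials of the local rings. -/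
theorem nonempty_stalk_equiv (f : X ⟶ Y) [QuasiSeparated f] (x : X) :
    letI := (f.stalkMap x).hom.toAlgebra
    Nonempty (Ω[X.presheaf.stalk x⁄Y.presheaf.stalk (f x)] ≃ₗ[X.presheaf.stalk x]
      (Omega.sheaf f).presheaf.stalk x) := by
  obtain ⟨c, hx, -⟩ := Groth.OmegaSheaf.exists_chart f (x := x) (W := ⊤) trivial
  let := (f.appLE c.V c.U c.e).hom.toAlgebra
  let A₀ := Γ(Y, c.V)
  let B₀ := Γ(X, c.U)
  let A := Y.presheaf.stalk (f x)
  let B := X.presheaf.stalk x
  let := TopCat.Presheaf.algebra_section_stalk Y.presheaf (⟨f x, c.e hx⟩ : c.V)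
  let := TopCat.Presheaf.algebra_section_stalk X.presheaf (⟨x, hx⟩ : c.U)
  let := (f.stalkMap x).hom.toAlgebra
  let : Algebra A₀ B := ((algebraMap B₀ B).comp (algebraMap A₀ B₀)).toAlgebra
  have : IsScalarTower A₀ B₀ B := IsScalarTower.of_algebraMap_eq' rfl
  have : IsScalarTower A₀ A B := IsScalarTower.of_algebraMap_eq' (by
    refine congrArg CommRingCat.Hom.hom ?_
    show f.appLE c.V c.U c.e ≫ X.presheaf.germ c.U x hx =
      Y.presheaf.germ c.V (f x) (c.e hx) ≫ f.stalkMap x
    simp [Scheme.Hom.appLE])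
  let P := (c.hU.primeIdealOf ⟨x, hx⟩).asIdeal
  have : IsLocalization.AtPrime B P := c.hU.isLocalization_stalk ⟨x, hx⟩
  have : IsLocalization.AtPrime A (c.hV.primeIdealOf ⟨f x, c.e hx⟩).asIdeal :=
    c.hV.isLocalization_stalk ⟨f x, c.e hx⟩
  have : Algebra.FormallyEtale A₀ A :=
    .of_isLocalization (c.hV.primeIdealOf ⟨f x, c.e hx⟩).asIdeal.primeCompl
  have hbij : Function.Bijective (KaehlerDifferential.map A₀ A B B) := by
    refine ⟨?_, KaehlerDifferential.map_surjective A₀ A B⟩
    refine (injective_iff_map_eq_zero _).2 fun z hz => ?_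
    obtain ⟨w, rfl⟩ := (KaehlerDifferential.exact_mapBaseChange_map A₀ A B z).1 hz
    rw [Subsingleton.elim w 0, map_zero]
  let := Groth.QCohMod.stalkModule (Omega.sheaf f) x hx
  have : IsScalarTower B₀ B ((Omega.sheaf f).presheaf.stalk x) := by
    refine ⟨fun r b m => ?_⟩
    show (algebraMap B₀ B r * b) • m = algebraMap B₀ B r • (b • m)
    exact mul_smul _ _ _
  have := Groth.QCohMod.isLocalizedModule_germ (Omega.sheaf f) c.hU x hx
  let g : Ω[B₀⁄A₀] →ₗ[B₀] (Omega.sheaf f).presheaf.stalk x :=
    Groth.QCohMod.germₗ (Omega.sheaf f) x hx ∘ₗ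
      (Groth.OmegaSheaf.chartEquiv f c.e c.hV c.hU).toLinearMap
  have : IsLocalizedModule P.primeCompl g :=
    IsLocalizedModule.of_linearEquiv_right _ _ _
  let e₀ := IsLocalizedModule.linearEquiv P.primeCompl (KaehlerDifferential.map A₀ A₀ B₀ B) g
  exact ⟨(LinearEquiv.ofBijective _ hbij).symm.trans
    (e₀.extendScalarsOfIsLocalization P.primeCompl B)⟩

section

variable [X.Over (Spec (CommRingCat.of k))] [IsAlgClosed k]
  [LocallyOfFiniteType (X ↘ Spec (CommRingCat.of k))]

attribute [local instance] FixPt.fiberModule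

/-- At a closed point the fibre of `Ω_{X/Y}` has dimension the relative rank. -/
theorem finrank_fiber_omega (f : X ⟶ Y) [QuasiSeparated f] {x : X} (hx : IsClosed ({x} : Set X)) :
    Module.finrank k (FixPt.fiber (Omega.sheaf f) x) = relRank f x := by
  let := Curv2.stalkAlgebra k X x
  let := (f.stalkMap x).hom.toAlgebra
  let B := X.presheaf.stalk x
  let Ω := Ω[B⁄Y.presheaf.stalk (f x)]
  obtain ⟨e⟩ := nonempty_stalk_equiv f x
  let N : Submodule B Ω := IsLocalRing.maximalIdeal B • ⊤
  let e₁ : (ResidueField B ⊗[B] Ω) ≃ₗ[B] FixPt.fiber (Omega.sheaf f) x :=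
    (TensorProduct.quotTensorEquivQuotSMul Ω (IsLocalRing.maximalIdeal B)).trans
      (Submodule.Quotient.equiv N _ e (by
        rw [Submodule.map_smul'', Submodule.map_top, LinearMap.range_eq_top.2 e.surjective]))
  let e₂ : (ResidueField B ⊗[B] Ω) ≃ₗ[k] FixPt.fiber (Omega.sheaf f) x :=
    { e₁.toAddEquiv with
      map_smul' := fun r t => by
        show e₁ (r • t) = Curv2.stalkMap k X x r • e₁ t
        rw [← algebraMap_smul B r t, map_smul]
        rfl }
  rw [← e₂.finrank_eq, ← Module.finrank_mul_finrank k (ResidueField B),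
    ← (LinearEquiv.ofBijective (Algebra.linearMap k (ResidueField B))
      (bijective_algebraMap_residue hx)).finrank_eq, Module.finrank_self, one_mul]
  rfl

end

/-- The Krull dimension of a Noetherian local `k`-algebra with residue field `k` is at most the
dimension of its cotangent space. -/
theorem ringKrullDim_le_cotangent (C : Type u) [CommRing C] [IsLocalRing C] [IsNoetherianRing C]
    [Algebra k C] (hC : Function.Bijective (algebraMap k (ResidueField C))) :
    ringKrullDim C ≤ (Module.finrank k (CotangentSpace C) : ℕ) := by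
  have : IsScalarTower k (ResidueField C) (CotangentSpace C) :=
    IsScalarTower.of_algebraMap_smul fun r v => by
      rw [IsScalarTower.algebraMap_apply k C (ResidueField C),
        algebraMap_smul (ResidueField C), algebraMap_smul C]
  rw [← Module.finrank_mul_finrank k (ResidueField C),
    ← (LinearEquiv.ofBijective (Algebra.linearMap k (ResidueField C)) hC).finrank_eq,
    Module.finrank_self, one_mul, ← IsLocalRing.spanFinrank_maximalIdeal_eq_finrank_cotangentSpace]
  exact ringKrullDim_le_spanFinrank_maximalIdeal C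

/-- If a surjection `B → C` of local `k`-algebras kills the maximal ideal of `A` then
`dim C ≤ dim Ω_{B/A} ⊗ k`. -/
theorem ringKrullDim_le_of_surjective (A B C : Type u) [CommRing A] [CommRing B] [CommRing C]
    [IsLocalRing A] [IsLocalRing B] [IsLocalRing C] [Algebra k A] [Algebra k B] [Algebra k C]
    [Algebra A B] [IsScalarTower k A B] [IsLocalHom (algebraMap A B)]
    [Algebra.EssFiniteType k A] [Algebra.EssFiniteType k B]
    (hA : Function.Bijective (algebraMap k (ResidueField A)))
    (hB : Function.Bijective (algebraMap k (ResidueField B)))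
    (φ : B →ₐ[k] C) (hφ : Function.Surjective φ)
    (hkill : ∀ a ∈ IsLocalRing.maximalIdeal A, φ (algebraMap A B a) = 0) :
    ringKrullDim C ≤
      (Module.finrank (ResidueField B) (ResidueField B ⊗[B] Ω[B⁄A]) : ℕ) := by
  have : IsNoetherianRing A := Algebra.EssFiniteType.isNoetherianRing k A
  have : IsNoetherianRing B := Algebra.EssFiniteType.isNoetherianRing k B
  have : IsNoetherianRing C := isNoetherianRing_of_surjective B C φ.toRingHom hφ
  have : IsLocalHom φ.toRingHom := Function.Surjective.isLocalHom φ.toRingHom hφ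
  have hC : Function.Bijective (algebraMap k (ResidueField C)) := by
    refine ⟨(algebraMap k (ResidueField C)).injective, fun c => ?_⟩
    obtain ⟨c, rfl⟩ := IsLocalRing.residue_surjective c
    obtain ⟨b, rfl⟩ := hφ c
    obtain ⟨r, hr⟩ := hB.2 (residue B b)
    refine ⟨r, ?_⟩
    have hm : b - algebraMap k B r ∈ IsLocalRing.maximalIdeal B := by
      rw [← residue_eq_zero_iff, map_sub, sub_eq_zero]; exact hr.symm
    have hm' : residue C (φ (b - algebraMap k B r)) = 0 :=
      (residue_eq_zero_iff _).2 (map_nonunit φ.toRingHom _ hm)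
    rw [map_sub, φ.commutes, map_sub, sub_eq_zero] at hm'
    exact hm'.symm
  refine (ringKrullDim_le_cotangent (k := k) C hC).trans ?_
  refine Nat.cast_le.2 ?_
  have := Groth.Variety2.CotAlg.finite_cotangentSpace k hB
  have h : Module.finrank (ResidueField B) (ResidueField B ⊗[B] Ω[B⁄A]) + _ = _ :=
    Groth.Agent.S14437.result k A B (Groth.Variety2.CotAlg.le_comap_maximalIdeal k A B) hA hB
  have hle : IsLocalRing.maximalIdeal B ≤ (IsLocalRing.maximalIdeal C).comap φ :=
    fun b hb => map_nonunit φ.toRingHom _ hb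
  let g := Ideal.mapCotangent (IsLocalRing.maximalIdeal B) (IsLocalRing.maximalIdeal C) φ hle
  have hg : Function.Surjective g := by
    intro w
    obtain ⟨⟨c, hc⟩, rfl⟩ := Ideal.toCotangent_surjective _ w
    obtain ⟨b, rfl⟩ := hφ c
    have hb : b ∈ IsLocalRing.maximalIdeal B := fun hu => hc (hu.map φ.toRingHom)
    exact ⟨(IsLocalRing.maximalIdeal B).toCotangent ⟨b, hb⟩, Ideal.mapCotangent_toCotangent ..⟩
  have hker : LinearMap.range (Ideal.mapCotangent (IsLocalRing.maximalIdeal A)
      (IsLocalRing.maximalIdeal B) (IsScalarTower.toAlgHom k A B)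
      (Groth.Variety2.CotAlg.le_comap_maximalIdeal k A B)) ≤ LinearMap.ker g := by
    rintro _ ⟨v, rfl⟩
    obtain ⟨⟨a, ha⟩, rfl⟩ := Ideal.toCotangent_surjective _ v
    rw [LinearMap.mem_ker, Ideal.mapCotangent_toCotangent, Ideal.mapCotangent_toCotangent,
      Ideal.toCotangent_eq_zero]
    show φ (algebraMap A B a) ∈ _
    rw [hkill a ha]
    exact zero_mem _
  have h1 := LinearMap.finrank_range_add_finrank_ker g
  rw [LinearMap.range_eq_top.2 hg, finrank_top] at h1
  have h2 := Submodule.finrank_mono hker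
  change Module.finrank k (IsLocalRing.maximalIdeal C).Cotangent ≤ _
  change _ = Module.finrank k (CotangentSpace B) at h1
  omega

variable [X.Over (Spec (CommRingCat.of k))] [Y.Over (Spec (CommRingCat.of k))] [IsAlgClosed k]

/-- The relative rank at a closed point bounds the dimension of the fibre there. -/
theorem le_relRank (f : X ⟶ Y)
    (hf : f ≫ (Y ↘ Spec (CommRingCat.of k)) = X ↘ Spec (CommRingCat.of k))
    [LocallyOfFiniteType (X ↘ Spec (CommRingCat.of k))]
    [LocallyOfFiniteType (Y ↘ Spec (CommRingCat.of k))]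
    {x : X} (hx : IsClosed ({x} : Set X)) (Z : Set X) (hZ : IsIrreducible Z) (hZc : IsClosed Z)
    (hxZ : x ∈ Z) (hZf : Z ⊆ f.base ⁻¹' {f.base x}) (r : ℕ)
    (hr : topologicalKrullDim ↥Z = (r : WithBot ℕ∞)) :
    r ≤ relRank f x := by
  have hy : IsClosed ({f x} : Set Y) := Groth.Variety2.Dim.isClosed_image_singleton
    (X ↘ Spec (CommRingCat.of k)) (Y ↘ Spec (CommRingCat.of k)) f hf hx
  let T : Closeds X := ⟨Z, hZc⟩
  let I := Scheme.IdealSheafData.vanishingIdeal T
  have hI : (I.support : Set X) = Z := (Scheme.IdealSheafData.coe_support_vanishingIdeal _).trans rfl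
  have : IsReduced I.subscheme := Groth.BMCohLib.isReduced_vanishingIdeal T
  have hrange : Set.range I.subschemeι = Z := by rw [Scheme.IdealSheafData.range_subschemeι, hI]
  have : IrreducibleSpace I.subscheme := by
    have h : IsIrreducible (Set.range I.subschemeι) := hrange.symm ▸ hZ
    rw [isIrreducible_iff_irreducibleSpace] at h
    exact I.subschemeι.isEmbedding.toHomeomorph.irreducibleSpace_iff.2 h
  obtain ⟨z, rfl⟩ : x ∈ Set.range I.subschemeι := hrange ▸ hxZ
  let qZ := I.subschemeι ≫ (X ↘ Spec (CommRingCat.of k))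
  let : I.subscheme.Over (Spec (CommRingCat.of k)) := ⟨qZ⟩
  have hzc : IsClosed ({z} : Set I.subscheme) := by
    have h1 := hx.preimage I.subschemeι.continuous
    rwa [show I.subschemeι ⁻¹' {I.subschemeι z} = {z} from
      Set.ext fun w => I.subschemeι.isEmbedding.injective.eq_iff] at h1
  have hd : ringKrullDim (I.subscheme.presheaf.stalk z) = (r : WithBot ℕ∞) := by
    have h2 := Groth.Variety2.Dim.ringKrullDim_stalk_add_height qZ z
    rw [(Groth.Variety2.Dim.height_eq_zero_iff z).2 hzc] at h2
    have h3 : topologicalKrullDim I.subscheme = (r : WithBot ℕ∞) := by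
      rw [← hr]
      exact (I.subschemeι.isEmbedding.toHomeomorph.trans
        (Homeomorph.setCongr hrange)).isHomeomorph.topologicalKrullDim_eq _
    rw [← h3]
    simpa using h2
  let := Curv2.stalkAlgebra k X (I.subschemeι z)
  let := Curv2.stalkAlgebra k Y (f (I.subschemeι z))
  let := Curv2.stalkAlgebra k I.subscheme z
  let := (f.stalkMap (I.subschemeι z)).hom.toAlgebra
  have : IsScalarTower k (Y.presheaf.stalk (f (I.subschemeι z)))
      (X.presheaf.stalk (I.subschemeι z)) :=
    IsScalarTower.of_algebraMap_eq' (stalkMap_comp f hf _).symm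
  have : IsLocalHom (algebraMap (Y.presheaf.stalk (f (I.subschemeι z)))
      (X.presheaf.stalk (I.subschemeι z))) :=
    inferInstanceAs (IsLocalHom (f.stalkMap (I.subschemeι z)).hom)
  have := essFiniteType_stalk (k := k) (I.subschemeι z)
  have := essFiniteType_stalk (k := k) (f (I.subschemeι z))
  let φ : X.presheaf.stalk (I.subschemeι z) →ₐ[k] I.subscheme.presheaf.stalk z :=
    { (I.subschemeι.stalkMap z).hom with
      commutes' := fun c => RingHom.congr_fun (stalkMap_comp (k := k) I.subschemeι rfl z) c }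
  have hkill : ∀ a ∈ IsLocalRing.maximalIdeal (Y.presheaf.stalk (f (I.subschemeι z))),
      φ (algebraMap _ _ a) = 0 := by
    intro a ha
    obtain ⟨V, hyV, s, rfl⟩ := Y.presheaf.exists_germ_eq a
    show I.subschemeι.stalkMap z (f.stalkMap (I.subschemeι z) (Y.presheaf.germ V _ hyV s)) = 0
    rw [Scheme.Hom.germ_stalkMap_apply, Scheme.Hom.germ_stalkMap_apply]
    have h0 : I.subschemeι.app (f ⁻¹ᵁ V) (f.app V s) = 0 := by
      refine eq_zero_of_basicOpen_eq_bot _ (eq_bot_iff.2 fun w hw => ?_)
      rw [← Scheme.preimage_basicOpen, ← Scheme.preimage_basicOpen] at hw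
      have hw' : f (I.subschemeι w) = f (I.subschemeι z) :=
        hZf (hrange ▸ Set.mem_range_self w)
      have hwy : f (I.subschemeι z) ∈ Y.basicOpen s := hw' ▸ hw
      rw [Scheme.mem_basicOpen Y s _ hyV] at hwy
      exact (ha hwy).elim
    rw [h0, map_zero]
  have h := ringKrullDim_le_of_surjective (k := k) (Y.presheaf.stalk (f (I.subschemeι z)))
    (X.presheaf.stalk (I.subschemeι z)) (I.subscheme.presheaf.stalk z)
    (bijective_algebraMap_residue hy) (bijective_algebraMap_residue hx) φ
    (I.subschemeι.stalkMap_surjective z) hkill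
  rw [hd] at h
  exact_mod_cast h

end Groth.Variety2.CotSmooth
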