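import Mathlib.RingTheory.Ideal.KrullsHeightTheorem
import Mathlib.RingTheory.Jacobson.Ring
import Mathlib.FieldTheory.IsAlgClosed.Basic
import Mathlib.RingTheory.Adjoin.FG
import Mathlib.RingTheory.FiniteType
import Mathlib.LinearAlgebra.Dimension.Finrank

/-!
# Hopf's lemma on nondegenerate bilinear maps over an algebraically closed field
-/

set_option autoImplicit false
universe u v w z

open MvPolynomial

namespace Groth.Variety2.Hopf

variable {k : Type u} [Field k] (a b : ℕ)

/-- The coordinate `x_i y_j` of a rank one matrix. -/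
noncomputable def mon (i : Fin (a + 1)) (j : Fin (b + 1)) :
    MvPolynomial (Fin (a + 1) ⊕ Fin (b + 1)) k :=
  X (Sum.inl i) * X (Sum.inr j)

variable (k) in
/-- The coordinate ring of the cone of rank one matrices. -/
noncomputable def Seg : Subalgebra k (MvPolynomial (Fin (a + 1) ⊕ Fin (b + 1)) k) :=
  Algebra.adjoin k (Set.range fun p : Fin (a + 1) × Fin (b + 1) => mon a b p.1 p.2)

variable (k) in
noncomputable def z (i : Fin (a + 1)) (j : Fin (b + 1)) : Seg k a b :=
  ⟨mon a b i j, Algebra.subset_adjoin ⟨(i, j), rfl⟩⟩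

instance : Algebra.FiniteType k (Seg k a b) :=
  (Subalgebra.fg_iff_finiteType _).1
    (Subalgebra.fg_def.2 ⟨_, Set.finite_range _, rfl⟩)

instance : IsNoetherianRing (Seg k a b) := Algebra.FiniteType.isNoetherianRing k _

theorem algHom_ext {A : Type*} [CommSemiring A] [Algebra k A] {φ ψ : Seg k a b →ₐ[k] A}
    (h : ∀ i j, φ (z k a b i j) = ψ (z k a b i j)) : φ = ψ := by
  refine AlgHom.ext_of_adjoin_eq_top (s := Set.range fun p : Fin (a + 1) × Fin (b + 1) => z k a b p.1 p.2) ?_ ?_
  · refine Subalgebra.map_injective (f := (Seg k a b).val) Subtype.val_injective ?_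
    rw [Algebra.map_top, Subalgebra.range_val, AlgHom.map_adjoin, ← Set.range_comp]
    rfl
  · rintro _ ⟨p, rfl⟩
    exact h _ _

/-- Position of a variable in the chain. -/
def pos : Fin (a + 1) ⊕ Fin (b + 1) → ℕ :=
  Sum.elim (fun i => if i = Fin.last a then a + b else i.1)
    (fun j => if j = Fin.last b then a + b else a + j.1)

/-- Kill the variables before `n`. -/
noncomputable def kill (n : ℕ) :
    Seg k a b →ₐ[k] MvPolynomial (Fin (a + 1) ⊕ Fin (b + 1)) k :=
  (aeval fun v => if pos a b v < n then 0 else X v).comp (Seg k a b).val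

theorem kill_z (n : ℕ) (i : Fin (a + 1)) (j : Fin (b + 1)) :
    kill (k := k) a b n (z k a b i j) =
      (if pos a b (.inl i) < n then 0 else X (Sum.inl i)) *
        (if pos a b (.inr j) < n then 0 else X (Sum.inr j)) := by
  simp [kill, z, mon]

theorem kill_mono (n : ℕ) : RingHom.ker (kill (k := k) a b n) ≤ RingHom.ker (kill (k := k) a b (n + 1)) := by
  intro r hr
  rw [RingHom.mem_ker] at hr ⊢
  have h : (aeval fun v => if pos a b v < n + 1 then (0 : MvPolynomial (Fin (a + 1) ⊕ Fin (b + 1)) k) else X v).comp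
      (kill (k := k) a b n) = kill (k := k) a b (n + 1) := by
    refine algHom_ext a b fun i j => ?_
    rw [AlgHom.comp_apply, kill_z, kill_z, map_mul]
    congr 1 <;> split_ifs <;> simp_all <;> omega
  rw [← h, AlgHom.comp_apply, hr, map_zero]

theorem exists_witness {n : ℕ} (hn : n ≤ a + b) :
    ∃ i j, n ≤ pos a b (.inl i) ∧ n ≤ pos a b (.inr j) ∧
      (pos a b (.inl i) < n + 1 ∨ pos a b (.inr j) < n + 1) := by
  rcases lt_or_ge n a with h | h
  · refine ⟨⟨n, by omega⟩, Fin.last b, ?_⟩
    have : (⟨n, by omega⟩ : Fin (a + 1)) ≠ Fin.last a := fun e => by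
      simp [Fin.ext_iff] at e; omega
    simp [pos, this]
    omega
  rcases eq_or_lt_of_le hn with rfl | h'
  · exact ⟨Fin.last a, Fin.last b, by simp [pos]⟩
  · refine ⟨Fin.last a, ⟨n - a, by omega⟩, ?_⟩
    have : (⟨n - a, by omega⟩ : Fin (b + 1)) ≠ Fin.last b := fun e => by
      simp [Fin.ext_iff] at e; omega
    simp [pos, this]
    omega

theorem natCast_le_height (n : ℕ) (hn : n ≤ a + b + 1) :
    (n : ℕ∞) ≤ (RingHom.ker (kill (k := k) a b n)).height := by
  induction n with
  | zero => simp
  | succ n ih =>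
    haveI := RingHom.ker_isPrime (kill (k := k) a b n)
    haveI := RingHom.ker_isPrime (kill (k := k) a b (n + 1))
    have hlt : RingHom.ker (kill (k := k) a b n) < RingHom.ker (kill (k := k) a b (n + 1)) := by
      refine lt_of_le_of_ne (kill_mono a b n) fun e => ?_
      obtain ⟨i, j, hi, hj, hij⟩ := exists_witness a b (show n ≤ a + b by omega)
      have h1 : z k a b i j ∈ RingHom.ker (kill (k := k) a b (n + 1)) := by
        rw [RingHom.mem_ker, kill_z]
        rcases hij with h | h <;> simp [h]
      rw [← e, RingHom.mem_ker, kill_z, if_neg (not_lt.2 hi), if_neg (not_lt.2 hj)] at h1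
      simp at h1
    calc ((n + 1 : ℕ) : ℕ∞) = (n : ℕ∞) + 1 := by push_cast; rfl
      _ ≤ (RingHom.ker (kill (k := k) a b n)).height + 1 := by gcongr; exact ih (by omega)
      _ ≤ _ := Ideal.height_add_one_le_of_lt_of_isPrime hlt

theorem kill_top_apply (i : Fin (a + 1)) (j : Fin (b + 1)) :
    kill (k := k) a b (a + b + 1) (z k a b i j) = 0 := by
  rw [kill_z]
  have : pos a b (.inl i) < a + b + 1 := by simp only [pos, Sum.elim_inl]; split_ifs <;> omega
  simp [this]

variable {a b}

/-- Linear forms without a common zero of rank one are at least `a + b + 1` in number. -/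
theorem le_card [IsAlgClosed k] {ι : Type z} [Fintype ι] (C : ι → Fin (a + 1) → Fin (b + 1) → k)
    (hC : ∀ (x : Fin (a + 1) → k) (y : Fin (b + 1) → k),
      (∀ l, ∑ i, ∑ j, C l i j * (x i * y j) = 0) → x = 0 ∨ y = 0) :
    a + b + 1 ≤ Fintype.card ι := by
  classical
  let f : ι → Seg k a b := fun l => ∑ i, ∑ j, C l i j • z k a b i j
  let I := Ideal.span (Set.range f)
  set 𝔪 := RingHom.ker (kill (k := k) a b (a + b + 1)) with h𝔪
  have hI : I ≤ 𝔪 := by
    rw [Ideal.span_le]
    rintro _ ⟨l, rfl⟩
    rw [SetLike.mem_coe, RingHom.mem_ker]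
    simp [f, map_sum, map_smul, kill_top_apply]
  have hmax : ∀ M : Ideal (Seg k a b), M.IsMaximal → I ≤ M → 𝔪 ≤ M := by
    intro M hM hIM
    letI := Ideal.Quotient.field M
    haveI : Module.Finite k (Seg k a b ⧸ M) := finite_of_finite_type_of_isJacobsonRing k _
    have hbij := IsAlgClosed.algebraMap_bijective_of_isIntegral (k := k) (K := Seg k a b ⧸ M)
    let e : k ≃ₐ[k] Seg k a b ⧸ M := AlgEquiv.ofBijective (Algebra.ofId k _) hbij
    let χ : Seg k a b →ₐ[k] k := e.symm.toAlgHom.comp (Ideal.Quotient.mkₐ k M)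
    let w : Fin (a + 1) → Fin (b + 1) → k := fun i j => χ (z k a b i j)
    have hrel : ∀ i j p q, w i j * w p q = w i q * w p j := fun i j p q => by
      simp only [w, ← map_mul]
      congr 1
      exact Subtype.ext (by simp only [z, mon, Subalgebra.coe_mul]; ring)
    have hw : ∀ i j, w i j = 0 := by
      intro p q
      by_contra hpq
      have hz : ∀ l, ∑ i, ∑ j, C l i j * (w i q * (w p j / w p q)) = 0 := fun l => by
        have hl : χ (f l) = 0 := by
          have : Ideal.Quotient.mkₐ k M (f l) = 0 :=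
            Ideal.Quotient.eq_zero_iff_mem.2 (hIM (Ideal.subset_span ⟨l, rfl⟩))
          simp only [χ, AlgHom.comp_apply, this, map_zero]
        rw [← hl]
        simp only [f, map_sum, map_smul, smul_eq_mul]
        refine Finset.sum_congr rfl fun i _ => Finset.sum_congr rfl fun j _ => ?_
        congr 1
        rw [mul_div_assoc', div_eq_iff hpq]
        exact (hrel i j p q).symm
      rcases hC (fun i => w i q) (fun j => w p j / w p q) hz with h | h
      · exact hpq (congrFun h p)
      · simpa [hpq] using congrFun h q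
    intro r hr
    have hk : (Algebra.ofId k (MvPolynomial (Fin (a + 1) ⊕ Fin (b + 1)) k)).comp χ =
        kill (k := k) a b (a + b + 1) :=
      algHom_ext a b fun i j => by
        rw [kill_top_apply, AlgHom.comp_apply, show χ (z k a b i j) = 0 from hw i j, map_zero]
    rw [h𝔪, RingHom.mem_ker, ← hk, AlgHom.comp_apply, Algebra.ofId_apply] at hr
    have h0 : χ r = 0 := FaithfulSMul.algebraMap_injective k _ (hr.trans (map_zero _).symm)
    exact Ideal.Quotient.eq_zero_iff_mem.1 (e.symm.injective (h0.trans (map_zero _).symm))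
  haveI : IsJacobsonRing (Seg k a b) := isJacobsonRing_of_finiteType (A := k)
  have hmin : 𝔪 ∈ I.minimalPrimes := by
    haveI := RingHom.ker_isPrime (kill (k := k) a b (a + b + 1))
    refine ⟨⟨inferInstance, hI⟩, fun q hq hqm => ?_⟩
    obtain ⟨hqp, hqI⟩ := hq
    rw [← IsJacobsonRing.out inferInstance hqp.isRadical]
    exact le_sInf fun M ⟨hqM, hM⟩ => hmax M hM (hqI.trans hqM)
  have h := (natCast_le_height a b (a + b + 1) le_rfl).trans
    (Ideal.height_le_card_of_mem_minimalPrimes_span (Set.finite_range f) hmin)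
  have hcard : (Set.range f).ncard ≤ Fintype.card ι := by
    rw [← Nat.card_coe_set_eq, ← Nat.card_eq_fintype_card]
    exact Finite.card_range_le f
  exact (ENat.natCast_le_natCast.1 h).trans hcard

/-- Hopf: a nondegenerate bilinear map over an algebraically closed field has a large target. -/
theorem finrank_add_le [IsAlgClosed k] {V : Type v} {W : Type w} {U : Type z} [AddCommGroup V] [Module k V]
    [Module.Finite k V] [AddCommGroup W] [Module k W] [Module.Finite k W] [AddCommGroup U] [Module k U]
    [Module.Finite k U] [Nontrivial V] [Nontrivial W] (B : V →ₗ[k] W →ₗ[k] U)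
    (hB : ∀ v w, B v w = 0 → v = 0 ∨ w = 0) :
    Module.finrank k V + Module.finrank k W ≤ Module.finrank k U + 1 := by
  obtain ⟨a, ha⟩ : ∃ a, Module.finrank k V = a + 1 := ⟨_, (Nat.succ_pred_eq_of_pos Module.finrank_pos).symm⟩
  obtain ⟨b, hb⟩ : ∃ b, Module.finrank k W = b + 1 := ⟨_, (Nat.succ_pred_eq_of_pos Module.finrank_pos).symm⟩
  let eV := Module.finBasisOfFinrankEq k V ha
  let eW := Module.finBasisOfFinrankEq k W hb
  let eU := Module.finBasis k U
  have h := le_card (fun l i j => eU.repr (B (eV i) (eW j)) l) (fun x y hxy => by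
    have h0 : B (eV.equivFun.symm x) (eW.equivFun.symm y) = 0 := by
      refine eU.repr.injective (Finsupp.ext fun l => ?_)
      rw [map_zero, Finsupp.zero_apply, ← hxy l, Module.Basis.equivFun_symm_apply,
        Module.Basis.equivFun_symm_apply]
      simp only [map_sum, map_smul, LinearMap.sum_apply, LinearMap.smul_apply, Finsupp.coe_finsetSum,
        Finset.sum_apply, Finsupp.smul_apply, smul_eq_mul, Finset.mul_sum]
      rw [Finset.sum_comm]
      refine Finset.sum_congr rfl fun i _ => Finset.sum_congr rfl fun j _ => ?_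
      ring
    exact (hB _ _ h0).imp (fun h => eV.equivFun.symm.map_eq_zero_iff.1 h)
      fun h => eW.equivFun.symm.map_eq_zero_iff.1 h)
  rw [Fintype.card_fin] at h
  omega

end Groth.Variety2.Hopf
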