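import Mathlib
import Groth.Agent.Variety2.DimFiber

/-!
Countably many proper closed subsets over an uncountable field.
-/

universe u

open CategoryTheory AlgebraicGeometry TopologicalSpace

namespace Groth.Variety2.Uncountable

variable {k : Type u} [Field k] [Uncountable k]

theorem exists_forall_eval_ne_zero {ι : Type*} [Countable ι] (s : ℕ)
    (f : ι → MvPolynomial (Fin s) k) (hf : ∀ i, f i ≠ 0) :
    ∃ a : Fin s → k, ∀ i, MvPolynomial.eval a (f i) ≠ 0 := by
  induction s with
  | zero =>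
    refine ⟨Fin.elim0, fun i h => hf i ?_⟩
    obtain ⟨c, hc⟩ := MvPolynomial.C_surjective (Fin 0) (f i)
    rw [← hc, MvPolynomial.eval_C] at h
    rw [← hc, h, map_zero]
  | succ s ih =>
    let g := fun i => MvPolynomial.finSuccEquiv k s (f i)
    have hg : ∀ i, g i ≠ 0 := fun i => (map_ne_zero_iff _ (AlgEquiv.injective _)).2 (hf i)
    obtain ⟨a, ha⟩ := ih (fun i => (g i).leadingCoeff) fun i => Polynomial.leadingCoeff_ne_zero.2 (hg i)
    let p := fun i => (g i).map (MvPolynomial.eval a)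
    have hp : ∀ i, p i ≠ 0 := fun i h => ha i (by
      have := congrArg (fun q => Polynomial.coeff q (g i).natDegree) h
      simp only [p, Polynomial.coeff_map, Polynomial.coeff_zero] at this
      exact this)
    have hc : (⋃ i, {c : k | (p i).IsRoot c}).Countable :=
      Set.countable_iUnion fun i => (Polynomial.finite_setOfPred_isRoot (hp i)).countable
    obtain ⟨c, hc⟩ : ∃ c, c ∉ ⋃ i, {c : k | (p i).IsRoot c} := by
      by_contra h
      push Not at h
      exact Set.not_countable_univ (α := k) ((Set.eq_univ_of_forall h) ▸ hc)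
    refine ⟨Fin.cons c a, fun i h => hc (Set.mem_iUnion.2 ⟨i, ?_⟩)⟩
    rw [MvPolynomial.eval_eq_eval_mv_eval'] at h
    exact h

/-- A maximal ideal avoiding countably many non-nilpotent elements. -/
theorem exists_isMaximal_notMem {A : Type u} [CommRing A] [Algebra k A] [Algebra.FiniteType k A]
    (hA : (nilradical A).IsPrime) {ι : Type*} [Countable ι] (I : ι → Ideal A)
    (hI : ∀ i, ¬ I i ≤ nilradical A) : ∃ m : Ideal A, m.IsMaximal ∧ ∀ i, ¬ I i ≤ m := by
  let N := nilradical A
  have : IsDomain (A ⧸ N) := Ideal.Quotient.isDomain N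
  have : Algebra.FiniteType k (A ⧸ N) :=
    Algebra.FiniteType.of_surjective (Ideal.Quotient.mkₐ k N) Ideal.Quotient.mk_surjective
  obtain ⟨s, g, hinj, hfin⟩ := exists_finite_inj_algHom_of_fg k (A ⧸ N)
  let := g.toRingHom.toAlgebra
  have : Module.Finite (MvPolynomial (Fin s) k) (A ⧸ N) := hfin
  have hne : ∀ i, ((I i).map (Ideal.Quotient.mk N)).comap (algebraMap (MvPolynomial (Fin s) k) (A ⧸ N)) ≠ ⊥ :=
    fun i h => hI i fun a ha => by
      have h2 := Ideal.mem_map_of_mem (Ideal.Quotient.mk N) ha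
      rw [Ideal.eq_bot_of_comap_eq_bot h, Submodule.mem_bot] at h2
      exact Ideal.Quotient.eq_zero_iff_mem.1 h2
  choose f hfI hf0 using fun i => Submodule.exists_mem_ne_zero_of_ne_bot (hne i)
  obtain ⟨a, ha⟩ := exists_forall_eval_ne_zero s f hf0
  let P : Ideal (MvPolynomial (Fin s) k) := RingHom.ker (MvPolynomial.eval a)
  have : P.IsMaximal := RingHom.ker_isMaximal_of_surjective _ fun c => ⟨MvPolynomial.C c, by simp⟩
  obtain ⟨Q, -, hQ, hQP⟩ := Ideal.exists_ideal_over_prime_of_isIntegral P (⊥ : Ideal (A ⧸ N))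
    (by rw [← RingHom.ker_eq_comap_bot, (RingHom.injective_iff_ker_eq_bot (algebraMap (MvPolynomial (Fin s) k) (A ⧸ N))).1 hinj]; exact bot_le)
  have hQm : Q.IsMaximal := by
    refine Ideal.isMaximal_of_isIntegral_of_isMaximal_comap (R := MvPolynomial (Fin s) k) Q ?_
    rw [hQP]; infer_instance
  refine ⟨Q.comap (Ideal.Quotient.mk N), Ideal.comap_isMaximal_of_surjective _ Ideal.Quotient.mk_surjective,
    fun i hle => ha i ?_⟩
  have h2 : f i ∈ P := hQP.le (Ideal.map_le_iff_le_comap.2 hle (hfI i))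
  exact h2

variable {X : Scheme.{u}} (sX : X ⟶ Spec (CommRingCat.of k)) [LocallyOfFiniteType sX]

include sX in
/-- Countably many proper closed subsets miss a closed point of a nonempty open. -/
theorem exists_closedPoint [IrreducibleSpace X] {ι : Type*} [Countable ι] (Z : ι → Set X)
    (hZc : ∀ i, IsClosed (Z i)) (hZ : ∀ i, Z i ≠ Set.univ) (O : X.Opens) (hO : (O : Set X).Nonempty) :
    ∃ x ∈ O, IsClosed ({x} : Set X) ∧ ∀ i, x ∉ Z i := by
  obtain ⟨x₀, hx₀⟩ := hO
  obtain ⟨U, hU, hxU, hUO⟩ := exists_isAffineOpen_mem_and_subset hx₀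
  have hηU : genericPoint X ∈ U := (genericPoint_specializes x₀).mem_open U.2 hxU
  obtain ⟨q₀, hq₀⟩ := Dim.exists_prime_of_mem hU hηU
  obtain ⟨φ, -, hft⟩ := Dim.exists_algebra sX hU
  let := φ.hom.toAlgebra
  have : Algebra.FiniteType k Γ(X, U) := hft
  have hmin : ∀ q : PrimeSpectrum Γ(X, U), q₀ ≤ q := fun q => by
    rw [← Dim.le_fromSpec_iff hU, hq₀, Scheme.le_iff_specializes]
    exact genericPoint_specializes _
  have hN : nilradical Γ(X, U) = q₀.asIdeal :=
    le_antisymm (nilradical_le_prime _) (fun a ha => by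
      rw [nilradical_eq_sInf, Submodule.mem_sInf]
      exact fun J hJ => hmin ⟨J, hJ⟩ ha)
  choose I hI using fun i => (PrimeSpectrum.isClosed_iff_zeroLocus_ideal _).1
    ((hZc i).preimage hU.fromSpec.continuous)
  have hI' : ∀ i (q : PrimeSpectrum Γ(X, U)), hU.fromSpec q ∈ Z i ↔ I i ≤ q.asIdeal := fun i q =>
    (Set.ext_iff.1 (hI i) q)
  have hnle : ∀ i, ¬ I i ≤ nilradical Γ(X, U) := fun i h => hZ i (Set.eq_univ_of_forall fun x => by
    have : genericPoint X ∈ Z i := by
      rw [← hq₀]; exact (hI' i q₀).2 (hN ▸ h)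
    exact (genericPoint_specializes x).mem_closed (hZc i) this)
  obtain ⟨m, hm, hmI⟩ := exists_isMaximal_notMem (k := k) (A := Γ(X, U)) (by rw [hN]; exact q₀.isPrime) I hnle
  refine ⟨hU.fromSpec ⟨m, hm.isPrime⟩, hUO (Dim.fromSpec_mem hU _), ?_, fun i h => hmI i ((hI' i _).1 h)⟩
  rw [← Dim.height_eq_zero_iff]
  have hcl : IsClosed ({⟨m, hm.isPrime⟩} : Set (PrimeSpectrum Γ(X, U))) :=
    (PrimeSpectrum.isClosed_singleton_iff_isMaximal _).2 hm
  rw [Dim.height_eq_of_isPreimmersion (hU.fromSpec ≫ sX) sX hU.fromSpec rfl]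
  exact (Dim.height_eq_zero_iff (X := Spec Γ(X, U)) _).2 hcl

omit [LocallyOfFiniteType sX] in
include sX in
/-- An irreducible closed set whose closed points are covered by countably many closed sets lies in
one of them. -/
theorem exists_subset_of_cover [LocallyOfFiniteType sX] {ι : Type*} [Countable ι] (Z : ι → Set X)
    (hZc : ∀ i, IsClosed (Z i)) {T : Set X} (hT : IsClosed T) (hTi : IsIrreducible T)
    (hcov : ∀ x ∈ T, IsClosed ({x} : Set X) → ∃ i, x ∈ Z i) : ∃ i, T ⊆ Z i := by
  by_contra h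
  push Not at h
  let J := Scheme.IdealSheafData.vanishingIdeal ⟨T, hT⟩
  have hr : Set.range J.subschemeι = T := by
    rw [Scheme.IdealSheafData.range_subschemeι, Scheme.IdealSheafData.coe_support_vanishingIdeal]
    rfl
  have : IrreducibleSpace T := isIrreducible_iff_irreducibleSpace.1 hTi
  have : IrreducibleSpace J.subscheme :=
    (J.subschemeι.isEmbedding.toHomeomorph.trans (Homeomorph.setCongr hr)).irreducibleSpace_iff.2 this
  obtain ⟨x, -, hxc, hx⟩ := exists_closedPoint (J.subschemeι ≫ sX) (fun i => J.subschemeι ⁻¹' Z i)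
    (fun i => (hZc i).preimage J.subschemeι.continuous)
    (fun i hi => h i fun t ht => by
      obtain ⟨y, rfl⟩ : t ∈ Set.range J.subschemeι := hr.symm ▸ ht
      exact Set.eq_univ_iff_forall.1 hi y) ⊤ ⟨Classical.arbitrary _, trivial⟩
  obtain ⟨i, hi⟩ := hcov (J.subschemeι x) (hr ▸ ⟨x, rfl⟩) (by
    rw [← Set.image_singleton]; exact J.subschemeι.isClosedEmbedding.isClosedMap _ hxc)
  exact hx i hi

end Groth.Variety2.Uncountable
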