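import Mathlib

/-!
The dimension inequality for algebraic finitely generated extensions of Noetherian domains.
-/

universe u

open Polynomial Ideal IsLocalization

namespace Groth.Variety2.AlgDim

attribute [local instance] Polynomial.algebra Polynomial.isLocalization in
theorem height_polynomial_le {R : Type u} [CommRing R] [IsNoetherianRing R] (Q : Ideal R[X])
    [Q.IsPrime] : Q.height ≤ (Q.comap C).height + 1 := by
  let p := Q.comap C
  let Rₚ := Localization.AtPrime p
  have disj : Disjoint (p.primeCompl.map C : Set R[X]) Q := by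
    refine Set.disjoint_left.mpr fun a ⟨b, hb⟩ ha ↦ hb.1 ?_
    change C b ∈ Q
    rw [hb.2]; exact ha
  let Q' : Ideal Rₚ[X] := Q.map (algebraMap R[X] Rₚ[X])
  have hQ' : Q'.IsPrime := IsLocalization.isPrime_of_isPrime_disjoint (p.primeCompl.map C) Rₚ[X] Q ‹_› disj
  obtain ⟨M, hM, hQM⟩ := Ideal.exists_le_maximal Q' hQ'.ne_top
  have eq1 : Q.height = Q'.height := by
    rw [height_map_of_disjoint (Submonoid.map C <| p.primeCompl) _ disj]
  have hmax : IsLocalRing.maximalIdeal Rₚ = M.comap C := by
    refine (IsLocalRing.maximalIdeal.isMaximal Rₚ).eq_of_le (Ideal.IsPrime.ne_top inferInstance) ?_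
    rw [← Localization.AtPrime.map_eq_maximalIdeal, Ideal.map_le_iff_le_comap]
    intro b hb
    have hCb : algebraMap R[X] Rₚ[X] (C b) = C (algebraMap R Rₚ b) := by
      simp [Polynomial.algebraMap_def]
    change C (algebraMap R Rₚ b) ∈ M
    rw [← hCb]
    exact hQM (Ideal.mem_map_of_mem _ hb)
  have : M.LiesOver (IsLocalRing.maximalIdeal Rₚ) := ⟨hmax⟩
  have eq2 := Polynomial.height_eq_height_add_one (IsLocalRing.maximalIdeal Rₚ) M
  have eq3 : (IsLocalRing.maximalIdeal Rₚ).height = p.height := by
    rw [← Localization.AtPrime.map_eq_maximalIdeal, height_map_of_disjoint p.primeCompl]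
    exact Disjoint.symm <| Set.disjoint_left.mpr fun _ a b ↦ b a
  calc Q.height = Q'.height := eq1
    _ ≤ M.height := Ideal.height_mono hQM
    _ = p.height + 1 := by rw [eq2, eq3]

theorem height_add_one_le {P C : Type u} [CommRing P] [IsDomain P] [CommRing C] [IsDomain C]
    (ψ : P →+* C) (hψ : Function.Surjective ψ) (hker : RingHom.ker ψ ≠ ⊥) (Q : Ideal C) [Q.IsPrime] :
    Q.height + 1 ≤ (Q.comap ψ).height := by
  let x : PrimeSpectrum C := ⟨Q, ‹_›⟩
  let y : PrimeSpectrum P := x.comap ψ
  rw [show Q.height = Order.height x from PrimeSpectrum.height_eq_orderHeight x,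
    show (Q.comap ψ).height = Order.height y from PrimeSpectrum.height_eq_orderHeight y]
  have hmono : StrictMono (PrimeSpectrum.comap ψ) :=
    Monotone.strictMono_of_injective (fun a b h => Ideal.comap_mono h)
      (PrimeSpectrum.comap_injective_of_surjective ψ hψ)
  have hser : ∀ l : LTSeries (PrimeSpectrum C), l.last = x →
      (((l.length + 1 : ℕ) : ℕ∞)) ≤ Order.height y := by
    intro l hl
    let l' := (l.map (PrimeSpectrum.comap ψ) hmono)
    have hlt : (⊥ : PrimeSpectrum P) < l'.head := by
      refine lt_of_le_of_ne bot_le fun e => hker (le_antisymm ?_ bot_le)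
      intro a ha
      have h1 : a ∈ l'.head.asIdeal := by
        rw [LTSeries.head_map]
        change ψ a ∈ l.head.asIdeal
        rw [RingHom.mem_ker.1 ha]
        exact zero_mem _
      rw [← e] at h1
      exact h1
    refine le_trans (le_of_eq ?_) (Order.length_le_height (p := l'.cons ⊥ hlt) (x := y)
      (by rw [RelSeries.last_cons, LTSeries.last_map, hl]))
    rw [RelSeries.cons_length]
    rfl
  by_cases htop : Order.height y = ⊤
  · rw [htop]; exact le_top
  obtain ⟨m, hm⟩ := ENat.ne_top_iff_exists.1 htop
  rw [← hm] at hser ⊢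
  have hx : Order.height x ≤ (m - 1 : ℕ) := Order.height_le fun l hl => by
    have := Nat.cast_le.1 (hser l hl)
    exact_mod_cast (show l.length ≤ m - 1 by omega)
  have h1 := Nat.cast_le.1 (hser (RelSeries.singleton _ x) rfl)
  refine (add_le_add hx le_rfl).trans ?_
  exact_mod_cast (show m - 1 + 1 ≤ m by omega)

theorem height_le_height_comap_adjoin {A B : Type u} [CommRing A] [IsDomain A] [IsNoetherianRing A]
    [CommRing B] [IsDomain B] [Algebra A B] [FaithfulSMul A B] [Algebra.IsAlgebraic A B] :
    ∀ (t : Finset B) (Q : Ideal (Algebra.adjoin A (t : Set B))) (_ : Q.IsPrime),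
      Q.height ≤ (Q.comap (algebraMap A (Algebra.adjoin A (t : Set B)))).height := by
  classical
  intro t
  induction t using Finset.induction with
  | empty =>
    intro Q _
    have hsurj : Function.Surjective (algebraMap A (Algebra.adjoin A ((∅ : Finset B) : Set B))) := by
      rintro ⟨b, hb⟩
      rw [Finset.coe_empty, Algebra.adjoin_empty, Algebra.mem_bot] at hb
      obtain ⟨a, rfl⟩ := hb
      exact ⟨a, rfl⟩
    let e := RingEquiv.ofBijective _ ⟨FaithfulSMul.algebraMap_injective A _, hsurj⟩
    exact (RingEquiv.height_comap e Q).ge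
  | insert a t ha ih =>
    intro Q _
    let S := Algebra.adjoin A (t : Set B)
    let S' := Algebra.adjoin A ((insert a t : Finset B) : Set B)
    have hle : S ≤ S' := Algebra.adjoin_mono (by simp)
    have haS : a ∈ S' := Algebra.subset_adjoin (by simp)
    have : IsNoetherianRing S := by
      have : Algebra.FiniteType A S := ⟨(Subalgebra.fg_top S).2 (Subalgebra.fg_adjoin_finset t)⟩
      exact Algebra.FiniteType.isNoetherianRing A S
    let incl : S →+* S' := (Subalgebra.inclusion hle).toRingHom
    let ψ : S[X] →+* S' := Polynomial.eval₂RingHom incl ⟨a, haS⟩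
    have hsurj : Function.Surjective ψ := by
      rintro ⟨b, hb⟩
      have hb' : b ∈ Algebra.adjoin S ({a} : Set B) := by
        rw [← Subalgebra.mem_restrictScalars A, ← Algebra.adjoin_union_eq_adjoin_adjoin]
        simpa [S', Set.union_comm] using hb
      rw [Algebra.adjoin_singleton_eq_range_aeval] at hb'
      obtain ⟨p, hp⟩ := hb'
      refine ⟨p, Subtype.ext ?_⟩
      refine Eq.trans ?_ hp
      change (S'.val : S' →+* B) (Polynomial.eval₂ incl ⟨a, haS⟩ p) = Polynomial.aeval a p
      rw [Polynomial.hom_eval₂]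
      rfl
    have hker : RingHom.ker ψ ≠ ⊥ := by
      obtain ⟨p, hp0, hp⟩ := (Algebra.IsAlgebraic.isAlgebraic (R := A) a).extendScalars
        (S := S) (FaithfulSMul.algebraMap_injective A S)
      intro h
      refine hp0 ((Submodule.eq_bot_iff _).1 h p (Subtype.ext ?_))
      change (S'.val : S' →+* B) (Polynomial.eval₂ incl ⟨a, haS⟩ p) = 0
      rw [Polynomial.hom_eval₂]
      exact hp
    have h1 := height_add_one_le ψ hsurj hker Q
    have h2 := height_polynomial_le (Q.comap ψ)
    have h3 := ih ((Q.comap ψ).comap C) inferInstance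
    rw [Ideal.comap_comap, Ideal.comap_comap] at h3
    have he : ψ.comp (C.comp (algebraMap A S)) = algebraMap A S' := RingHom.ext fun x => by
      simp [ψ, incl]
    rw [RingHom.comp_assoc, he] at h3
    exact (ENat.addLECancellable_of_ne_top ENat.one_ne_top).add_le_add_iff_right.1
      ((h1.trans h2).trans (add_le_add h3 le_rfl))

theorem height_le_height_comap_of_equiv {A B B' : Type u} [CommRing A] [CommRing B] [CommRing B']
    [Algebra A B] [Algebra A B'] (e : B' ≃ₐ[A] B) (Q : Ideal B)
    [Q.IsPrime] (hQ : ∀ P : Ideal B', P.IsPrime → P.height ≤ (P.comap (algebraMap A B')).height) :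
    Q.height ≤ (Q.comap (algebraMap A B)).height := by
  have h1 : (Q.comap (e.toRingEquiv : B' →+* B)).height = Q.height :=
    RingEquiv.height_comap e.toRingEquiv Q
  have h2 : (Q.comap (e.toRingEquiv : B' →+* B)).comap (algebraMap A B') = Q.comap (algebraMap A B) := by
    ext a
    simp
  have h := hQ (Q.comap (e.toRingEquiv : B' →+* B)) (Ideal.IsPrime.comap _)
  rwa [h1, h2] at h

theorem height_le_height_comap {A B : Type u} [CommRing A] [IsDomain A] [IsNoetherianRing A]
    [CommRing B] [IsDomain B] [Algebra A B] [FaithfulSMul A B] [Algebra.FiniteType A B]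
    [Algebra.IsAlgebraic A B] (Q : Ideal B) [Q.IsPrime] :
    Q.height ≤ (Q.comap (algebraMap A B)).height := by
  obtain ⟨s, hs⟩ := ‹Algebra.FiniteType A B›.out
  let e : Algebra.adjoin A (s : Set B) ≃ₐ[A] B := (Subalgebra.equivOfEq _ _ hs).trans Subalgebra.topEquiv
  clear_value e
  have hadj := height_le_height_comap_adjoin (A := A) s
  exact height_le_height_comap_of_equiv e Q hadj

end Groth.Variety2.AlgDim
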