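import Mathlib
import Groth.Agent.Variety2.AlgDim
import Groth.Agent.Variety2.DimScheme

/-!
Generically quasi-finite morphisms do not raise dimension.
-/

universe u

open CategoryTheory AlgebraicGeometry TopologicalSpace

namespace Groth.Variety2.Dim

theorem isAlgebraic_quotient {R S : Type u} [CommRing R] [CommRing S] [Algebra R S]
    (P : Ideal S) [P.IsPrime] [Algebra.QuasiFiniteAt R P] :
    Algebra.IsAlgebraic (R ⧸ P.under R) (S ⧸ P) := by
  let p := P.under R
  let := Localization.AtPrime.algebraOfLiesOver p P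
  have : Module.Finite p.ResidueField P.ResidueField := inferInstance
  have : Algebra.IsAlgebraic p.ResidueField P.ResidueField := inferInstance
  let : Algebra (R ⧸ p) P.ResidueField :=
    ((algebraMap (S ⧸ P) P.ResidueField).comp (algebraMap (R ⧸ p) (S ⧸ P))).toAlgebra
  have : IsScalarTower (R ⧸ p) (S ⧸ P) P.ResidueField := IsScalarTower.of_algebraMap_eq fun _ => rfl
  have : IsScalarTower (R ⧸ p) p.ResidueField P.ResidueField :=
    IsScalarTower.of_algebraMap_eq fun x => by
      obtain ⟨r, rfl⟩ := Ideal.Quotient.mk_surjective x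
      change algebraMap (S ⧸ P) P.ResidueField (Ideal.Quotient.mk P (algebraMap R S r)) =
        algebraMap p.ResidueField P.ResidueField (algebraMap R p.ResidueField r)
      rw [← IsScalarTower.algebraMap_apply R p.ResidueField P.ResidueField]
      rfl
  refine ⟨fun x => ?_⟩
  rw [← isAlgebraic_algebraMap_iff (A := P.ResidueField) (IsFractionRing.injective (S ⧸ P) P.ResidueField),
    IsFractionRing.isAlgebraic_iff (R ⧸ p) p.ResidueField P.ResidueField]
  exact Algebra.IsAlgebraic.isAlgebraic _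

theorem exists_series_of_quotient {R : Type u} [CommRing R] (I : Ideal R) [I.IsPrime]
    (L : LTSeries (PrimeSpectrum R)) (h : I ≤ L.head.asIdeal) (Q : PrimeSpectrum (R ⧸ I))
    (hQ : Q.comap (Ideal.Quotient.mk I) = L.last) : (L.length : ℕ∞) ≤ Q.asIdeal.height := by
  rw [PrimeSpectrum.height_eq_orderHeight]
  have hle : ∀ i, I ≤ (L i).asIdeal := fun i => h.trans (L.head_le i)
  let g : Fin (L.length + 1) → PrimeSpectrum (R ⧸ I) := fun i =>
    ⟨(L i).asIdeal.map (Ideal.Quotient.mk I),
      Ideal.map_isPrime_of_surjective Ideal.Quotient.mk_surjective (by rw [Ideal.mk_ker]; exact hle i)⟩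
  have hg : ∀ i, (g i).comap (Ideal.Quotient.mk I) = L i := fun i => PrimeSpectrum.ext <| by
    change ((L i).asIdeal.map _).comap _ = _
    rw [Ideal.comap_map_of_surjective' _ Ideal.Quotient.mk_surjective, sup_eq_left, Ideal.mk_ker]
    exact hle i
  have hinj := PrimeSpectrum.comap_injective_of_surjective (Ideal.Quotient.mk I) Ideal.Quotient.mk_surjective
  let L' : LTSeries (PrimeSpectrum (R ⧸ I)) := ⟨L.length, g, fun i => by
    have hlt : L i.castSucc < L i.succ := L.step i
    refine lt_of_le_of_ne (Ideal.map_mono hlt.le) fun e => hlt.ne ?_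
    rw [← hg i.castSucc, ← hg i.succ]
    exact congrArg _ (PrimeSpectrum.ext e)⟩
  exact Order.length_le_height (p := L') (le_of_eq (hinj ((hg _).trans hQ.symm)))

variable {X Y : Scheme.{u}}

/-- A series inside an affine open, as a series of primes. -/
theorem exists_primeSeries' {U : X.Opens} (hU : IsAffineOpen U) (l : LTSeries X) (hl : ∀ i, l i ∈ U) :
    ∃ L : LTSeries (PrimeSpectrum Γ(X, U)), L.length = l.length ∧
      hU.fromSpec L.head = l.last ∧ hU.fromSpec L.last = l.head := by
  choose q hq using fun i => exists_prime_of_mem hU (hl i)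
  refine ⟨⟨l.length, fun i => q i.rev, fun i => ?_⟩, rfl, ?_, ?_⟩
  · show q i.castSucc.rev < q i.succ.rev
    rw [← lt_fromSpec_iff hU, hq, hq, Fin.rev_castSucc, Fin.rev_succ]
    exact l.step i.rev
  · change hU.fromSpec (q (0 : Fin (l.length + 1)).rev) = _
    rw [hq, Fin.rev_zero]; rfl
  · change hU.fromSpec (q (Fin.last l.length).rev) = _
    rw [hq, Fin.rev_last]; rfl

set_option synthInstance.maxHeartbeats 400000 in
/-- A morphism quasi-finite at `ξ` does not decrease the height of `ξ`. -/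
theorem height_le_of_quasiFiniteAt [IsLocallyNoetherian Y] (π : X ⟶ Y) [LocallyOfFiniteType π]
    {ξ : X} (hξ : π.QuasiFiniteAt ξ) : Order.height ξ ≤ Order.height (π ξ) := by
  refine Order.height_le fun l hl => ?_
  obtain ⟨U, hU, hyU, -⟩ := exists_isAffineOpen_mem_and_subset (U := ⊤) (Set.mem_univ (π l.head))
  obtain ⟨V, hV, hxV, hVU'⟩ := exists_isAffineOpen_mem_and_subset (U := π ⁻¹ᵁ U) hyU
  have hVU : V ≤ π ⁻¹ᵁ U := hVU'
  have hlV : ∀ i, l i ∈ V := fun i => (Scheme.le_iff_specializes.1 (l.head_le i)).mem_open V.2 hxV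
  obtain ⟨L, hlen, hhead, hlast⟩ := exists_primeSeries' hV l hlV
  have hξV : ξ ∈ V := hl ▸ hlV _
  let P := (hV.primeIdealOf ⟨ξ, hξV⟩)
  have hP : L.head = P := hV.fromSpec.isOpenEmbedding.injective
    ((hhead.trans hl).trans (hV.fromSpec_primeIdealOf ⟨ξ, hξV⟩).symm)
  have hqf := hξ.quasiFiniteAt hV hU hVU hξV
  have := IsLocallyNoetherian.component_noetherian ⟨U, hU⟩
  let φ := (π.appLE U V hVU).hom
  have hft : φ.FiniteType := π.finiteType_appLE hU hV hVU
  let := φ.toAlgebra
  have : Algebra.FiniteType Γ(Y, U) Γ(X, V) := hft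
  have : Algebra.QuasiFiniteAt Γ(Y, U) P.asIdeal := hqf
  have := isAlgebraic_quotient (R := Γ(Y, U)) P.asIdeal
  let p := P.asIdeal.under Γ(Y, U)
  have : IsDomain (Γ(X, V) ⧸ P.asIdeal) := Ideal.Quotient.isDomain _
  have : IsDomain (Γ(Y, U) ⧸ p) := Ideal.Quotient.isDomain _
  have : Algebra.FiniteType (Γ(Y, U) ⧸ p) (Γ(X, V) ⧸ P.asIdeal) :=
    Algebra.FiniteType.of_restrictScalars_finiteType Γ(Y, U) _ _
  have : FaithfulSMul (Γ(Y, U) ⧸ p) (Γ(X, V) ⧸ P.asIdeal) :=
    (faithfulSMul_iff_algebraMap_injective _ _).2 (Ideal.quotientMap_injective' le_rfl)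
  let Q : PrimeSpectrum (Γ(X, V) ⧸ P.asIdeal) :=
    ⟨L.last.asIdeal.map (Ideal.Quotient.mk P.asIdeal), Ideal.map_isPrime_of_surjective
      Ideal.Quotient.mk_surjective (by rw [Ideal.mk_ker, ← hP]; exact L.head_le (Fin.last _))⟩
  have hQ : Q.comap (Ideal.Quotient.mk P.asIdeal) = L.last := PrimeSpectrum.ext <| by
    change (L.last.asIdeal.map _).comap _ = _
    rw [Ideal.comap_map_of_surjective' _ Ideal.Quotient.mk_surjective, sup_eq_left, Ideal.mk_ker, ← hP]
    exact L.head_le (Fin.last _)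
  have h1 := exists_series_of_quotient P.asIdeal L (hP ▸ le_rfl) Q hQ
  have hQp : Q.asIdeal.IsPrime := Q.isPrime
  have h2 := AlgDim.height_le_height_comap (A := Γ(Y, U) ⧸ p) Q.asIdeal
  obtain ⟨L', hL'last, hL'len⟩ := Ideal.exists_ltSeries_length_eq_height
    (Q.asIdeal.comap (algebraMap (Γ(Y, U) ⧸ p) (Γ(X, V) ⧸ P.asIdeal)))
  let L'' : LTSeries (PrimeSpectrum Γ(Y, U)) := L'.map (PrimeSpectrum.comap (Ideal.Quotient.mk p))
    (Monotone.strictMono_of_injective (fun a b h => Ideal.comap_mono h)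
      (PrimeSpectrum.comap_injective_of_surjective _ Ideal.Quotient.mk_surjective))
  have hle : (pointSeries hU L'').last ≤ π ξ := by
    have e : π ξ = hU.fromSpec (P.comap φ) := by
      have h := congr($(IsAffineOpen.SpecMap_appLE_fromSpec π hU hV hVU) P)
      exact ((congrArg π (hV.fromSpec_primeIdealOf ⟨ξ, hξV⟩)).symm.trans h.symm)
    rw [e]
    change hU.fromSpec (L'' (Fin.last L''.length).rev) ≤ _
    rw [Fin.rev_last, le_fromSpec_iff]
    intro a ha
    change Ideal.Quotient.mk p a ∈ (L' 0).asIdeal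
    rw [Ideal.Quotient.eq_zero_iff_mem.2 (show a ∈ p from ha)]
    exact zero_mem _
  have h3 : (L'.length : ℕ∞) ≤ Order.height (π ξ) := Order.length_le_height hle
  calc (l.length : ℕ∞) = L.length := by rw [hlen]
    _ ≤ Q.asIdeal.height := h1
    _ ≤ _ := h2
    _ = L'.length := hL'len.symm
    _ ≤ _ := h3

end Groth.Variety2.Dim
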